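import Groth.Agent.HMProjLib.Limit
import Groth.Agent.S19787

/-!
# Existence of the numerical function
-/

set_option autoImplicit false
set_option backward.isDefEq.respectTransparency false
set_option synthInstance.maxHeartbeats 400000
set_option maxHeartbeats 1000000
set_option linter.style.haveILetI false
set_option linter.unusedSectionVars false

universe u

open CategoryTheory CategoryTheory.Limits MonoidalCategory CartesianMonoidalCategory AlgebraicGeometry
  TopologicalSpace Opposite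

noncomputable section

namespace HMProjLib

open scoped MonObj
open GLinExtLib (rs rs_rs rs_self rs_appLE appLE_rs appLE_appLE' appLE_hom)
open GLinShLib (exists_chart nv)

variable {k : Type u} [Field k] [IsAlgClosed k] {G X : Over (Spec (CommRingCat.of k))} [GrpObj G]
  {a : AlgGrp.Action G X} (B : GLinSh.LinBun G a) (l : Red.Gm (Spec (CommRingCat.of k)) ⟶ G) [IsMonHom l]

/-- Limit points are fixed. -/
theorem isFixedBy_of_isLimitPt {x y : 𝟙_ (Over (Spec (CommRingCat.of k))) ⟶ X} (hy : HMNum.IsLimitPt a l x y) :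
    HMNum.IsFixedBy a l y :=
  (HMNum.isFixedBy_iff a l y).2 fun T' t g => Groth.Agent.S19787.fixed_of_isLimitPt a l hy T' g t

/-- A fixed point carries a weight on the fibre. -/
theorem exists_hasFibreWeight (hB : HMNum.AmpleCover B) {y : 𝟙_ (Over (Spec (CommRingCat.of k))) ⟶ X}
    (hfix : HMNum.IsFixedBy a l y) : ∃ w, HMNum.HasFibreWeight B l y w := by
  let S := Spec (CommRingCat.of k)
  let one := 𝟙_ (Over (Spec (CommRingCat.of k)))
  let Gm := Red.Gm S
  haveI := (fld_unit (k := k)).subsingleton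
  obtain ⟨p⟩ := (fld_unit (k := k)).nonempty
  obtain ⟨K, hK, -⟩ := exists_chart (B := B) (y.left p) (O := ⊤) trivial
  have hU : y.left ⁻¹ᵁ K.U = ⊤ := top_le_iff.1 fun z _ => by
    show y.left z ∈ K.U
    rw [Subsingleton.elim z p]
    exact K.le hK
  obtain ⟨c, hc⟩ := B.lift_linear K.U K.U K.y K.y K.mem K.mem
  let M₀ : Gm ⟶ G ⊗ X := lift l (toUnit Gm ≫ y)
  have hact : M₀ ≫ a.act = toUnit Gm ≫ y := by
    have := hfix Gm (toUnit Gm) (𝟙 Gm)
    rwa [Category.id_comp] at this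
  have hM : ⊤ ≤ M₀.left ⁻¹ᵁ (a.act.left ⁻¹ᵁ K.U ⊓ (snd G X).left ⁻¹ᵁ K.U) := by
    intro z _
    refine ⟨?_, ?_⟩
    · show (M₀ ≫ a.act).left z ∈ K.U
      rw [hact]
      exact (hU.ge : ⊤ ≤ y.left ⁻¹ᵁ K.U) (x := (toUnit Gm).left z) trivial
    · show (M₀ ≫ snd G X).left z ∈ K.U
      rw [lift_snd]
      exact (hU.ge : ⊤ ≤ y.left ⁻¹ᵁ K.U) (x := (toUnit Gm).left z) trivial
  let C : Γ(Gm.left, ⊤) := M₀.left.appLE _ ⊤ hM c
  have hover : ∀ (T' : Over S) (t : T' ⟶ one) (g : T' ⟶ Gm) (v : T' ⟶ B.V), v ≫ B.π = t ≫ y →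
      (lift (g ≫ l) v ≫ B.lift.act) ≫ B.π = t ≫ y := fun T' t g v hv => by
    rw [lift_act_π, hv, hfix T' t g]
  have key : ∀ (T' : Over S) (t : T' ⟶ one) (g : T' ⟶ Gm) (v : T' ⟶ B.V) (hv : v ≫ B.π = t ≫ y)
      (hgv : (lift (g ≫ l) v ≫ B.lift.act) ≫ B.π = t ≫ y),
      HMNum.evalFn B.π K.y (lift (g ≫ l) v ≫ B.lift.act) (HMNum.top_le_preimage B.π hU hgv) =
        g.left.appTop C * HMNum.evalFn B.π K.y v (HMNum.top_le_preimage B.π hU hv) := by
    intro T' t g v hv hgv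
    let m : T' ⟶ G ⊗ B.V := lift (g ≫ l) v
    have hm : m ≫ (G ◁ B.π) = g ≫ M₀ := by
      rw [lift_whiskerLeft, hv, comp_lift, ← Category.assoc g, toUnit_unique (g ≫ toUnit Gm) t]
    have hmL : ⊤ ≤ m.left ⁻¹ᵁ GLinSh.liftOpen a B.π K.U K.U := fun z _ => by
      show (m ≫ (G ◁ B.π)).left z ∈ a.act.left ⁻¹ᵁ K.U ⊓ (snd G X).left ⁻¹ᵁ K.U
      rw [hm]
      exact hM (x := g.left z) trivial
    have e := congrArg (m.left.appLE _ ⊤ hmL) hc
    rw [map_mul, appLE_appLE', appLE_appLE', appLE_appLE'] at e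
    refine Eq.trans ?_ (e.trans (congrArg₂ (· * ·) ?_ ?_))
    · rfl
    · refine Eq.trans ?_ (appTop_appLE g.left M₀.left hM c).symm
      exact appLE_hom (congrArg CommaMorphism.left hm) _ _ c
    · exact appLE_hom (congrArg CommaMorphism.left (lift_snd _ v : m ≫ snd G B.V = v)) _ _ K.y
  -- values with a unit coordinate
  obtain ⟨n, f, hn, hf, hfy, -⟩ := hB.2 (y.left p)
  obtain ⟨cf, hcf⟩ := hf K.U K.y K.mem
  have hunit : ∀ (T : Over S), Fld T → ∃ (T' : Over S) (θ : T' ⟶ T) (v : T' ⟶ B.V)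
      (hv : v ≫ B.π = (θ ≫ toUnit T) ≫ y), Fld T' ∧
        IsUnit (HMNum.evalFn B.π K.y v (HMNum.top_le_preimage B.π hU hv)) := by
    intro T hT
    obtain ⟨t⟩ := hT.nonempty
    obtain ⟨T', θ, v, hT', hv, hu⟩ := exists_lift_unit (toUnit T ≫ y) t hT (by
      show y.left ((toUnit T).left t) ∈ _
      rw [Subsingleton.elim ((toUnit T).left t) p]; exact hfy)
    have hv' : v ≫ B.π = (θ ≫ toUnit T) ≫ y := by rw [hv, Category.assoc]
    have hh : ⊤ ≤ v.left ⁻¹ᵁ (B.π.left ⁻¹ᵁ K.U) := HMNum.top_le_preimage B.π hU hv'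
    have hq : ⊤ ≤ ((θ ≫ toUnit T) ≫ y).left ⁻¹ᵁ K.U := fun z _ => by
      show y.left ((θ ≫ toUnit T).left z) ∈ K.U
      rw [Subsingleton.elim ((θ ≫ toUnit T).left z) p]; exact K.le hK
    rw [ev_eq_coord hcf v hv' hq hh] at hu
    exact ⟨T', θ, v, hv', hT', (isUnit_pow_iff (by omega)).1 (isUnit_of_mul_isUnit_right hu)⟩
  have hC : IsUnit C := by
    refine Gm.left.toLocallyRingedSpace.toRingedSpace.isUnit_of_isUnit_germ ⊤ _ fun q _ => ?_
    refine (Gm.left.mem_basicOpen_top _ q).1 ?_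
    obtain ⟨T, g, hT, hg⟩ := exists_fld q
    obtain ⟨T', θ, v, hv, hT', hu⟩ := hunit T hT
    obtain ⟨t'⟩ := hT'.nonempty
    let g' := θ ≫ g
    let v₁ := lift (g' ≫ l) v ≫ B.lift.act
    have hv₁ := hover T' _ g' v hv
    obtain ⟨gi, hgi⟩ := exists_inv_pt l g'
    have hback : lift (gi ≫ l) v₁ ≫ B.lift.act = v := by
      rw [← B.lift.lift_mul_act, hgi, B.lift.lift_one_act]
    have e1 := key T' _ g' v hv hv₁
    have e2 := key T' _ gi v₁ hv₁ (hover T' _ _ v₁ hv₁)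
    simp only [hback] at e2
    rw [e1, ← mul_assoc] at e2
    have hu' : IsUnit (g'.left.appTop C) := by
      rw [e2] at hu
      exact isUnit_of_mul_isUnit_right (isUnit_of_mul_isUnit_left hu)
    rw [← hg (θ.left t'), show g.left (θ.left t') = g'.left t' from rfl, mem_basicOpen_iff_isUnit hT' g' C t']
    exact hu'
  have h1 : (GmPts.ptOfUnit (1 : (Γ(one.left, ⊤))ˣ) : one ⟶ Gm).left.appTop C = 1 := by
    obtain ⟨T', θ, v, hv, hT', hu⟩ := hunit one fld_unit
    have hid : lift ((1 : T' ⟶ Gm) ≫ l) v ≫ B.lift.act = v := by rw [MonObj.one_comp, B.lift.lift_one_act]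
    have e := key T' _ 1 v hv (by rw [hid]; exact hv)
    simp only [hid] at e
    have e' : (1 : T' ⟶ Gm).left.appTop C = 1 := (hu.mul_eq_right).1 e.symm
    rw [show (1 : T' ⟶ Gm) = θ ≫ GmPts.ptOfUnit (1 : (Γ(one.left, ⊤))ˣ) by
      rw [GmPts.ptOfUnit_one, MonObj.comp_one]] at e'
    refine injective_of_fld' fld_unit hT' θ ?_
    rw [map_one]
    exact (ev_comp _ _ _).symm.trans e'
  obtain ⟨w, hw⟩ := exists_eq_zpow hC h1
  refine ⟨w, hfix, K.U, K.y, K.mem, hU, fun T' t g v hv hgv => ?_⟩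
  rw [key T' t g v hv hgv, hw]
  congr 1
  show ((Units.map g.left.appTop.hom.toMonoidHom) (_ ^ w) : (Γ(T'.left, ⊤))ˣ).val = _
  rw [map_zpow, ← GmPts.unitOfPt_comp, Category.comp_id]
where
  injective_of_fld' {T T' : Over (Spec (CommRingCat.of k))} (hT : Fld T) (hT' : Fld T') (θ : T' ⟶ T) :
      Function.Injective θ.left.appTop := fun x y e => by
    haveI := hT'.nontrivial
    by_contra hne
    have hu : IsUnit (x - y) := hT.isUnit_iff.2 (sub_ne_zero.2 hne)
    have := hu.map θ.left.appTop.hom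
    rw [map_sub, e, sub_self] at this
    exact not_isUnit_zero this

/-- The numerical function takes a value. -/
theorem exists_isMu [IsProper X.hom] (hB : HMNum.AmpleCover B) (x : 𝟙_ (Over (Spec (CommRingCat.of k))) ⟶ X) :
    ∃ m, HMNum.IsMu B l x m := by
  obtain ⟨y, hy⟩ := exists_isLimitPt a l x
  obtain ⟨w, hw⟩ := exists_hasFibreWeight B l hB (isFixedBy_of_isLimitPt l hy)
  exact ⟨-w, y, hy, by rwa [neg_neg]⟩

end HMProjLib
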