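import Groth.Agent.HMProjLib.Torus
import Groth.Agent.HMProjLib.Weight

/-!
# The numerical function of a torus
-/

set_option autoImplicit false
set_option backward.isDefEq.respectTransparency false
set_option synthInstance.maxHeartbeats 400000
set_option maxHeartbeats 1000000
set_option linter.style.haveILetI false
set_option linter.unusedSectionVars false

universe u

open CategoryTheory CategoryTheory.Limits MonoidalCategory CartesianMonoidalCategory AlgebraicGeometry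
  TopologicalSpace Opposite

noncomputable section

namespace HMProjLib

open scoped MonObj

variable {k : Type u} [Field k] [IsAlgClosed k] {G X T : Over (Spec (CommRingCat.of k))} [GrpObj G] [GrpObj T]
  {a : AlgGrp.Action G X} (B : GLinSh.LinBun G a)

/-- The numerical function of a torus is a maximum of additive functionals. -/
theorem exists_functionals [IsProper X.hom] (hT : Red.IsTorus T) (i : T ⟶ G) [IsMonHom i]
    (hB : HMNum.AmpleCover B) :
    ∃ (n : ℕ) (ℓ : Fin n → (Red.Gm (Spec (CommRingCat.of k)) ⟶ T) → ℚ),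
      (∀ (j : Fin n) (l₁ l₂ : Red.Gm (Spec (CommRingCat.of k)) ⟶ T) [IsMonHom l₁] [IsMonHom l₂],
          ℓ j (l₁ * l₂) = ℓ j l₁ + ℓ j l₂) ∧
      ∀ (x : 𝟙_ (Over (Spec (CommRingCat.of k))) ⟶ X), ∃ I : Finset (Fin n),
        ∀ (l : Red.Gm (Spec (CommRingCat.of k)) ⟶ T) [IsMonHom l] (m : ℤ),
          HMNum.IsMu B (l ≫ i) x m ↔ ∃ j ∈ I, (m : ℚ) = ℓ j l ∧ ∀ j' ∈ I, ℓ j' l ≤ ℓ j l := by
  classical
  obtain ⟨⟨M⟩, hA, hR, hF⟩ := exists_mono hT
  haveI := hA
  haveI := hR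
  haveI := hF
  obtain ⟨N, n, c, b, hb, hcov⟩ := exists_cover M i hB
  obtain ⟨p⟩ := (fld_unit (k := k)).nonempty
  let ℓ : Fin N → (Red.Gm (Spec (CommRingCat.of k)) ⟶ T) → ℚ := fun j l => -(deg M (c j) l : ℚ) / n j
  refine ⟨N, ℓ, fun j l₁ l₂ _ _ => ?_, fun x => ⟨Finset.univ.filter fun j => x.left p ∈ GLinSh.nonvanishing B.π (b j),
    fun l _ m => ?_⟩⟩
  · simp only [ℓ, deg_mul, Int.cast_add]
    ring
  have hmax : ∀ m : ℤ, HMNum.IsMu B (l ≫ i) x m →
      ∃ j ∈ Finset.univ.filter (fun j => x.left p ∈ GLinSh.nonvanishing B.π (b j)), (m : ℚ) = ℓ j l ∧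
        ∀ j' ∈ Finset.univ.filter (fun j => x.left p ∈ GLinSh.nonvanishing B.π (b j)), ℓ j' l ≤ ℓ j l := by
    intro m hm
    obtain ⟨y, -, hy⟩ := mul_eq_of_isMu hm p
    obtain ⟨j, hj⟩ := hcov (y.left p)
    obtain ⟨hr, hx, hall⟩ := hy (n j) _ (b j) (hb j).1 (hb j).2.1 (isEig_of_monomial M i (hb j).2.2 l) hj
    have hnj : (0 : ℚ) < n j := by exact_mod_cast (hb j).1
    have hℓ : (m : ℚ) = ℓ j l := by
      simp only [ℓ, hr, Int.cast_neg, Int.cast_mul, Int.cast_natCast]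
      field_simp
    refine ⟨j, Finset.mem_filter.2 ⟨Finset.mem_univ _, hx⟩, hℓ, fun j' hj' => ?_⟩
    have h := hall (n j') _ (b j') (hb j').1 (hb j').2.1 (isEig_of_monomial M i (hb j').2.2 l)
      (Finset.mem_filter.1 hj').2
    have hnj' : (0 : ℚ) < n j' := by exact_mod_cast (hb j').1
    rw [← hℓ]
    simp only [ℓ]
    rw [div_le_iff₀ hnj']
    have : (-((n j' : ℤ) * m) : ℚ) ≤ (deg M (c j') l : ℚ) := by exact_mod_cast h
    push_cast at this
    linarith
  refine ⟨hmax m, fun ⟨j, hj, hm, hle⟩ => ?_⟩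
  obtain ⟨m', hm'⟩ := exists_isMu B (l ≫ i) hB x
  obtain ⟨j', hj', hm'', hle'⟩ := hmax m' hm'
  have : (m : ℚ) = m' := by rw [hm, hm'']; exact le_antisymm (hle' j hj) (hle j' hj')
  obtain rfl : m = m' := by exact_mod_cast this
  exact hm'

end HMProjLib
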