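import Groth.Agent.HMProjLib.Pts
import Groth.Prelude.Def_HMNum
import Groth.Agent.GLinExtLib.Coord
import Groth.Agent.GLinShLib.Coords

/-!
# Affineness of nonvanishing loci
-/

set_option autoImplicit false
set_option backward.isDefEq.respectTransparency false
set_option synthInstance.maxHeartbeats 400000
set_option maxHeartbeats 1000000
set_option linter.style.haveILetI false
set_option linter.unusedSectionVars false

universe u

open CategoryTheory CategoryTheory.Limits MonoidalCategory CartesianMonoidalCategory AlgebraicGeometry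
  TopologicalSpace Opposite

noncomputable section

namespace HMProjLib

open scoped MonObj
open ChowLib (PZ Dplus isAffineOpen_Dplus)

variable {k : Type u} [Field k] {G X : Over (Spec (CommRingCat.of k))} [GrpObj G] {a : AlgGrp.Action G X}
  (B : GLinSh.LinBun G a)

/-- The trivial action of the trivial group. -/
def trivAct (Y : Over (Spec (CommRingCat.of k))) : AlgGrp.Action (𝟙_ (Over (Spec (CommRingCat.of k)))) Y where
  act := snd _ _
  one_act := by
    rw [whiskerRight_snd]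
    exact (leftUnitor_hom _).symm
  mul_act := by
    rw [whiskerRight_snd, whiskerLeft_snd]
    simp

/-- The underlying line bundle, linearised for the trivial group. -/
def trivBun : GLinSh.LinBun (𝟙_ (Over (Spec (CommRingCat.of k)))) (trivAct X) where
  V := B.V
  π := B.π
  atlas := B.atlas
  lift := trivAct B.V
  lift_π := (whiskerLeft_snd _ _).symm
  lift_linear := by
    intro U U' y y' hy hy'
    obtain ⟨c, -, hc⟩ := B.atlas.linear U U' y y' hy hy'
    let one := 𝟙_ (Over (Spec (CommRingCat.of k)))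
    have hD : (trivAct X).act.left ⁻¹ᵁ U' ⊓ (snd one X).left ⁻¹ᵁ U ≤ (snd one X).left ⁻¹ᵁ (U ⊓ U') :=
      fun z hz => ⟨hz.2, hz.1⟩
    refine ⟨(snd one X).left.appLE (U ⊓ U') _ hD c, ?_⟩
    let L := GLinSh.liftOpen (trivAct X) B.π U U'
    have e1 : (one ◁ B.π) ≫ snd one X = snd one B.V ≫ B.π := whiskerLeft_snd _ _
    have hL : L ≤ (snd one B.V).left ⁻¹ᵁ (B.π.left ⁻¹ᵁ (U ⊓ U')) := fun z hz => by
      show (snd one B.V ≫ B.π).left z ∈ U ⊓ U'
      rw [← e1]
      exact ⟨hz.2, hz.1⟩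
    have e := congrArg ((snd one B.V).left.appLE _ L hL) hc
    rw [map_mul, Scheme.Hom.app_eq_appLE, GLinExtLib.appLE_appLE'] at e
    rw [GLinExtLib.appLE_appLE']
    refine Eq.trans ?_ (e.trans (congrArg₂ (· * ·) ?_ ?_))
    · exact (GLinExtLib.appLE_rs _ _ _ _).symm
    · exact GLinExtLib.appLE_hom (congrArg CommaMorphism.left e1.symm) _ _ c
    · exact GLinExtLib.appLE_rs _ _ _ _

theorem isInvSection_trivBun {n : ℕ} {f : Γ(B.V.left, ⊤)} (hf : GLinSh.HasWeight B.atlas.chart n f) :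
    (trivBun B).IsInvSection n f :=
  ⟨hf, rfl⟩

/-- Common weights. -/
theorem exists_common_weight (hB : HMNum.AmpleCover B) :
    ∃ M : ℕ, 1 ≤ M ∧ ∀ x : X.left, ∃ g : Γ(B.V.left, ⊤), ∃ hg : GLinSh.HasWeight B.atlas.chart M g,
      x ∈ GLinSh.nonvanishing B.π g ∧ IsAffineOpen (GLinShLib.nv hg) := by
  haveI := hB.1
  choose n f hn hf hx U hU hUa using hB.2
  obtain ⟨s, hs⟩ := CompactSpace.elim_nhds_subcover (fun z : X.left => GLinSh.nonvanishing B.π (f z))
    (fun z => (GLinShLib.isOpen_nonvanishing (hf z)).mem_nhds (hx z))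
  have hM : 1 ≤ ∏ z ∈ s, n z := Finset.one_le_prod fun z _ => hn z
  refine ⟨∏ z ∈ s, n z, hM, fun x => ?_⟩
  obtain ⟨z, hz, hxz⟩ := Set.mem_iUnion₂.1 (show x ∈ ⋃ w ∈ s, GLinSh.nonvanishing B.π (f w) by rw [hs]; trivial)
  obtain ⟨d, hd⟩ := Finset.dvd_prod_of_mem n hz
  have hd1 : 1 ≤ d := by
    rcases Nat.eq_zero_or_pos d with rfl | h
    · rw [mul_zero] at hd; omega
    · exact h
  have hw : GLinSh.HasWeight B.atlas.chart (∏ z ∈ s, n z) (f z ^ d) := by
    rw [hd]; exact GLinShLib.hasWeight_pow (hf z) d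
  refine ⟨f z ^ d, hw, ?_, ?_⟩
  · rw [GLinShLib.nonvanishing_pow _ hd1]; exact hxz
  · convert hUa z
    ext1
    rw [hU z]
    exact GLinShLib.nonvanishing_pow _ hd1

/-- Nonvanishing loci of sections of an ample bundle on a proper scheme are affine. -/
theorem isAffineOpen_nv [IsProper X.hom] (hB : HMNum.AmpleCover B) {n : ℕ} (hn : 1 ≤ n) {f : Γ(B.V.left, ⊤)}
    (hf : GLinSh.HasWeight B.atlas.chart n f) : IsAffineOpen (GLinShLib.nv hf) := by
  haveI := hB.1
  obtain ⟨M, hM, hcov⟩ := exists_common_weight B hB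
  choose g hg hgx hga using hcov
  obtain ⟨s, hs⟩ := CompactSpace.elim_nhds_subcover (fun z : X.left => GLinSh.nonvanishing B.π (g z))
    (fun z => (GLinShLib.isOpen_nonvanishing (hg z)).mem_nhds (hgx z))
  let e := s.equivFin.symm
  let F : Fin (s.card + 1) → Γ(B.V.left, ⊤) := Fin.cons (f ^ M) fun j => g (e j).1 ^ n
  have hF : ∀ j, (trivBun B).IsInvSection (n * M) (F j) := fun j => by
    refine isInvSection_trivBun B ?_
    cases j using Fin.cases with
    | zero => exact GLinShLib.hasWeight_pow hf M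
    | succ j =>
      rw [mul_comm]
      exact GLinShLib.hasWeight_pow (hg _) n
  have hN : ∀ j : Fin s.card, GLinShLib.Nj hF j.succ = GLinShLib.nv (hg (e j).1) := fun j => by
    ext1
    exact GLinShLib.nonvanishing_pow _ hn
  have hN0 : GLinShLib.Nj hF 0 = GLinShLib.nv hf := by
    ext1
    exact GLinShLib.nonvanishing_pow _ hM
  have htop : (⊤ : X.left.Opens) = ⨆ j : (Set.univ : Set (Fin (s.card + 1))), GLinShLib.Nj hF j.1 := by
    refine (top_le_iff.1 fun x _ => ?_).symm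
    obtain ⟨z, hz, hxz⟩ := Set.mem_iUnion₂.1 (show x ∈ ⋃ w ∈ s, GLinSh.nonvanishing B.π (g w) by rw [hs]; trivial)
    refine Opens.mem_iSup.2 ⟨⟨(e.symm ⟨z, hz⟩).succ, trivial⟩, ?_⟩
    rw [hN, e.apply_symm_apply]
    exact hxz
  let φ : X.left ⟶ PZ.{u} s.card := X.left.topIso.inv ≫ GLinShLib.toP hF Set.univ htop
  have hφ : ∀ l, φ ⁻¹ᵁ Dplus l = GLinShLib.Nj hF l := fun l => by
    rw [Scheme.Hom.comp_preimage, GLinShLib.toP_preimage]
    ext x
    rfl
  let a₀ := specULiftZIsTerminal.{u}.from (PZ.{u} s.card)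
  let b₀ := specULiftZIsTerminal.{u}.from (Spec (CommRingCat.of k))
  haveI : IsSeparated a₀ :=
    haveI : IsSeparated (a₀ ≫ terminal.from _) := by
      rw [terminal.hom_ext (a₀ ≫ terminal.from _) (terminal.from _)]
      exact inferInstanceAs (IsSeparated (terminal.from (Proj _)))
    IsSeparated.of_comp a₀ (terminal.from _)
  haveI : IsAffineHom b₀ := inferInstance
  haveI : IsAffineHom (pullback.fst a₀ b₀) := MorphismProperty.pullback_fst _ _ ‹IsAffineHom b₀›
  let ψ : X.left ⟶ pullback a₀ b₀ := pullback.lift φ X.hom (specULiftZIsTerminal.hom_ext _ _)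
  haveI : IsProper (ψ ≫ pullback.snd a₀ b₀) := by rw [pullback.lift_snd]; infer_instance
  haveI : IsProper ψ := IsProper.of_comp ψ (pullback.snd a₀ b₀)
  have hψ : ψ ≫ pullback.fst a₀ b₀ = φ := pullback.lift_fst _ _ _
  have hpre : ∀ l, IsAffineOpen (pullback.fst a₀ b₀ ⁻¹ᵁ Dplus l) ∧
      ψ ⁻¹ᵁ (pullback.fst a₀ b₀ ⁻¹ᵁ Dplus l) = GLinShLib.Nj hF l := fun l => by
    refine ⟨(isAffineOpen_Dplus l).preimage _, ?_⟩
    rw [← hφ l, ← hψ]
    rfl
  haveI : IsAffineHom ψ := by
    refine isAffineHom_of_forall_exists_isAffineOpen _ fun P => ?_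
    by_cases hP : P ∈ Set.range ψ
    · obtain ⟨x, rfl⟩ := hP
      obtain ⟨z, hz, hxz⟩ := Set.mem_iUnion₂.1 (show x ∈ ⋃ w ∈ s, GLinSh.nonvanishing B.π (g w) by rw [hs]; trivial)
      let j := (e.symm ⟨z, hz⟩).succ
      have hx : x ∈ GLinShLib.Nj hF j := by rw [hN, e.apply_symm_apply]; exact hxz
      refine ⟨_, ?_, (hpre j).1, ?_⟩
      · show x ∈ ψ ⁻¹ᵁ (pullback.fst a₀ b₀ ⁻¹ᵁ Dplus j)
        rw [(hpre j).2]; exact hx
      · rw [(hpre j).2, hN]; exact hga _
    · obtain ⟨_, ⟨W, hW, rfl⟩, hPW, hWr⟩ := (pullback a₀ b₀).isBasis_affineOpens.exists_subset_of_mem_open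
        (show P ∈ (Set.range ψ)ᶜ from hP) ψ.isClosedMap.isClosed_range.isOpen_compl
      refine ⟨W, hPW, hW, ?_⟩
      rw [show ψ ⁻¹ᵁ W = ⊥ from eq_bot_iff.2 fun x hx => absurd ⟨x, rfl⟩ (hWr hx)]
      exact isAffineOpen_bot _
  rw [← hN0, ← (hpre 0).2]
  exact (hpre 0).1.preimage ψ

end HMProjLib
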