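import Groth.Agent.HMProjLib.Pts
import Groth.Agent.GaGmKerLib.Pts
import Groth.Prelude.Def_GmPts

/-!
# The multiplicative group over a field
-/

set_option autoImplicit false
set_option backward.isDefEq.respectTransparency false
set_option synthInstance.maxHeartbeats 400000
set_option maxHeartbeats 1000000
set_option linter.style.haveILetI false
set_option linter.unusedSectionVars false

universe u

open CategoryTheory CategoryTheory.Limits MonoidalCategory CartesianMonoidalCategory AlgebraicGeometry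
  TopologicalSpace Opposite

noncomputable section

namespace HMProjLib

open Groth.Agent.GaGmKer (algMap algMap_comp specOver γ γ_bijective algMap_specOver homOf homOf_appTop hom_ext_of_appTop)
open LaurentPolynomial (T)
open scoped LaurentPolynomial

variable {k : Type u} [Field k]

/-- Units of Laurent polynomials over a field are monomials. -/
theorem exists_eq_C_mul_T {f : k[T;T⁻¹]} (hf : IsUnit f) : ∃ (c : k) (d : ℤ), f = LaurentPolynomial.C c * T d := by
  obtain ⟨g, hg⟩ := hf.exists_right_inv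
  obtain ⟨n, p, hp⟩ := LaurentPolynomial.exists_T_pow f
  obtain ⟨m, q, hq⟩ := LaurentPolynomial.exists_T_pow g
  have h : p * q = Polynomial.X ^ (n + m) := by
    refine Polynomial.toLaurent_injective ?_
    rw [map_mul, hp, hq, Polynomial.toLaurent_X_pow, mul_mul_mul_comm, hg, one_mul, ← LaurentPolynomial.T_add,
      Nat.cast_add]
  obtain ⟨j, -, hj⟩ := (dvd_prime_pow Polynomial.prime_X (n + m)).1 ⟨q, h.symm⟩
  obtain ⟨u, hu⟩ := hj.symm
  obtain ⟨c, -, hc⟩ := Polynomial.isUnit_iff.1 u.isUnit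
  refine ⟨c, (j : ℤ) - n, ?_⟩
  rw [← hu, ← hc, map_mul, Polynomial.toLaurent_X_pow, Polynomial.toLaurent_C] at hp
  refine (LaurentPolynomial.isUnit_T (n : ℤ)).mul_left_inj.1 ?_
  rw [← hp, mul_assoc, ← LaurentPolynomial.T_add, sub_add_cancel, mul_comm]

variable (k) in
/-- The evaluation of Laurent polynomials on the multiplicative group. -/
def evGm : k[T;T⁻¹] →+* Γ((Red.Gm (Spec (CommRingCat.of k))).left, ⊤) :=
  LaurentPolynomial.eval₂ (algMap _) (GmPts.unitOfPt (𝟙 (Red.Gm (Spec (CommRingCat.of k)))))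

theorem T_eq_unit_zpow (m : ℤ) :
    (((LaurentPolynomial.isUnit_T (R := k) 1).unit ^ m : (k[T;T⁻¹])ˣ) : k[T;T⁻¹]) = T m := by
  induction m using Int.induction_on with
  | zero => simp
  | succ m ih => rw [zpow_add_one, Units.val_mul, ih, IsUnit.unit_spec, LaurentPolynomial.T_add]
  | pred m ih =>
    rw [zpow_sub_one, Units.val_mul, ih, sub_eq_add_neg, LaurentPolynomial.T_add]
    congr 1
    refine Units.inv_eq_of_mul_eq_one_right ?_
    rw [IsUnit.unit_spec, ← LaurentPolynomial.T_add]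
    simp

/-- The model of the multiplicative group. -/
theorem exists_model : ∃ e : specOver (LaurentPolynomial.C : k →+* k[T;T⁻¹]) ≅ Red.Gm (Spec (CommRingCat.of k)),
    ∀ q, e.hom.left.appTop (evGm k q) = γ LaurentPolynomial.C q := by
  let G := Red.Gm (Spec (CommRingCat.of k))
  let Q : Over (Spec (CommRingCat.of k)) := specOver (LaurentPolynomial.C : k →+* k[T;T⁻¹])
  let tU : (k[T;T⁻¹])ˣ := (LaurentPolynomial.isUnit_T 1).unit
  haveI : IsAffine Q.left := inferInstanceAs (IsAffine (Spec _))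
  let p₀ : Q ⟶ G := GmPts.ptOfUnit (Units.map (γ (LaurentPolynomial.C : k →+* k[T;T⁻¹])).toMonoidHom tU)
  let ρ : Γ(Q.left, ⊤) →+* Γ(G.left, ⊤) :=
    (evGm k).comp (Scheme.ΓSpecIso (CommRingCat.of k[T;T⁻¹])).hom.hom
  have hρ : ∀ q, ρ (γ LaurentPolynomial.C q) = evGm k q := fun q => by
    show evGm k ((Scheme.ΓSpecIso (CommRingCat.of k[T;T⁻¹])).hom
      ((Scheme.ΓSpecIso (CommRingCat.of k[T;T⁻¹])).inv q)) = _
    rw [Iso.inv_hom_id_apply]
  let r : G ⟶ Q := homOf ρ (by
    rw [algMap_specOver]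
    exact RingHom.ext fun a => (hρ (LaurentPolynomial.C a)).trans (LaurentPolynomial.eval₂_C _ _ _))
  have hp₀ : GmPts.unitOfPt p₀ = Units.map (γ (LaurentPolynomial.C : k →+* k[T;T⁻¹])).toMonoidHom tU :=
    GmPts.unitOfPt_ptOfUnit _
  have key : ∀ q : k[T;T⁻¹], p₀.left.appTop (evGm k q) = γ LaurentPolynomial.C q := by
    intro q
    induction q using LaurentPolynomial.induction_on' with
    | add p q hp hq => simp only [map_add, hp, hq]
    | C_mul_T j a =>
      rw [evGm, map_mul, LaurentPolynomial.eval₂_C, LaurentPolynomial.eval₂_T, map_mul, map_mul]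
      congr 1
      · exact (RingHom.congr_fun (algMap_comp p₀) a).trans
          (RingHom.congr_fun (algMap_specOver LaurentPolynomial.C) a)
      · have e1 : Units.map p₀.left.appTop.hom.toMonoidHom (GmPts.unitOfPt (𝟙 G)) =
            GmPts.unitOfPt p₀ := by rw [← GmPts.unitOfPt_comp, Category.comp_id]
        calc p₀.left.appTop ((GmPts.unitOfPt (𝟙 G) ^ j : (Γ(G.left, ⊤))ˣ) : Γ(G.left, ⊤))
            = ((Units.map p₀.left.appTop.hom.toMonoidHom (GmPts.unitOfPt (𝟙 G)) ^ j :
                (Γ(Q.left, ⊤))ˣ) : Γ(Q.left, ⊤)) := by rw [← map_zpow]; rfl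
          _ = γ LaurentPolynomial.C (T j) := by
            rw [e1, hp₀, ← map_zpow, Units.coe_map, ← T_eq_unit_zpow]
            rfl
  have hr1 : r ≫ p₀ = 𝟙 G := by
    apply GmPts.gmFn_injective
    show Red.gmFn (r ≫ p₀) = Red.gmFn (𝟙 G)
    rw [GmPts.gmFn_comp, ← GmPts.val_unitOfPt, hp₀, Units.coe_map]
    show r.left.appTop (γ LaurentPolynomial.C ((LaurentPolynomial.isUnit_T (R := k) 1).unit : (k[T;T⁻¹])ˣ).val) = _
    rw [IsUnit.unit_spec, homOf_appTop, hρ, evGm, LaurentPolynomial.eval₂_T, zpow_one]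
    rfl
  have hr2 : p₀ ≫ r = 𝟙 Q := by
    apply hom_ext_of_appTop
    intro a
    obtain ⟨q, rfl⟩ := (γ_bijective (LaurentPolynomial.C : k →+* k[T;T⁻¹])).2 a
    rw [Over.comp_left, GmPts.appTop_comp_apply, homOf_appTop, hρ]
    simp only [Over.id_left, Scheme.Hom.id_appTop, CommRingCat.id_apply]
    exact key q
  exact ⟨⟨p₀, r, hr2, hr1⟩, key⟩

theorem gm_facts : IsIntegral (Red.Gm (Spec (CommRingCat.of k))).left ∧
    IsAffine (Red.Gm (Spec (CommRingCat.of k))).left ∧ Function.Bijective (evGm k) := by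
  obtain ⟨e, he⟩ := exists_model (k := k)
  haveI : IsIntegral (specOver (LaurentPolynomial.C : k →+* k[T;T⁻¹])).left :=
    inferInstanceAs (IsIntegral (Spec (CommRingCat.of k[T;T⁻¹])))
  haveI : IsAffine (specOver (LaurentPolynomial.C : k →+* k[T;T⁻¹])).left := inferInstanceAs (IsAffine (Spec _))
  haveI : IsIso e.hom.left := inferInstanceAs (IsIso ((Over.forget _).mapIso e).hom)
  haveI : Nonempty (Red.Gm (Spec (CommRingCat.of k))).left :=
    Nonempty.map e.hom.left inferInstance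
  refine ⟨isIntegral_of_isOpenImmersion (inv e.hom.left), IsAffine.of_isIso (inv e.hom.left), ?_⟩
  have hb : Function.Bijective e.hom.left.appTop := ConcreteCategory.bijective_of_isIso _
  refine ⟨fun p q h => (γ_bijective LaurentPolynomial.C).1 (by rw [← he, ← he, h]), fun s => ?_⟩
  obtain ⟨q, hq⟩ := (γ_bijective (LaurentPolynomial.C : k →+* k[T;T⁻¹])).2 (e.hom.left.appTop s)
  exact ⟨q, hb.1 ((he q).trans hq)⟩

instance : IsIntegral (Red.Gm (Spec (CommRingCat.of k))).left := gm_facts.1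
instance : IsAffine (Red.Gm (Spec (CommRingCat.of k))).left := gm_facts.2.1

/-- A unit on the multiplicative group with value one at one is a power of the coordinate. -/
theorem exists_eq_zpow [IsAlgClosed k] {C : Γ((Red.Gm (Spec (CommRingCat.of k))).left, ⊤)} (hC : IsUnit C)
    (h1 : (GmPts.ptOfUnit (1 : (Γ((𝟙_ (Over (Spec (CommRingCat.of k)))).left, ⊤))ˣ) :
      𝟙_ (Over (Spec (CommRingCat.of k))) ⟶ Red.Gm (Spec (CommRingCat.of k))).left.appTop C = 1) :
    ∃ d : ℤ, C = ((GmPts.unitOfPt (𝟙 (Red.Gm (Spec (CommRingCat.of k)))) ^ d :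
      (Γ((Red.Gm (Spec (CommRingCat.of k))).left, ⊤))ˣ) : Γ((Red.Gm (Spec (CommRingCat.of k))).left, ⊤)) := by
  have hb := (gm_facts (k := k)).2.2
  let e := RingEquiv.ofBijective (evGm k) hb
  obtain ⟨c, d, hq⟩ := exists_eq_C_mul_T (hC.map e.symm)
  have hCe : C = evGm k (LaurentPolynomial.C c * T d) := by
    rw [← hq]; exact (e.apply_symm_apply C).symm
  rw [evGm, map_mul, LaurentPolynomial.eval₂_C, LaurentPolynomial.eval₂_T] at hCe
  refine ⟨d, ?_⟩
  let one := 𝟙_ (Over (Spec (CommRingCat.of k)))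
  let p : one ⟶ Red.Gm (Spec (CommRingCat.of k)) := GmPts.ptOfUnit 1
  have hp : Units.map p.left.appTop.hom.toMonoidHom (GmPts.unitOfPt (𝟙 (Red.Gm (Spec (CommRingCat.of k))))) = 1 := by
    rw [← GmPts.unitOfPt_comp, Category.comp_id, GmPts.unitOfPt_ptOfUnit]
  rw [hCe, map_mul] at h1
  have h2 : p.left.appTop ((GmPts.unitOfPt (𝟙 (Red.Gm (Spec (CommRingCat.of k)))) ^ d :
      (Γ((Red.Gm (Spec (CommRingCat.of k))).left, ⊤))ˣ) : Γ((Red.Gm (Spec (CommRingCat.of k))).left, ⊤)) = 1 := by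
    show ((Units.map p.left.appTop.hom.toMonoidHom) (_ ^ d) : (Γ(one.left, ⊤))ˣ).val = 1
    rw [map_zpow, hp, one_zpow, Units.val_one]
  rw [h2, mul_one, show p.left.appTop (algMap _ c) = algMap one c from RingHom.congr_fun (algMap_comp p) c] at h1
  haveI := (fld_unit (k := k)).nontrivial
  have hc : c = 1 := (algMap one).injective (h1.trans (map_one _).symm)
  rw [hCe, hc, map_one, one_mul]

/-- Exponents are unique. -/
theorem zpow_unitOfPt_injective [IsAlgClosed k] {d d' : ℤ}
    (h : GmPts.unitOfPt (𝟙 (Red.Gm (Spec (CommRingCat.of k)))) ^ d =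
      GmPts.unitOfPt (𝟙 (Red.Gm (Spec (CommRingCat.of k)))) ^ d') : d = d' := by
  by_contra hne
  obtain ⟨u, hu⟩ := (fld_unit (k := k)).exists_unit_zpow_ne (sub_ne_zero.2 hne)
  apply hu
  let g : 𝟙_ (Over (Spec (CommRingCat.of k))) ⟶ Red.Gm (Spec (CommRingCat.of k)) := GmPts.ptOfUnit u
  have := congrArg (Units.map g.left.appTop.hom.toMonoidHom) h
  rw [map_zpow, map_zpow, ← GmPts.unitOfPt_comp, Category.comp_id, GmPts.unitOfPt_ptOfUnit] at this
  rw [zpow_sub, this, mul_inv_cancel]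

end HMProjLib
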