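import Groth.Agent.HMProjLib.Decomp
import Groth.Agent.HMProjLib.Gm
import Groth.Agent.SemiAbLib.Torus
import Groth.Agent.AttrPtLib.Chart

/-!
# Eigensections of a torus
-/

set_option autoImplicit false
set_option backward.isDefEq.respectTransparency false
set_option synthInstance.maxHeartbeats 400000
set_option maxHeartbeats 1000000
set_option linter.style.haveILetI false
set_option linter.unusedSectionVars false

universe u

open CategoryTheory CategoryTheory.Limits MonoidalCategory CartesianMonoidalCategory AlgebraicGeometry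
  TopologicalSpace Opposite

noncomputable section

namespace HMProjLib

open scoped MonObj

variable {k : Type u} [Field k] [IsAlgClosed k]

open GLinShLib (nv)

/-- The monomial basis of the functions on a torus. -/
structure Mono' (T : Over (Spec (CommRingCat.of k))) [GrpObj T] where
  /-- the rank -/
  r : ℕ
  /-- the monomials -/
  e : ULift.{u} (Fin r → ℤ) → Γ(T.left, ⊤)
  span : ∀ s, ∃ c : ULift.{u} (Fin r → ℤ) →₀ k, s = c.sum fun i x => cst T x * e i
  indep : ∀ c : ULift.{u} (Fin r → ℤ) →₀ k, (c.sum fun i x => cst T x * e i) = 0 → c = 0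
  mul : ∀ i {T' : Over (Spec (CommRingCat.of k))} (h h' : T' ⟶ T), ev (h * h') (e i) = ev h (e i) * ev h' (e i)
  unit : ∀ i, IsUnit (e i)

theorem Mono'.ev_one {T : Over (Spec (CommRingCat.of k))} [GrpObj T] (M : Mono' T) (i)
    (T' : Over (Spec (CommRingCat.of k))) : ev (1 : T' ⟶ T) (M.e i) = 1 := by
  have h := M.mul i (1 : T' ⟶ T) 1
  rw [_root_.one_mul] at h
  exact (((M.unit i).map _).mul_eq_left).1 h.symm

theorem Mono'.valAt_mul {T : Over (Spec (CommRingCat.of k))} [GrpObj T] (M : Mono' T) (i)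
    (g : 𝟙_ (Over (Spec (CommRingCat.of k))) ⟶ T) {T' : Over (Spec (CommRingCat.of k))} (h : T' ⟶ T) :
    ev ((toUnit T' ≫ g) * h) (M.e i) = cst T' (valAt g (M.e i)) * ev h (M.e i) := by
  rw [M.mul, cst_valAt]

open Groth.Agent CoactBr in
/-- Tori have monomial bases. -/
theorem exists_mono {T : Over (Spec (CommRingCat.of k))} [GrpObj T] (hT : Red.IsTorus T) :
    Nonempty (Mono' T) ∧ IsAffine T.left ∧ IsReduced T.left ∧ LocallyOfFiniteType T.hom := by
  obtain ⟨r, v, hv, hv'⟩ := SemiAbLib.exists_laurent_iso hT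
  let A : Type u := MonoidAlgebra k (Multiplicative (Fin r → ℤ))
  haveI : Algebra.FiniteType k A := MonoidAlgebra.finiteType_iff_group_fg.2 inferInstance
  haveI : IsDomain A := inferInstance
  haveI hlft : LocallyOfFiniteType (sp k A).hom :=
    (HasRingHomProperty.Spec_iff (P := @LocallyOfFiniteType)).2 (RingHom.finiteType_algebraMap.2 inferInstance)
  haveI hred : IsReduced (sp k A).left := inferInstanceAs (IsReduced (Spec (CommRingCat.of A)))
  haveI : IsIso v.inv.left := inferInstanceAs (IsIso ((Over.forget _).mapIso v).inv)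
  haveI : IsAffine (sp k A).left := inferInstanceAs (IsAffine (Spec _))
  haveI : IsAffine T.left := IsAffine.of_isIso v.inv.left
  haveI : IsReduced T.left := isReduced_of_isOpenImmersion v.inv.left
  haveI : LocallyOfFiniteType T.hom := by
    rw [← Over.w v.inv]; infer_instance
  refine ⟨?_, inferInstance, inferInstance, inferInstance⟩
  let γ' : A →+* Γ((sp k A).left, ⊤) := (Scheme.ΓSpecIso (CommRingCat.of A)).inv.hom
  let ρ : A →+* Γ(T.left, ⊤) := v.inv.left.appTop.hom.comp γ'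
  have hρ : Function.Bijective ρ :=
    (ConcreteCategory.bijective_of_isIso v.inv.left.appTop).comp
      (ConcreteCategory.bijective_of_isIso (Scheme.ΓSpecIso (CommRingCat.of A)).inv)
  have hγc : ∀ c : k, γ' (algebraMap k A c) = cst (sp k A) c := by
    intro c
    show (Scheme.ΓSpecIso (CommRingCat.of A)).inv (algebraMap k A c) =
      (Spec.map (CommRingCat.ofHom (algebraMap k A))).appLE ⊤ ⊤ le_top ((Scheme.ΓSpecIso (CommRingCat.of k)).inv c)
    rw [show (Spec.map (CommRingCat.ofHom (algebraMap k A))).appLE ⊤ ⊤ le_top =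
      (Spec.map (CommRingCat.ofHom (algebraMap k A))).appTop by rw [Scheme.Hom.appTop, Scheme.Hom.app_eq_appLE]; rfl]
    exact ConcreteCategory.congr_hom (Scheme.ΓSpecIso_inv_naturality (CommRingCat.ofHom (algebraMap k A))) c
  have hρc : ∀ c : k, ρ (algebraMap k A c) = cst T c := fun c => by
    show v.inv.left.appTop (γ' _) = _
    rw [hγc]; exact ev_cst v.inv c
  let e : ULift.{u} (Fin r → ℤ) → Γ(T.left, ⊤) := fun i =>
    ρ (MonoidAlgebra.single (Multiplicative.ofAdd i.down) 1)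
  let E : ULift.{u} (Fin r → ℤ) ≃ Multiplicative (Fin r → ℤ) := Equiv.ulift.trans Multiplicative.ofAdd
  have hsum : ∀ c : ULift.{u} (Fin r → ℤ) →₀ k,
      (c.sum fun i x => cst T x * e i) = ρ (c.sum fun i x => MonoidAlgebra.single (E i) x) := fun c => by
    rw [map_finsuppSum]
    refine Finsupp.sum_congr fun i _ => ?_
    rw [← hρc, ← map_mul]
    congr 1
    rw [← Algebra.smul_def, MonoidAlgebra.smul_single', mul_one]
    rfl
  refine ⟨⟨r, e, fun s => ?_, fun c hc => ?_, fun i T' h h' => ?_, fun i => ?_⟩⟩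
  · obtain ⟨q, rfl⟩ := hρ.2 s
    refine ⟨Finsupp.equivMapDomain E.symm q.coeff, ?_⟩
    rw [hsum]
    congr 1
    rw [Finsupp.sum_equivMapDomain]
    simp only [Equiv.apply_symm_apply]
    exact (MonoidAlgebra.sum_single q).symm
  · rw [hsum] at hc
    have h0 : (c.sum fun i x => MonoidAlgebra.single (E i) x) = (0 : A) := hρ.1 (hc.trans (map_zero ρ).symm)
    ext i
    have h1 := congrArg (fun q : A => q.coeff (E i)) h0
    simp only [MonoidAlgebra.coeff_zero, Finsupp.zero_apply] at h1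
    rw [Finsupp.zero_apply, ← h1, ← MonoidAlgebra.coeffAddEquiv_apply, map_finsuppSum, Finsupp.sum,
      Finsupp.finsetSum_apply]
    symm
    rw [Finset.sum_eq_single i]
    · simp
    · intro j _ hne
      simp [E.injective.ne hne]
    · intro hi
      simp [Finsupp.notMem_support_iff.1 hi]
  · haveI := hv'
    let R := Γ(T'.left, (⊤ : T'.left.Opens))
    letI : Algebra k R := (cst T').toAlgebra
    let can : T' ⟶ sp k R := Over.homMk T'.left.toSpecΓ (by
      show T'.left.toSpecΓ ≫ Spec.map (CommRingCat.ofHom (cst T')) = T'.hom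
      have : CommRingCat.ofHom (cst T') = (Scheme.ΓSpecIso (CommRingCat.of k)).inv ≫ T'.hom.appTop := by
        ext c
        show T'.hom.appLE ⊤ ⊤ le_top _ = T'.hom.appTop _
        rw [Scheme.Hom.appTop, Scheme.Hom.app_eq_appLE]
        rfl
      rw [this]
      exact AttrPtLib.toSpec_spec T'.hom)
    have hfac : ∀ a : T' ⟶ sp k A, ∃ φ : A →ₐ[k] R, a = can ≫ pt φ := fun a => by
      refine ⟨{ a.left.appTop.hom.comp γ' with commutes' := fun c => ?_ }, ?_⟩
      · show a.left.appTop (γ' (algebraMap k A c)) = cst T' c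
        rw [hγc]; exact ev_cst a c
      · apply Over.OverMorphism.ext
        rw [Over.comp_left, pt_left]
        exact (AttrPtLib.toSpec_spec a.left).symm
    have happ : ∀ (φ : A →ₐ[k] R) (x : A), ev (can ≫ pt φ) (γ' x) = φ x := fun φ x => by
      show ((Scheme.ΓSpecIso (CommRingCat.of A)).inv ≫
        (T'.left.toSpecΓ ≫ Spec.map (CommRingCat.ofHom φ.toRingHom)).appTop) x = φ x
      rw [AttrPtLib.appTop_toSpec]
      rfl
    have hev : ∀ a : T' ⟶ T, ev a (e i) = ev (a ≫ v.inv) (γ' (MonoidAlgebra.single (E i) 1)) := fun a => by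
      rw [ev_comp' a v.inv]
      rfl
    obtain ⟨φ, hφ⟩ := hfac (h ≫ v.inv)
    obtain ⟨φ', hφ'⟩ := hfac (h' ≫ v.inv)
    rw [hev, hev, hev, MonObj.mul_comp h h' v.inv, hφ, hφ', ← MonObj.comp_mul, pt_mul_pt, happ, happ, happ]
    have hcm := (Groth.Agent.DiagRep.monoidAlgebraBasis k (Fin r → ℤ)).comul_e i.down
    rw [show (Groth.Agent.DiagRep.monoidAlgebraBasis k (Fin r → ℤ)).e i.down = MonoidAlgebra.single (E i) (1 : k) by
      simp [Groth.Agent.DiagRep.monoidAlgebraBasis, E]] at hcm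
    rw [AlgHom.comp_apply, Bialgebra.comulAlgHom_apply]
    exact (congrArg _ hcm).trans (Algebra.TensorProduct.lift_tmul _ _ _ _ _)
  · refine (IsUnit.map ρ ?_)
    exact (Group.isUnit (Multiplicative.ofAdd i.down)).map (MonoidAlgebra.of k _)
where
  ev_comp' {T Y Z : Over (Spec (CommRingCat.of k))} (a : T ⟶ Y) (b : Y ⟶ Z) {f : Γ(Z.left, ⊤)} :
      ev (a ≫ b) f = ev a (ev b f) := ev_comp a b f

variable {G X T : Over (Spec (CommRingCat.of k))} [GrpObj G] [GrpObj T]
  {a : AlgGrp.Action G X} {B : GLinSh.LinBun G a}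

/-- Eigencomponents of a section. -/
theorem exists_eigen [IsAffine T.left] [IsReduced T.left] [LocallyOfFiniteType T.hom] (M : Mono' T)
    (i : T ⟶ G) [IsMonHom i] [CompactSpace B.V.left] [QuasiSeparatedSpace B.V.left] {n : ℕ}
    {f : Γ(B.V.left, ⊤)} (hf : GLinSh.HasWeight B.atlas.chart n f) :
    ∃ b : ULift.{u} (Fin M.r → ℤ) →₀ Γ(B.V.left, ⊤),
      (∀ c, GLinSh.HasWeight B.atlas.chart n (b c)) ∧
      (∀ c, ∃ q : (𝟙_ (Over (Spec (CommRingCat.of k))) ⟶ T) →₀ k,
        b c = q.sum fun g x => cst B.V x * tr B (g ≫ i) f) ∧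
      (∀ (T' : Over (Spec (CommRingCat.of k))) (h : T' ⟶ T) (v : T' ⟶ B.V) (c : ULift.{u} (Fin M.r → ℤ)),
        ev (lift (h ≫ i) v ≫ B.lift.act) (b c) = ev h (M.e c) * ev v (b c)) ∧
      f = b.sum fun _ x => x := by
  classical
  obtain ⟨b, hdual, hw, -, hall⟩ := exists_decomp i M.e M.span M.indep hf
  refine ⟨b, hw, fun c => ?_, fun T' h v c => ?_, ?_⟩
  · by_cases hc : c ∈ b.support
    · obtain ⟨q, hq, -⟩ := hdual c hc
      exact ⟨q, hq⟩
    · exact ⟨0, by rw [Finsupp.notMem_support_iff.1 hc, Finsupp.sum_zero_index]⟩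
  · by_cases hc : c ∈ b.support
    · obtain ⟨q, hq, hq'⟩ := hdual c hc
      have h1 : ev (lift (h ≫ i) v ≫ B.lift.act) (b c) = q.sum fun g x => cst T' x *
          b.sum fun d y => cst T' (valAt g (M.e d)) * ev h (M.e d) * ev v y := by
        rw [hq, ev, map_finsuppSum]
        refine Finsupp.sum_congr fun g _ => ?_
        rw [map_mul]
        refine congrArg₂ (· * ·) (ev_cst _ _) ?_
        show ev (lift (h ≫ i) v ≫ B.lift.act) (tr B (g ≫ i) f) = _
        rw [ev_tr, ← B.lift.lift_mul_act, ← Category.assoc, ← MonObj.mul_comp, hall]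
        exact Finsupp.sum_congr fun d _ => by rw [M.valAt_mul]
      rw [h1]
      simp only [Finsupp.mul_sum, ← mul_assoc, ← map_mul]
      rw [Finsupp.sum_comm]
      simp only [← Finsupp.sum_mul]
      rw [Finsupp.sum, Finset.sum_eq_single c (fun d hd hne => ?_) (fun h' => absurd hc h')]
      · rw [← map_finsuppSum, hq' c hc, if_pos rfl, map_one, one_mul]
      · rw [← map_finsuppSum, hq' d hd, if_neg hne, map_zero, zero_mul, zero_mul]
    · rw [Finsupp.notMem_support_iff.1 hc]; simp [ev]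
  · have h := hall B.V 1 (𝟙 B.V)
    rw [MonObj.one_comp, B.lift.lift_one_act] at h
    refine Eq.trans ?_ (h.trans (Finsupp.sum_congr fun c _ => ?_))
    · simp [ev]
    · rw [M.ev_one, one_mul]
      simp [ev]

/-- The exponent of a monomial on a one-parameter subgroup. -/
def deg (M : Mono' T) (c : ULift.{u} (Fin M.r → ℤ)) (l : Red.Gm (Spec (CommRingCat.of k)) ⟶ T) : ℤ :=
  Classical.epsilon fun d : ℤ => ev l (M.e c) =
    ((GmPts.unitOfPt (𝟙 (Red.Gm (Spec (CommRingCat.of k)))) ^ d :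
      (Γ((Red.Gm (Spec (CommRingCat.of k))).left, ⊤))ˣ) : Γ((Red.Gm (Spec (CommRingCat.of k))).left, ⊤))

theorem deg_spec (M : Mono' T) (c : ULift.{u} (Fin M.r → ℤ)) (l : Red.Gm (Spec (CommRingCat.of k)) ⟶ T)
    [IsMonHom l] : ev l (M.e c) =
    ((GmPts.unitOfPt (𝟙 (Red.Gm (Spec (CommRingCat.of k)))) ^ deg M c l :
      (Γ((Red.Gm (Spec (CommRingCat.of k))).left, ⊤))ˣ) : Γ((Red.Gm (Spec (CommRingCat.of k))).left, ⊤)) := by
  refine Classical.epsilon_spec (exists_eq_zpow ((M.unit c).map _) ?_)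
  show ((GmPts.ptOfUnit 1 : _ ⟶ Red.Gm (Spec (CommRingCat.of k))).left.appTop (ev l (M.e c))) = 1
  rw [← ev_comp, GmPts.ptOfUnit_one, MonObj.one_comp, M.ev_one]

theorem deg_mul (M : Mono' T) (c : ULift.{u} (Fin M.r → ℤ)) (l₁ l₂ : Red.Gm (Spec (CommRingCat.of k)) ⟶ T)
    [IsMonHom l₁] [IsMonHom l₂] : deg M c (l₁ * l₂) = deg M c l₁ + deg M c l₂ := by
  have h : ev (l₁ * l₂) (M.e c) =
      ((GmPts.unitOfPt (𝟙 (Red.Gm (Spec (CommRingCat.of k)))) ^ (deg M c l₁ + deg M c l₂) :
        (Γ((Red.Gm (Spec (CommRingCat.of k))).left, ⊤))ˣ) : Γ((Red.Gm (Spec (CommRingCat.of k))).left, ⊤)) := by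
    rw [M.mul, deg_spec, deg_spec, ← Units.val_mul, ← zpow_add]
  have h2 := Classical.epsilon_spec (p := fun d : ℤ => ev (l₁ * l₂) (M.e c) =
    ((GmPts.unitOfPt (𝟙 (Red.Gm (Spec (CommRingCat.of k)))) ^ d :
      (Γ((Red.Gm (Spec (CommRingCat.of k))).left, ⊤))ˣ) : Γ((Red.Gm (Spec (CommRingCat.of k))).left, ⊤))) ⟨_, h⟩
  exact zpow_unitOfPt_injective (Units.ext (h2.symm.trans h))

theorem isEig_of_monomial (M : Mono' T) (i : T ⟶ G) {c : ULift.{u} (Fin M.r → ℤ)} {b : Γ(B.V.left, ⊤)}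
    (hb : ∀ (T' : Over (Spec (CommRingCat.of k))) (h : T' ⟶ T) (v : T' ⟶ B.V),
      ev (lift (h ≫ i) v ≫ B.lift.act) b = ev h (M.e c) * ev v b)
    (l : Red.Gm (Spec (CommRingCat.of k)) ⟶ T) [IsMonHom l] : IsEig B (l ≫ i) (deg M c l) b := by
  intro T' g v
  rw [← Category.assoc, hb, ev_comp, deg_spec]
  congr 1
  show ((Units.map g.left.appTop.hom.toMonoidHom) (_ ^ deg M c l) : (Γ(T'.left, ⊤))ˣ).val = _
  rw [map_zpow, ← GmPts.unitOfPt_comp, Category.comp_id]

/-- The monomials on the multiplicative group. -/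
theorem exists_gmMono : Nonempty (Mono' (Red.Gm (Spec (CommRingCat.of k)))) := by
  let S := Spec (CommRingCat.of k)
  let z := GmPts.unitOfPt (𝟙 (Red.Gm S))
  let e : ULift.{u} (Fin 1 → ℤ) → Γ((Red.Gm S).left, ⊤) := fun i =>
    ((z ^ i.down 0 : (Γ((Red.Gm S).left, ⊤))ˣ) : Γ((Red.Gm S).left, ⊤))
  have hb := (gm_facts (k := k)).2.2
  have hc : ∀ (c : k), evGm k (LaurentPolynomial.C c) = cst (Red.Gm S) c := fun c => by
    rw [evGm, LaurentPolynomial.eval₂_C]
    show ((Scheme.ΓSpecIso (CommRingCat.of k)).inv ≫ (Red.Gm S).hom.appTop) c = _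
    show (Red.Gm S).hom.appTop _ = (Red.Gm S).hom.appLE ⊤ ⊤ le_top _
    rw [Scheme.Hom.appTop, Scheme.Hom.app_eq_appLE]
    rfl
  have he : ∀ i, evGm k (LaurentPolynomial.T (i.down 0)) = e i := fun i => by
    rw [evGm, LaurentPolynomial.eval₂_T]
  let E : ULift.{u} (Fin 1 → ℤ) ≃ ℤ := Equiv.ulift.trans (Equiv.funUnique (Fin 1) ℤ)
  have hsum : ∀ c : ULift.{u} (Fin 1 → ℤ) →₀ k, (c.sum fun i x => cst (Red.Gm S) x * e i) =
      evGm k (c.sum fun i x => LaurentPolynomial.C x * LaurentPolynomial.T (E i)) := fun c => by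
    rw [map_finsuppSum]
    exact Finsupp.sum_congr fun i _ => by rw [map_mul, hc, ← he]; rfl
  refine ⟨⟨1, e, fun s => ?_, fun c h => ?_, fun i T' h h' => ?_, fun i => Units.isUnit _⟩⟩
  · obtain ⟨q, rfl⟩ := hb.2 s
    refine ⟨Finsupp.equivMapDomain E.symm q.coeff, ?_⟩
    rw [hsum]
    congr 1
    rw [Finsupp.sum_equivMapDomain]
    simp only [Equiv.apply_symm_apply, ← LaurentPolynomial.single_eq_C_mul_T]
    exact (AddMonoidAlgebra.sum_coeff_single q).symm
  · rw [hsum] at h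
    have h0 : (c.sum fun i x => LaurentPolynomial.C x * LaurentPolynomial.T (E i)) = (0 : LaurentPolynomial k) :=
      hb.1 (h.trans (map_zero _).symm)
    simp only [← LaurentPolynomial.single_eq_C_mul_T] at h0
    ext i
    have h1 := congrArg (fun q : LaurentPolynomial k => q.coeff (E i)) h0
    simp only [AddMonoidAlgebra.coeff_zero, Finsupp.zero_apply] at h1
    rw [Finsupp.zero_apply, ← h1, ← AddMonoidAlgebra.coeffAddEquiv_apply, map_finsuppSum, Finsupp.sum,
      Finsupp.finsetSum_apply]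
    symm
    rw [Finset.sum_eq_single i]
    · simp [← LaurentPolynomial.single_eq_C_mul_T]
    · intro j _ hne
      simp [← LaurentPolynomial.single_eq_C_mul_T, E.injective.ne hne]
    · intro hi
      simp [Finsupp.notMem_support_iff.1 hi]
  · have key : ∀ u : T' ⟶ Red.Gm S, ev u (e i) =
        ((GmPts.unitOfPt u ^ i.down 0 : (Γ(T'.left, ⊤))ˣ) : Γ(T'.left, ⊤)) := fun u => by
      show ((Units.map u.left.appTop.hom.toMonoidHom) (z ^ i.down 0) : (Γ(T'.left, ⊤))ˣ).val = _
      rw [map_zpow, ← GmPts.unitOfPt_comp, Category.comp_id]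
    rw [key, key, key, GmPts.unitOfPt_mul, mul_zpow, Units.val_mul]

/-- A proper scheme with an ample bundle is covered by finitely many eigensections. -/
theorem exists_cover [IsAffine T.left] [IsReduced T.left] [LocallyOfFiniteType T.hom] [IsProper X.hom]
    (M : Mono' T) (i : T ⟶ G) [IsMonHom i] (hB : HMNum.AmpleCover B) :
    ∃ (N : ℕ) (n : Fin N → ℕ) (c : Fin N → ULift.{u} (Fin M.r → ℤ)) (b : Fin N → Γ(B.V.left, ⊤)),
      (∀ j, 1 ≤ n j ∧ GLinSh.HasWeight B.atlas.chart (n j) (b j) ∧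
        ∀ (T' : Over (Spec (CommRingCat.of k))) (h : T' ⟶ T) (v : T' ⟶ B.V),
          ev (lift (h ≫ i) v ≫ B.lift.act) (b j) = ev h (M.e (c j)) * ev v (b j)) ∧
      ∀ z : X.left, ∃ j, z ∈ GLinSh.nonvanishing B.π (b j) := by
  haveI := B.atlas.affine
  haveI : CompactSpace X.left := QuasiCompact.compactSpace_of_compactSpace X.hom
  haveI : CompactSpace B.V.left := QuasiCompact.compactSpace_of_compactSpace B.π.left
  haveI : QuasiSeparatedSpace X.left := quasiSeparatedSpace_of_quasiSeparated X.hom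
  haveI : QuasiSeparatedSpace B.V.left := quasiSeparatedSpace_of_quasiSeparated B.π.left
  let J : Type u := {q : ℕ × ULift.{u} (Fin M.r → ℤ) × Γ(B.V.left, ⊤) //
    1 ≤ q.1 ∧ GLinSh.HasWeight B.atlas.chart q.1 q.2.2 ∧
      ∀ (T' : Over (Spec (CommRingCat.of k))) (h : T' ⟶ T) (v : T' ⟶ B.V),
          ev (lift (h ≫ i) v ≫ B.lift.act) q.2.2 = ev h (M.e q.2.1) * ev v q.2.2}
  have hcov : ∀ z : X.left, ∃ q : J, z ∈ GLinSh.nonvanishing B.π q.1.2.2 := by
    intro z
    obtain ⟨n, f, hn, hf, hz, -⟩ := hB.2 z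
    obtain ⟨b, hbw, -, hbe, hsum⟩ := exists_eigen M i hf
    obtain ⟨T', p, hT', hp⟩ := exists_fld z
    obtain ⟨t⟩ := hT'.nonempty
    obtain ⟨T'', θ, v, hT'', hv, hu⟩ := exists_lift_unit p t hT' (by rw [hp]; exact hz)
    by_contra hne
    have h0 : ∀ c ∈ b.support, ev v (b c) = 0 := fun c _ => by
      by_contra h
      refine hne ⟨⟨(n, c, b c), hn, hbw c, fun T' h v => hbe T' h v c⟩, ?_⟩
      rw [← hp t]
      exact mem_nonvanishing_of_unit hT' hT'' hv (hT''.isUnit_iff.2 h) t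
    haveI := hT''.nontrivial
    refine not_isUnit_zero (M₀ := Γ(T''.left, ⊤)) ?_
    rw [hsum, ev, map_finsuppSum] at hu
    rwa [Finsupp.sum, Finset.sum_eq_zero h0] at hu
  obtain ⟨s, hs⟩ := CompactSpace.elim_nhds_subcover
    (fun z : X.left => GLinSh.nonvanishing B.π (hcov z).choose.1.2.2)
    (fun z => (GLinShLib.isOpen_nonvanishing (hcov z).choose.2.2.1).mem_nhds (hcov z).choose_spec)
  let E := s.equivFin.symm
  refine ⟨s.card, fun j => (hcov (E j).1).choose.1.1, fun j => (hcov (E j).1).choose.1.2.1,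
    fun j => (hcov (E j).1).choose.1.2.2, fun j => (hcov (E j).1).choose.2, fun z => ?_⟩
  obtain ⟨w, hw, hzw⟩ := Set.mem_iUnion₂.1 (show z ∈ ⋃ w ∈ s, GLinSh.nonvanishing B.π (hcov w).choose.1.2.2 by
    rw [hs]; trivial)
  refine ⟨E.symm ⟨w, hw⟩, ?_⟩
  simp only [Equiv.apply_symm_apply]
  exact hzw

end HMProjLib
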