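import Groth.Agent.HMProjLib.Cone
import Groth.Agent.HMProjLib.Affine
import Groth.Agent.HMProjLib.Torus
import Groth.Agent.HMProjLib.Weight
import Groth.Agent.HMLib.Crit
import Groth.Agent.GITAffLib.Setup

/-!
# The semistability criterion
-/

set_option autoImplicit false
set_option backward.isDefEq.respectTransparency false
set_option synthInstance.maxHeartbeats 400000
set_option maxHeartbeats 1000000
set_option linter.style.haveILetI false
set_option linter.unusedSectionVars false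

universe u

open CategoryTheory CategoryTheory.Limits MonoidalCategory CartesianMonoidalCategory AlgebraicGeometry
  TopologicalSpace Opposite

noncomputable section

namespace HMProjLib

open scoped MonObj
open GLinShLib (exists_chart nv)
open CoactBr

attribute [-instance] CategoryTheory.Hom.commGroup

variable {k : Type u} [Field k] {G X : Over (Spec (CommRingCat.of k))} [GrpObj G] {a : AlgGrp.Action G X}
  {B : GLinSh.LinBun G a}

theorem isEig_of_isInvFn {l : Red.Gm (Spec (CommRingCat.of k)) ⟶ G} {f : Γ(B.V.left, ⊤)}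
    (hf : GLinSh.IsInvFn B.lift f) : IsEig B l 0 f := fun T g v => by
  rw [zpow_zero, Units.val_one, one_mul, ev_comp]
  show (lift (g ≫ l) v).left.appTop (B.lift.act.left.appTop f) = _
  rw [hf]
  refine (ev_comp (lift (g ≫ l) v) (snd G B.V) f).symm.trans ?_
  rw [lift_snd]

/-- Membership of the span of a stable space. -/
def InSpan {M : ℕ} (P : Rep B M) (f : Γ(B.V.left, ⊤)) : Prop :=
  ∃ c : Fin P.R → k, f = ∑ i, cst B.V (c i) * P.s i

theorem InSpan.sum {M : ℕ} {P : Rep B M} {κ : Type*} (s : Finset κ) (F : κ → Γ(B.V.left, ⊤))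
    (hF : ∀ j ∈ s, InSpan P (F j)) : InSpan P (∑ j ∈ s, F j) := by
  choose! c hc using hF
  refine ⟨fun i => ∑ j ∈ s, c j i, ?_⟩
  simp only [map_sum, Finset.sum_mul]
  rw [Finset.sum_comm]
  exact Finset.sum_congr rfl hc

theorem InSpan.cst_mul {M : ℕ} {P : Rep B M} {f : Γ(B.V.left, ⊤)} (r : k) (hf : InSpan P f) :
    InSpan P (cst B.V r * f) := by
  obtain ⟨c, rfl⟩ := hf
  exact ⟨fun i => r * c i, by simp only [Finset.mul_sum, map_mul, mul_assoc]⟩

theorem InSpan.tr {M : ℕ} {P : Rep B M} (g : 𝟙_ (Over (Spec (CommRingCat.of k))) ⟶ G) {f : Γ(B.V.left, ⊤)}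
    (hf : InSpan P f) : InSpan P (HMProjLib.tr B g f) := by
  obtain ⟨c, rfl⟩ := hf
  rw [map_sum]
  refine InSpan.sum _ _ fun i _ => ?_
  rw [map_mul, tr_cst]
  exact InSpan.cst_mul _ (P.closed g i)

instance gm_lft : LocallyOfFiniteType (Red.Gm (Spec (CommRingCat.of k))).hom := by
  obtain ⟨e, -⟩ := exists_model (k := k)
  haveI : IsIso e.inv.left := inferInstanceAs (IsIso ((Over.forget _).mapIso e).inv)
  haveI : LocallyOfFiniteType (Groth.Agent.GaGmKer.specOver (LaurentPolynomial.C : k →+* LaurentPolynomial k)).hom := by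
    haveI : Algebra.FiniteType k (LaurentPolynomial k) := AddMonoidAlgebra.finiteType_iff_group_fg.2 inferInstance
    refine (HasRingHomProperty.Spec_iff (P := @LocallyOfFiniteType)).2 ?_
    rw [show (LaurentPolynomial.C : k →+* LaurentPolynomial k) = algebraMap k _ from RingHom.ext fun r => LaurentPolynomial.C_eq_algebraMap r]
    exact RingHom.finiteType_algebraMap.2 inferInstance
  rw [← Over.w e.inv]; infer_instance

variable [IsAlgClosed k]

/-- The value at a point of a section in a coordinate. -/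
theorem exists_value (x : 𝟙_ (Over (Spec (CommRingCat.of k))) ⟶ X) {U : X.left.Opens}
    {y : Γ(B.V.left, B.π.left ⁻¹ᵁ U)} (hy : y ∈ B.atlas.chart U) (hU : x.left ⁻¹ᵁ U = ⊤) {n : ℕ}
    {f : Γ(B.V.left, ⊤)} (hf : GLinSh.HasWeight B.atlas.chart n f) :
    ∃ r : k, ∀ (T : Over (Spec (CommRingCat.of k))) (v : T ⟶ B.V) (hv : v ≫ B.π = toUnit T ≫ x),
      ev v f = cst T r * HMNum.evalFn B.π y v (HMNum.top_le_preimage B.π hU hv) ^ n := by
  obtain ⟨c, hc⟩ := hf U y hy
  obtain ⟨r, hr⟩ := (cst_unit_bijective (k := k)).2 (x.left.appLE U ⊤ hU.ge c)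
  refine ⟨r, fun T v hv => ?_⟩
  have hq : ⊤ ≤ (toUnit T ≫ x).left ⁻¹ᵁ U := fun z _ => hU.ge (x := (toUnit T).left z) trivial
  rw [ev_eq_coord hc v hv hq (HMNum.top_le_preimage B.π hU hv)]
  congr 1
  rw [← ev_cst (toUnit T) r, ev, hr]
  exact (appTop_appLE (toUnit T).left x.left hU.ge c).symm

theorem toLaurent_nonneg {γ₀ : k} (hγ : γ₀ ≠ 0) {p : Polynomial k} {n : ℤ}
    (h : Polynomial.toLaurent p = LaurentPolynomial.C γ₀ * LaurentPolynomial.T n) : 0 ≤ n := by
  by_contra hn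
  rw [not_le] at hn
  obtain ⟨e, rfl⟩ : ∃ e : ℕ, n = -((e : ℤ) + 1) := ⟨(-n - 1).toNat, by omega⟩
  have h2 : Polynomial.toLaurent (p * Polynomial.X ^ (e + 1)) = Polynomial.toLaurent (Polynomial.C γ₀) := by
    rw [map_mul, h, Polynomial.toLaurent_X_pow, Polynomial.toLaurent_C, mul_assoc, ← LaurentPolynomial.T_add,
      Nat.cast_succ, neg_add_cancel, LaurentPolynomial.T_zero, mul_one]
  have h3 := congrArg (Polynomial.eval 0) (Polynomial.toLaurent_injective h2)
  simp at h3
  exact hγ h3.symm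

section Cone

variable {A : Type u} [CommRing A] [HopfAlgebra k A] (w : sp k A ⟶ G) [IsMonHom w] [IsIso w] {M : ℕ} (P : Rep B M)

/-- The sections in the span of a stable space cover the base. -/
def Covers : Prop := ∀ z : X.left, ∃ f, InSpan P f ∧ z ∈ GLinSh.nonvanishing B.π f

theorem inSpan_hasWeight {f : Γ(B.V.left, ⊤)} (hf : InSpan P f) : GLinSh.HasWeight B.atlas.chart M f := by
  obtain ⟨c, rfl⟩ := hf
  exact hasWeight_sum _ c P.s fun i _ => P.weight i

/-- The coordinates of a point. -/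
def IsCoord (x : 𝟙_ (Over (Spec (CommRingCat.of k))) ⟶ X) {U : X.left.Opens}
    (y : Γ(B.V.left, B.π.left ⁻¹ᵁ U)) (hU : x.left ⁻¹ᵁ U = ⊤) (vec : Idx P → k) : Prop :=
  ∀ (i : Idx P) (T : Over (Spec (CommRingCat.of k))) (v : T ⟶ B.V) (hv : v ≫ B.π = toUnit T ≫ x),
    ev v (P.s i.down) = cst T (vec i) * HMNum.evalFn B.π y v (HMNum.top_le_preimage B.π hU hv) ^ M

variable {x : 𝟙_ (Over (Spec (CommRingCat.of k))) ⟶ X} {U : X.left.Opens}
  {y : Γ(B.V.left, B.π.left ⁻¹ᵁ U)} {hU : x.left ⁻¹ᵁ U = ⊤} {vec : Idx P → k}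

theorem IsCoord.lin (hvec : IsCoord P x y hU vec) {T : Over (Spec (CommRingCat.of k))} (v : T ⟶ B.V)
    (hv : v ≫ B.π = toUnit T ≫ x) (c : Fin P.R → k) :
    ev v (∑ i, cst B.V (c i) * P.s i) = cst T (∑ i : Idx P, c i.down * vec i) *
      HMNum.evalFn B.π y v (HMNum.top_le_preimage B.π hU hv) ^ M := by
  refine (map_sum v.left.appTop.hom _ _).trans ?_
  rw [map_sum, Finset.sum_mul]
  refine (Fintype.sum_equiv Equiv.ulift _ _ fun i => ?_).symm
  rw [map_mul, mul_assoc, ← hvec i T v hv]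
  exact ((map_mul v.left.appTop.hom _ _).trans (congrArg₂ (· * ·) (ev_cst v (c i.down)) rfl)).symm

theorem exists_unit_coord (hcov : Covers P) (hM : 1 ≤ M) (hy : y ∈ B.atlas.chart U)
    (p : (𝟙_ (Over (Spec (CommRingCat.of k)))).left) {T : Over (Spec (CommRingCat.of k))} (hT : Fld T)
    (hU : x.left ⁻¹ᵁ U = ⊤) :
    ∃ (T' : Over (Spec (CommRingCat.of k))) (θ : T' ⟶ T) (v : T' ⟶ B.V) (hv : v ≫ B.π = toUnit T' ≫ x),
      Fld T' ∧ IsUnit (HMNum.evalFn B.π y v (HMNum.top_le_preimage B.π hU hv)) := by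
  haveI := (fld_unit (k := k)).subsingleton
  obtain ⟨t⟩ := hT.nonempty
  obtain ⟨f, hf, hx⟩ := hcov (x.left p)
  obtain ⟨T', θ, v, hT', hv, hu⟩ := exists_lift_unit (toUnit T ≫ x) t hT (by
    show x.left ((toUnit T).left t) ∈ _
    rw [Subsingleton.elim ((toUnit T).left t) p]; exact hx)
  have hv' : v ≫ B.π = toUnit T' ≫ x := by rw [hv, ← Category.assoc, comp_toUnit]
  obtain ⟨r, hr⟩ := exists_value x hy hU (inSpan_hasWeight P hf)
  rw [hr T' v hv'] at hu
  exact ⟨T', θ, v, hv', hT', (isUnit_pow_iff (by omega)).1 (isUnit_of_mul_isUnit_right hu)⟩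

theorem IsCoord.ne_zero (hvec : IsCoord P x y hU vec) (hcov : Covers P)
    (p : (𝟙_ (Over (Spec (CommRingCat.of k)))).left) : vec ≠ 0 := by
  intro h0
  obtain ⟨f, ⟨c, hc⟩, hx⟩ := hcov (x.left p)
  obtain ⟨T', θ, v, hT', hv, hu⟩ := exists_lift_unit x p fld_unit hx
  haveI := hT'.nontrivial
  rw [hc, hvec.lin P v (by rw [hv, toUnit_unique θ (toUnit T')]) c] at hu
  simp [h0] at hu

theorem exists_isCoord (x : 𝟙_ (Over (Spec (CommRingCat.of k))) ⟶ X)
    (p : (𝟙_ (Over (Spec (CommRingCat.of k)))).left) :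
    ∃ (U : X.left.Opens) (y : Γ(B.V.left, B.π.left ⁻¹ᵁ U)) (_ : y ∈ B.atlas.chart U)
      (hU : x.left ⁻¹ᵁ U = ⊤) (vec : Idx P → k), IsCoord P x y hU vec := by
  haveI := (fld_unit (k := k)).subsingleton
  obtain ⟨K, hK, -⟩ := exists_chart (B := B) (x.left p) (O := ⊤) trivial
  have hU : x.left ⁻¹ᵁ K.U = ⊤ := top_le_iff.1 fun z _ => by
    show x.left z ∈ K.U
    rw [Subsingleton.elim z p]
    exact K.le hK
  choose vec hvec using fun i : Idx P => exists_value x K.mem hU (P.weight i.down)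
  exact ⟨K.U, K.y, K.mem, hU, vec, hvec⟩

variable [IsAffine G.left] [Smooth G.hom]

/-- The numerical function on the cone dominates the numerical function on the base. -/
theorem exists_le_cone [IsProper X.hom] [CompactSpace B.V.left] [QuasiSeparatedSpace B.V.left]
    (hcov : Covers P) (hM : 1 ≤ M) (hy : y ∈ B.atlas.chart U)
    (p : (𝟙_ (Over (Spec (CommRingCat.of k)))).left) (hvec : IsCoord P x y hU vec)
    (lam : A →ₐc[k] LaurentPolynomial k) (m : ℤ)
    (hm : letI := polyComod w P; haveI := polyCoactAlg w P; GLin.IsMu k A lam vec m) :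
    ∃ (l : Red.Gm (Spec (CommRingCat.of k)) ⟶ G) (_ : IsMonHom l), (l = 1 → SGA3t2b.IsTrivialBialgHom lam) ∧
      ∀ mx : ℤ, HMNum.IsMu B l x mx → (M : ℤ) * mx ≤ m := by
  classical
  letI := polyComod w P
  haveI := polyCoactAlg w P
  let S := Spec (CommRingCat.of k)
  obtain ⟨l, hl, hl1, hlval⟩ := exists_oneParam w P lam
  refine ⟨l, hl, hl1, fun mx hμx => ?_⟩
  obtain ⟨h, hh, -⟩ := hm
  obtain ⟨y₁, -, hy₁⟩ := mul_eq_of_isMu hμx p
  obtain ⟨f₁, hf₁, hj⟩ := hcov (y₁.left p)
  obtain ⟨Mn⟩ := exists_gmMono (k := k)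
  obtain ⟨b, hbw, hbq, hbe, hsum⟩ := exists_eigen Mn l (inSpan_hasWeight P hf₁)
  obtain ⟨c, hc⟩ : ∃ c, y₁.left p ∈ GLinSh.nonvanishing B.π (b c) := by
    obtain ⟨T', θ, v, hT', hv, hu⟩ := exists_lift_unit y₁ p fld_unit hj
    haveI := hT'.nontrivial
    by_contra hne
    refine not_isUnit_zero (M₀ := Γ(T'.left, ⊤)) ?_
    rw [hsum, ev, map_finsuppSum] at hu
    rwa [Finsupp.sum, Finset.sum_eq_zero fun c _ => ?_] at hu
    by_contra h'
    exact hne ⟨c, mem_nonvanishing_of_unit fld_unit hT' hv (hT'.isUnit_iff.2 h') p⟩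
  have he : IsEig B l (deg Mn c (𝟙 _)) (b c) := by
    have := isEig_of_monomial (B := B) Mn l (fun T' h v => hbe T' h v c) (𝟙 _)
    simpa using this
  obtain ⟨hr, hxb, -⟩ := hy₁ M _ (b c) hM (hbw c) he hc
  obtain ⟨co, hco⟩ : InSpan P (b c) := by
    obtain ⟨q, hq⟩ := hbq c
    rw [hq]
    exact InSpan.sum _ _ fun z _ => InSpan.cst_mul _ (InSpan.tr _ hf₁)
  let γ' : k := ∑ i : Idx P, co i.down * vec i
  have hγ : γ' ≠ 0 := by
    intro h0
    obtain ⟨T', θ, v, hT', hv, hu⟩ := exists_lift_unit x p fld_unit hxb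
    haveI := hT'.nontrivial
    rw [hco, hvec.lin P v (by rw [hv, toUnit_unique θ (toUnit T')]) co] at hu
    simp [γ'] at h0
    simp [h0] at hu
  let q : Idx P → LaurentPolynomial k := fun i =>
    GLin.lamOrbit k A lam (GLin.vecPt k (Idx P) vec) (MvPolynomial.X i)
  have hq : ∀ i, q i = ∑ j, LaurentPolynomial.C (vec j) * lam (mat w P i j) := fun i => by
    have e1 : HopfRep.Comod.coact (k := k) (A := A) (MvPolynomial.X i : MvPolynomial (Idx P) k) =
        ∑ j, (MvPolynomial.X j : MvPolynomial (Idx P) k) ⊗ₜ[k] mat w P i j := coactHom_X w P i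
    simp only [q, GLin.lamOrbit, GLin.orbitHom, AlgHom.comp_apply, GLin.coactAlgHom_apply, e1, map_sum,
      Algebra.TensorProduct.map_tmul, AlgEquiv.toAlgHom_apply, Algebra.TensorProduct.lid_tmul, AlgHom.id_apply,
      MvPolynomial.aeval_X, map_smul]
    refine Finset.sum_congr rfl fun j _ => ?_
    rw [Algebra.smul_def, LaurentPolynomial.C_eq_algebraMap]
    rfl
  have hpsi : ∀ (T : Over S) (u : T ⟶ Red.Gm S) (r : k), psi u (LaurentPolynomial.C r) = cst T r :=
    fun T u r => LaurentPolynomial.eval₂_C _ _ r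
  have hmain : (∑ i : Idx P, LaurentPolynomial.C (co i.down) * q i) =
      LaurentPolynomial.C γ' * LaurentPolynomial.T (deg Mn c (𝟙 _)) := by
    refine (gm_facts (k := k)).2.2.1 (sub_eq_zero.1 (eq_zero_of_forall_fld (O := ⊤) _ fun T u hT hu' => ?_))
    rw [show u.left.appLE ⊤ ⊤ hu' = u.left.appTop by rw [Scheme.Hom.appTop, Scheme.Hom.app_eq_appLE]; rfl,
      map_sub, ← psi_id, ← psi_comp, ← psi_comp, Category.comp_id, sub_eq_zero]
    obtain ⟨T', θ, v, hv, hT', hY'⟩ := exists_unit_coord P hcov hM hy p hT hU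
    refine exists_hasFibreWeight.injective_of_fld' hT hT' θ ?_
    rw [← psi_comp, ← psi_comp]
    let u' := θ ≫ u
    let Y := HMNum.evalFn B.π y v (HMNum.top_le_preimage B.π hU hv)
    have hlhs : ev (lift (u' ≫ l) v ≫ B.lift.act) (b c) =
        psi u' (∑ i : Idx P, LaurentPolynomial.C (co i.down) * q i) * Y ^ M := by
      rw [hco]
      refine (map_sum (lift (u' ≫ l) v ≫ B.lift.act).left.appTop.hom _ _).trans ?_
      rw [map_sum, Finset.sum_mul]
      refine (Fintype.sum_equiv Equiv.ulift _ _ fun i => ?_).symm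
      rw [map_mul, hpsi, hq, map_sum, mul_assoc, Finset.sum_mul]
      refine Eq.trans ?_ (map_mul (lift (u' ≫ l) v ≫ B.lift.act).left.appTop.hom _ _).symm
      refine congrArg₂ (· * ·) (ev_cst _ _).symm ?_
      refine Eq.trans ?_ (P.law T' (u' ≫ l) v i.down).symm
      refine Fintype.sum_equiv Equiv.ulift _ _ fun j => ?_
      show psi u' (LaurentPolynomial.C (vec j) * lam (mat w P i j)) * Y ^ M =
        ev (u' ≫ l) (P.m i.down j.down) * ev v (P.s j.down)
      rw [map_mul, hpsi, hlval T' u' i j, hvec j T' v hv]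
      ring
    have hrhs : ev (lift (u' ≫ l) v ≫ B.lift.act) (b c) =
        psi u' (LaurentPolynomial.C γ' * LaurentPolynomial.T (deg Mn c (𝟙 _))) * Y ^ M := by
      rw [he T' u' v, hco, hvec.lin P v hv co, map_mul, hpsi, psi, LaurentPolynomial.eval₂_T]
      ring
    exact (hY'.pow M).mul_left_inj.1 (hlhs.symm.trans hrhs)
  have hpol : ∀ i, LaurentPolynomial.T m * q i = Polynomial.toLaurent (h (MvPolynomial.X i)) := fun i => by
    have := AlgHom.congr_fun hh (MvPolynomial.X i)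
    rw [GLin.shiftedOrbit, MvPolynomial.aeval_X] at this
    exact this.symm
  have hL : Polynomial.toLaurent (∑ i : Idx P, Polynomial.C (co i.down) * h (MvPolynomial.X i)) =
      LaurentPolynomial.C γ' * LaurentPolynomial.T (deg Mn c (𝟙 _) + m) := by
    rw [map_sum, LaurentPolynomial.T_add, ← mul_assoc, ← hmain, Finset.sum_mul]
    refine Finset.sum_congr rfl fun i _ => ?_
    rw [map_mul, Polynomial.toLaurent_C, ← hpol]
    ring
  have := toLaurent_nonneg hγ hL
  omega

/-- An invariant form nonvanishing on the coordinates gives an invariant section nonvanishing at the point. -/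
theorem mem_nonvanishing_toSec (hcov : Covers P) (hM : 1 ≤ M) (hy : y ∈ B.atlas.chart U)
    (p : (𝟙_ (Over (Spec (CommRingCat.of k)))).left) (hvec : IsCoord P x y hU vec)
    {F : MvPolynomial (Idx P) k} {d : ℕ} (hd : F.IsHomogeneous d) :
    x.left p ∈ GLinSh.nonvanishing B.π (toSec P F) ↔ MvPolynomial.eval vec F ≠ 0 := by
  have hval : ∀ (T' : Over (Spec (CommRingCat.of k))) (v : T' ⟶ B.V) (hv : v ≫ B.π = toUnit T' ≫ x),
      ev v (toSec P F) = cst T' (MvPolynomial.eval vec F) *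
        (HMNum.evalFn B.π y v (HMNum.top_le_preimage B.π hU hv) ^ M) ^ d := by
    intro T' v hv
    rw [ev_toSec]
    simp only [hvec _ T' v hv]
    rw [MvPolynomial.eval₂_eq, MvPolynomial.eval_eq, map_sum, Finset.sum_mul]
    refine Finset.sum_congr rfl fun σ hσ => ?_
    simp only [mul_pow, Finset.prod_mul_distrib, map_mul, map_prod, map_pow, Finset.prod_pow_eq_pow_sum]
    rw [mul_assoc]
    congr 3
    rw [← hd (MvPolynomial.mem_support_iff.1 hσ), Finsupp.weight_apply, Finsupp.sum]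
    simp
  constructor
  · intro hx h0
    obtain ⟨T', θ, v, hT', hv, hu⟩ := exists_lift_unit x p fld_unit hx
    haveI := hT'.nontrivial
    rw [hval T' v (by rw [hv, toUnit_unique θ (toUnit T')]), h0, map_zero, zero_mul] at hu
    exact not_isUnit_zero hu
  · intro hne
    obtain ⟨T', θ, v, hv, hT', hY'⟩ := exists_unit_coord P hcov hM hy p fld_unit hU
    refine mem_nonvanishing_of_unit (θ := toUnit T') fld_unit hT' hv ?_ p
    rw [hval T' v hv]
    exact ((hne.isUnit).map _).mul ((hY'.pow M).pow d)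

end Cone

/-- Cone data for an ample linearised bundle. -/
theorem exists_coneData [CharZero k] (hG : Red.IsReductive G) [IsProper X.hom] (hB : HMNum.AmpleCover B) :
    ∃ (A : Type u) (_ : CommRing A) (_ : HopfAlgebra k A) (w : sp k A ⟶ G) (_ : IsMonHom w) (_ : IsIso w)
      (_ : HopfRep.IsLinearlyReductive k A) (_ : Algebra.FiniteType k A) (M : ℕ) (P : Rep B M),
      1 ≤ M ∧ Covers P ∧ IsAffine G.left ∧ Smooth G.hom ∧ CompactSpace B.V.left ∧
        QuasiSeparatedSpace B.V.left := by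
  haveI := hG.1
  haveI : Smooth G.hom := hG.2.1
  haveI : IsAffine G.left := isAffine_of_isAffineHom G.hom
  haveI := B.atlas.affine
  haveI : CompactSpace X.left := hB.1
  haveI : CompactSpace B.V.left := QuasiCompact.compactSpace_of_compactSpace B.π.left
  haveI : QuasiSeparatedSpace X.left := quasiSeparatedSpace_of_quasiSeparated X.hom
  haveI : QuasiSeparatedSpace B.V.left := quasiSeparatedSpace_of_quasiSeparated B.π.left
  obtain ⟨A, _, _, w, hw, hw', β, -, -, hlr⟩ := GITAffLib.exists_setup G hG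
  haveI : Algebra.FiniteType k A := by
    haveI : IsIso w.left := inferInstanceAs (IsIso ((Over.forget _).map w))
    have h2 : LocallyOfFiniteType (sp k A).hom := by rw [← Over.w w]; infer_instance
    exact RingHom.finiteType_algebraMap.1 ((HasRingHomProperty.Spec_iff (P := @LocallyOfFiniteType)).1 h2)
  obtain ⟨M, hM, hcov⟩ := exists_common_weight B hB
  choose g hg hgx hga using hcov
  obtain ⟨s, hs⟩ := CompactSpace.elim_nhds_subcover (fun z : X.left => GLinSh.nonvanishing B.π (g z))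
    (fun z => (GLinShLib.isOpen_nonvanishing (hg z)).mem_nhds (hgx z))
  let e := s.equivFin.symm
  obtain ⟨P, hP⟩ := exists_rep (J := Fin s.card) (fun j => g (e j).1) (fun j => hg _)
  refine ⟨A, _, _, w, hw, hw', hlr, inferInstance, M, P, hM, fun z => ?_, inferInstance, inferInstance,
    inferInstance, inferInstance⟩
  obtain ⟨u, hu, hzu⟩ := Set.mem_iUnion₂.1 (show z ∈ ⋃ u ∈ s, GLinSh.nonvanishing B.π (g u) by rw [hs]; trivial)
  exact ⟨_, hP (e.symm ⟨u, hu⟩), by rw [e.apply_symm_apply]; exact hzu⟩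

variable [CharZero k]

/-- Points with non-negative numerical function have nonvanishing invariant sections. -/
theorem exists_invariant (hG : Red.IsReductive G) [IsProper X.hom] (hB : HMNum.AmpleCover B)
    (x : 𝟙_ (Over (Spec (CommRingCat.of k))) ⟶ X) (p : (𝟙_ (Over (Spec (CommRingCat.of k)))).left)
    (hμ : ∀ (l : Red.Gm (Spec (CommRingCat.of k)) ⟶ G) [IsMonHom l] (m : ℤ), HMNum.IsMu B l x m → 0 ≤ m) :
    ∃ (n : ℕ) (f : Γ(B.V.left, ⊤)), 1 ≤ n ∧ B.IsInvSection n f ∧ x.left p ∈ GLinSh.nonvanishing B.π f := by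
  obtain ⟨A, _, _, w, _, _, hlr, _, M, P, hM, hcov, hA1, hA2, hA3, hA4⟩ := exists_coneData hG hB
  haveI := hA1; haveI := hA2; haveI := hA3; haveI := hA4
  obtain ⟨U, y, hy, hU, vec, hvec⟩ := exists_isCoord P x p
  letI := polyComod w P
  haveI := polyCoactAlg w P
  have hss : GLin.IsSemistableVec k A vec := by
    refine (HMLib.semistable_iff hlr (polyLinear w P) vec (hvec.ne_zero P hcov p)).2 fun lam m hm => ?_
    obtain ⟨l, hl, -, hle⟩ := exists_le_cone w P hcov hM hy p hvec lam m hm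
    obtain ⟨mx, hmx⟩ := exists_isMu B l hB x
    exact le_trans (mul_nonneg (Int.natCast_nonneg M) (hμ l mx hmx)) (hle mx hmx)
  obtain ⟨F, hF, d, hd, hhom, hne⟩ : ∃ F ∈ GLin.invariants k A (MvPolynomial (Idx P) k),
      ∃ d : ℕ, 0 < d ∧ F.IsHomogeneous d ∧ MvPolynomial.eval vec F ≠ 0 := by
    by_contra h
    push Not at h
    exact hss fun F hF d hd hhom => h F hF d hd hhom
  exact ⟨M * d, toSec P F, Nat.mul_pos (by omega) hd, ⟨hasWeight_toSec P hhom, isInvFn_toSec w P hF⟩,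
    (mem_nonvanishing_toSec P hcov hM hy p hvec hhom).2 hne⟩

/-- An invariant section nonvanishing at a point bounds the numerical function from below. -/
theorem nonneg_of_invariant [IsProper X.hom] (hB : HMNum.AmpleCover B)
    (x : 𝟙_ (Over (Spec (CommRingCat.of k))) ⟶ X) (p : (𝟙_ (Over (Spec (CommRingCat.of k)))).left) {n : ℕ}
    (hn : 1 ≤ n) {f : Γ(B.V.left, ⊤)} (hf : B.IsInvSection n f) (hx : x.left p ∈ GLinSh.nonvanishing B.π f)
    (l : Red.Gm (Spec (CommRingCat.of k)) ⟶ G) [IsMonHom l] (m : ℤ) (hm : HMNum.IsMu B l x m) : 0 ≤ m := by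
  obtain ⟨Mn⟩ := exists_gmMono (k := k)
  obtain ⟨N, n', c, b, hb, hcov⟩ := exists_cover Mn l hB
  obtain ⟨y, -, hy⟩ := mul_eq_of_isMu hm p
  obtain ⟨j, hj⟩ := hcov (y.left p)
  have he : IsEig B l (deg Mn (c j) (𝟙 _)) (b j) := by
    simpa using isEig_of_monomial (B := B) Mn l (hb j).2.2 (𝟙 _)
  obtain ⟨-, -, hle⟩ := hy (n' j) _ (b j) (hb j).1 (hb j).2.1 he hj
  have h := hle n 0 f hn hf.1 (isEig_of_isInvFn hf.2) hx
  rw [Left.neg_nonpos_iff] at h
  exact nonneg_of_mul_nonneg_right h (by omega)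

/-- The Hilbert-Mumford criterion for semistability. -/
theorem isSemistablePt_iff (hG : Red.IsReductive G) [IsProper X.hom] (hB : HMNum.AmpleCover B)
    (x : 𝟙_ (Over (Spec (CommRingCat.of k))) ⟶ X) (p : (𝟙_ (Over (Spec (CommRingCat.of k)))).left) :
    B.IsSemistablePt (x.left.base p) ↔
      ∀ (l : Red.Gm (Spec (CommRingCat.of k)) ⟶ G) [IsMonHom l] (m : ℤ), HMNum.IsMu B l x m → 0 ≤ m := by
  constructor
  · rintro ⟨n, f, hn, hf, hx, -⟩ l _ m hm
    exact nonneg_of_invariant hB x p hn hf hx l m hm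
  · intro hμ
    obtain ⟨n, f, hn, hf, hx⟩ := exists_invariant hG hB x p hμ
    exact ⟨n, f, hn, hf, hx, nv hf.1, rfl, isAffineOpen_nv B hB hn hf.1⟩

end HMProjLib
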