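import Groth.Prelude.Def_HMNum

/-!
# Equivariant extensions on the points of the multiplicative group
-/

set_option autoImplicit false

universe u

open CategoryTheory MonoidalCategory CartesianMonoidalCategory MonObj AlgebraicGeometry Opposite
open Magnet

noncomputable section

namespace HMProjLib

variable {S : Scheme.{u}}

theorem attr_map {M : Type} [AddCommMonoid M] {X : Over S} (a : MonAct (AMonS S M) X) (N : AddSubmonoid M)
    {T R : Over S} (φ : (attr a N).obj (op T)) {x : T ⟶ X} (hx : (attrToX a N).app (op T) φ = x)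
    (g : R ⟶ AMonS S M) (t : R ⟶ T) :
    lift (g ≫ AMonS.map S N.subtype) t ≫ φ.1 = lift g (t ≫ x) ≫ a.act := by
  subst hx
  have h := (MonAct.mem_eqvHom_iff φ.1).mp φ.2 R g (1 : R ⟶ AMonS S ↥N) t
  have e : lift g (1 : R ⟶ AMonS S ↥N) ≫ (Magnet.subAct S M N).act = g ≫ AMonS.map S N.subtype :=
    ((MonAct.lift_restrict_act _ _ g (1 : R ⟶ AMonS S ↥N)).trans (MonAct.lift_regular_act _ _)).trans (_root_.mul_one _)
  rw [e] at h
  rw [h]
  congr 2
  change _ = t ≫ lift (toUnit _ ≫ η[AMonS S ↥N]) (𝟙 _) ≫ φ.1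
  rw [← Hom.one_def, ← Category.assoc, comp_lift, MonObj.comp_one, Category.comp_id]

variable {G X : Over S} [GrpObj G] {a : AlgGrp.Action G X} {l : Red.Gm S ⟶ G} [IsMonHom l]

/-- The extension of an orbit on the points of the multiplicative group. -/
theorem attr_incl {T R : Over S} (φ : (HMNum.attrPlus a l).obj (op T)) {x : T ⟶ X}
    (hφ : (attrToX (HMNum.gmAct a l) HMNum.plus).app (op T) φ = x) (g : R ⟶ Red.Gm S) (t : R ⟶ T) :
    lift (g ≫ HMNum.incl S) t ≫ φ.1 = lift (g ≫ l) (t ≫ x) ≫ a.act :=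
  (attr_map (HMNum.gmAct a l) HMNum.plus φ hφ g t).trans
    (MonAct.lift_restrict_act _ _ g (t ≫ x))

end HMProjLib
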