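import Groth.Agent.HMProjLib.Eig
import Groth.Agent.AttrPtLib.Chart
import Groth.Agent.HMProjLib.Attr

/-!
# Limits and eigensections
-/

set_option autoImplicit false
set_option backward.isDefEq.respectTransparency false
set_option synthInstance.maxHeartbeats 400000
set_option maxHeartbeats 1000000
set_option linter.style.haveILetI false
set_option linter.unusedSectionVars false

universe u

open CategoryTheory CategoryTheory.Limits MonoidalCategory CartesianMonoidalCategory AlgebraicGeometry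
  TopologicalSpace Opposite

noncomputable section

namespace HMProjLib

open GLinExtLib (rs rs_rs rs_self rs_appLE appLE_rs appLE_appLE' appLE_hom)
open GLinShLib (nv IsRatio)
open AttrPtLib (tau tauP tau_comp tau_ext chi gen chartObj chart)
open scoped MonObj

variable {k : Type u} [Field k]

/-- The coordinate of the origin is zero. -/
theorem tau_origin (T : Over (Spec (CommRingCat.of k))) :
    tau (toUnit T ≫ HMNum.origin (Spec (CommRingCat.of k))) = 0 := by
  let S := Spec (CommRingCat.of k)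
  rw [tau, chi, HMNum.origin, ← Category.assoc]
  let b : T ⟶ Magnet.AMonS S ↥(⊥ : AddSubmonoid ℤ) := toUnit T ≫ η[Magnet.AMonS S ↥(⊥ : AddSubmonoid ℤ)]
  have e : AttrPtLib.adj (b ≫ Magnet.AMonS.faceMap S HMNum.isFace_bot) =
      AttrPtLib.adj b ≫ Magnet.AMon.faceMap (ULift.{u} ℤ) HMNum.isFace_bot := AttrPtLib.adj_map b _
  rw [e, AttrPtLib.ringPt_comp_spec (AttrPtLib.adj b) (Magnet.faceAlgHom (ULift.{u} ℤ) HMNum.isFace_bot).toRingHom _
    (by rw [Over.comp_left, Magnet.AMon.faceMap_left])]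
  show AttrPtLib.ringPt (AttrPtLib.adj b) (Magnet.faceAlgHom (ULift.{u} ℤ) HMNum.isFace_bot _) = 0
  rw [Magnet.faceAlgHom_single_of_not_mem (ULift.{u} ℤ) HMNum.isFace_bot gen
    (fun h => one_ne_zero (α := ℤ) (AddSubmonoid.mem_bot.1 h)) 1, map_zero]

/-- The coordinate of a point of the multiplicative group. -/
theorem tau_incl {T : Over (Spec (CommRingCat.of k))} (g : T ⟶ Red.Gm (Spec (CommRingCat.of k))) :
    tau (g ≫ HMNum.incl (Spec (CommRingCat.of k))) = ((GmPts.unitOfPt g : (Γ(T.left, ⊤))ˣ) : Γ(T.left, ⊤)) := by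
  rw [tau]
  refine (AttrPtLib.chi_map (S := Spec (CommRingCat.of k)) g HMNum.plus.subtype gen).trans ?_
  rfl

theorem isIso_chart (Y : Over (Spec (CommRingCat.of k))) [IsAffine Y.left] :
    IsIso (chart Y (isAffineOpen_top Y.left)).left := by
  haveI : IsIso (isAffineOpen_top Y.left).fromSpec :=
    isIso_of_isOpenImmersion_of_opensRange_eq_top _ (Opens.ext (isAffineOpen_top Y.left).range_fromSpec)
  exact MorphismProperty.of_isPullback (P := MorphismProperty.isomorphisms Scheme)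
    (AttrPtLib.isPullback_chart Y (isAffineOpen_top Y.left)).flip ‹_›

theorem isIntegral_A1_prod (Y : Over (Spec (CommRingCat.of k))) [IsAffine Y.left] [IsIntegral Y.left] :
    IsIntegral (HMNum.A1 (Spec (CommRingCat.of k)) ⊗ Y).left := by
  haveI := isIso_chart Y
  haveI : Nonempty Y.left := inferInstance
  haveI : IsDomain Γ(Y.left, (⊤ : Y.left.Opens)) := inferInstance
  haveI : IsIntegral (chartObj Y (isAffineOpen_top Y.left)).left :=
    inferInstanceAs (IsIntegral (Spec (CommRingCat.of (Polynomial Γ(Y.left, (⊤ : Y.left.Opens))))))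
  haveI : Nonempty (HMNum.A1 (Spec (CommRingCat.of k)) ⊗ Y).left :=
    Nonempty.map (chart Y (isAffineOpen_top Y.left)).left inferInstance
  exact isIntegral_of_isOpenImmersion (inv (chart Y (isAffineOpen_top Y.left)).left)

instance : IsAffine (𝟙_ (Over (Spec (CommRingCat.of k)))).left :=
  inferInstanceAs (IsAffine (Spec (CommRingCat.of k)))

instance : IsIntegral (𝟙_ (Over (Spec (CommRingCat.of k)))).left :=
  inferInstanceAs (IsIntegral (Spec (CommRingCat.of k)))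

variable {G X : Over (Spec (CommRingCat.of k))} [GrpObj G] {a : AlgGrp.Action G X}
  {B : GLinSh.LinBun G a} {l : Red.Gm (Spec (CommRingCat.of k)) ⟶ G} [IsMonHom l]

/-- Eigensections nonvanishing at a limit are extreme among those nonvanishing at the point. -/
theorem mem_and_le_of_limit [IsAlgClosed k] {x y : 𝟙_ (Over (Spec (CommRingCat.of k))) ⟶ X}
    (hxy : HMNum.IsLimitPt a l x y) {N : ℕ} {R₀ : ℤ} {F₀ : Γ(B.V.left, ⊤)}
    (hF₀ : GLinSh.HasWeight B.atlas.chart N F₀) (he₀ : IsEig B l R₀ F₀)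
    (p : (𝟙_ (Over (Spec (CommRingCat.of k)))).left) (hy : y.left p ∈ GLinSh.nonvanishing B.π F₀) :
    x.left p ∈ GLinSh.nonvanishing B.π F₀ ∧ ∀ (R : ℤ) (F : Γ(B.V.left, ⊤)), GLinSh.HasWeight B.atlas.chart N F →
      IsEig B l R F → x.left p ∈ GLinSh.nonvanishing B.π F → R₀ ≤ R := by
  let S := Spec (CommRingCat.of k)
  let one := 𝟙_ (Over (Spec (CommRingCat.of k)))
  obtain ⟨φ, hφx, rfl⟩ := hxy
  haveI := isIntegral_A1_prod one
  haveI := (fld_unit (k := k)).subsingleton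
  let A := HMNum.A1 S ⊗ one
  let o : one ⟶ A := lift (toUnit one ≫ HMNum.origin S) (𝟙 one)
  have ho : o ≫ φ.1 = HMNum.limitPt φ := (HMNum.limitPt_eq φ).symm
  let O : A.left.Opens := φ.1.left ⁻¹ᵁ nv hF₀
  have hoO : o.left p ∈ O := by
    show (o ≫ φ.1).left p ∈ nv hF₀
    rw [ho]; exact hy
  let τ := tauP (S := S) one
  -- points where the coordinate is a unit
  have good : ∀ q : A.left, q ∈ A.left.basicOpen τ → ∃ (T : Over S) (g : T ⟶ Red.Gm S) (v : T ⟶ A),
      Fld T ∧ (∀ t, v.left t = q) ∧ v ≫ φ.1 = lift (g ≫ l) (toUnit T ≫ x) ≫ a.act ∧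
        ev v τ = ((GmPts.unitOfPt g : (Γ(T.left, ⊤))ˣ) : Γ(T.left, ⊤)) := by
    intro q hq
    obtain ⟨T, v, hT, hv⟩ := exists_fld q
    obtain ⟨t⟩ := hT.nonempty
    have hu : IsUnit (ev v τ) := (mem_basicOpen_iff_isUnit hT v τ t).1 (by rw [hv]; exact hq)
    let g : T ⟶ Red.Gm S := GmPts.ptOfUnit hu.unit
    have hg : GmPts.unitOfPt g = hu.unit := GmPts.unitOfPt_ptOfUnit _
    have e : v = lift (g ≫ HMNum.incl S) (toUnit T) := by
      refine CartesianMonoidalCategory.hom_ext _ _ ?_ (toUnit_unique _ _)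
      rw [lift_fst]
      refine tau_ext ?_
      rw [tau_incl, hg, IsUnit.unit_spec, tau_comp]
      rfl
    refine ⟨T, g, v, hT, hv, ?_, by rw [hg, IsUnit.unit_spec]⟩
    rw [e]
    exact attr_incl φ hφx g (toUnit T)
  have hτ : (A.left.basicOpen τ : Set A.left).Nonempty := by
    let w : one ⟶ A := lift ((GmPts.ptOfUnit (1 : (Γ(one.left, ⊤))ˣ) : one ⟶ Red.Gm S) ≫ HMNum.incl S) (𝟙 one)
    refine ⟨w.left p, ?_⟩
    rw [SetLike.mem_coe, mem_basicOpen_iff_isUnit fld_unit w τ p]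
    have : ev w τ = tau (w ≫ fst _ _) := (tau_comp w _).symm
    rw [this, lift_fst, tau_incl, GmPts.unitOfPt_ptOfUnit]
    exact isUnit_one
  -- the point itself
  obtain ⟨q, hqτ, hqO⟩ := nonempty_preirreducible_inter (A.left.basicOpen τ).isOpen O.isOpen hτ ⟨_, hoO⟩
  obtain ⟨T, g, v, hT, hv, hvφ, -⟩ := good q hqτ
  obtain ⟨t⟩ := hT.nonempty
  have hx : x.left p ∈ GLinSh.nonvanishing B.π F₀ := by
    have h1 : (lift (g ≫ l) (toUnit T ≫ x) ≫ a.act).left t ∈ GLinSh.nonvanishing B.π F₀ := by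
      rw [← hvφ]
      show φ.1.left (v.left t) ∈ nv hF₀
      rw [hv]; exact hqO
    have h2 := mem_nonvanishing_act he₀ hT g (toUnit T ≫ x) t h1
    rw [show p = (toUnit T).left t from Subsingleton.elim _ _]
    exact h2
  refine ⟨hx, fun R F hF he hxF => ?_⟩
  by_contra hlt
  obtain ⟨h, hh⟩ := GLinShLib.exists_ratio' (n := 1) (m := 1) hF₀ hF rfl
  obtain ⟨e, he'⟩ : ∃ e : ℕ, (e : ℤ) = R₀ - R := ⟨(R₀ - R).toNat, Int.toNat_of_nonneg (by omega)⟩
  have hxle : ⊤ ≤ x.left ⁻¹ᵁ nv hF₀ := fun z _ => by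
    show x.left z ∈ nv hF₀
    rw [Subsingleton.elim z p]; exact hx
  let c := x.left.appLE (nv hF₀) ⊤ hxle h
  have hc : IsUnit c := by
    refine one.left.toLocallyRingedSpace.toRingedSpace.isUnit_of_isUnit_germ ⊤ _ fun z hz =>
      (one.left.mem_basicOpen _ z hz).1 ?_
    rw [Scheme.basicOpen_appLE, GLinShLib.basicOpen_ratio' one_ne_zero hF₀ hF hh]
    refine ⟨trivial, ?_⟩
    show x.left z ∈ nv hF₀ ⊓ nv hF
    rw [Subsingleton.elim z p]; exact ⟨hx, hxF⟩
  let s : Γ(A.left, O) := φ.1.left.appLE (nv hF₀) O le_rfl h * rs (le_top : O ≤ ⊤) τ ^ e -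
    (toUnit A).left.appLE ⊤ O le_top c
  have heval : ∀ (T : Over S) (v : T ⟶ A) (hv : ⊤ ≤ v.left ⁻¹ᵁ O), v.left.appLE O ⊤ hv s =
      (v ≫ φ.1).left.appLE (nv hF₀) ⊤ hv h * ev v τ ^ e - (toUnit T).left.appTop c := by
    intro T v hv
    rw [map_sub, map_mul, map_pow, appLE_appLE', appLE_appLE', appLE_rs]
    refine congrArg₂ (· - ·) (congrArg₂ (· * ·) rfl (congrArg (· ^ e) ?_)) ?_
    · rw [ev, Scheme.Hom.appTop, Scheme.Hom.app_eq_appLE]; rfl
    · rw [Scheme.Hom.appTop, Scheme.Hom.app_eq_appLE]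
      exact appLE_hom (congrArg CommaMorphism.left (toUnit_unique (v ≫ toUnit A) (toUnit T))) _ _ c
  have hs : o.left p ∈ A.left.basicOpen s := by
    have hle : ⊤ ≤ o.left ⁻¹ᵁ O := fun z _ => by
      show o.left z ∈ O
      rw [Subsingleton.elim z p]; exact hoO
    have hu : IsUnit (o.left.appLE O ⊤ hle s) := by
      rw [heval, show ev o τ = 0 from (tau_comp o _).symm.trans (by rw [lift_fst]; exact tau_origin one),
        zero_pow (by omega), mul_zero, zero_sub]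
      exact (hc.map _).neg
    have : p ∈ one.left.basicOpen (o.left.appLE O ⊤ hle s) := by rw [one.left.basicOpen_of_isUnit hu]; trivial
    rw [Scheme.basicOpen_appLE] at this
    exact this.2
  obtain ⟨q, hqs, hqτ⟩ := nonempty_preirreducible_inter (A.left.basicOpen s).isOpen (A.left.basicOpen τ).isOpen
    ⟨_, hs⟩ hτ
  obtain ⟨T, g, v, hT, hv, hvφ, hvτ⟩ := good q hqτ
  obtain ⟨t⟩ := hT.nonempty
  have hvO : ⊤ ≤ v.left ⁻¹ᵁ O := fun z _ => by
    show v.left z ∈ O
    rw [hv]; exact A.left.basicOpen_le _ hqs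
  have h0 : t ∈ T.left.basicOpen (v.left.appLE O ⊤ hvO s) := by
    rw [Scheme.basicOpen_appLE]
    exact ⟨trivial, by show v.left t ∈ A.left.basicOpen s; rw [hv]; exact hqs⟩
  have hgx : ⊤ ≤ (lift (g ≫ l) (toUnit T ≫ x) ≫ a.act).left ⁻¹ᵁ nv hF₀ := by rw [← hvφ]; exact hvO
  have hux : ⊤ ≤ (toUnit T ≫ x).left ⁻¹ᵁ nv hF₀ := fun z _ => hxle (x := (toUnit T).left z) trivial
  have key : v.left.appLE O ⊤ hvO s = 0 := by
    rw [heval, appLE_hom (congrArg CommaMorphism.left hvφ) _ hgx, ratio_act hF₀ he he₀ hh hT g (toUnit T ≫ x) hux hgx,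
      hvτ, sub_eq_zero, mul_right_comm, ← Units.val_pow_eq_pow_val, ← Units.val_mul, ← zpow_natCast, ← zpow_add, he',
      sub_add_sub_cancel', sub_self, zpow_zero, Units.val_one, one_mul]
    exact (appTop_appLE (toUnit T).left x.left hxle h).symm
  rw [key, Scheme.basicOpen_zero] at h0
  exact h0

/-- The numerical function bounds the exponents of nonvanishing eigensections, and is attained. -/
theorem mul_eq_of_isMu [IsAlgClosed k] {x : 𝟙_ (Over (Spec (CommRingCat.of k))) ⟶ X} {m : ℤ}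
    (hm : HMNum.IsMu B l x m) (p : (𝟙_ (Over (Spec (CommRingCat.of k)))).left) :
    ∃ y, HMNum.IsLimitPt a l x y ∧ ∀ (n₀ : ℕ) (r₀ : ℤ) (f₀ : Γ(B.V.left, ⊤)), 1 ≤ n₀ →
      GLinSh.HasWeight B.atlas.chart n₀ f₀ → IsEig B l r₀ f₀ → y.left p ∈ GLinSh.nonvanishing B.π f₀ →
      r₀ = -(n₀ * m) ∧ x.left p ∈ GLinSh.nonvanishing B.π f₀ ∧
      ∀ (n : ℕ) (r : ℤ) (f : Γ(B.V.left, ⊤)), 1 ≤ n → GLinSh.HasWeight B.atlas.chart n f → IsEig B l r f →
        x.left p ∈ GLinSh.nonvanishing B.π f → -(n * m) ≤ r := by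
  obtain ⟨y, hxy, hw⟩ := hm
  refine ⟨y, hxy, fun n₀ r₀ f₀ hn₀ hf₀ he₀ hy => ?_⟩
  have hr₀ : r₀ = n₀ * (-m) := eig_eq_of_fixed hw hf₀ he₀ p hy
  rw [mul_neg] at hr₀
  refine ⟨hr₀, (mem_and_le_of_limit hxy hf₀ he₀ p hy).1, fun n r f hn hf he hx => ?_⟩
  have hw₀ : GLinSh.HasWeight B.atlas.chart (n₀ * n) (f₀ ^ n) := GLinShLib.hasWeight_pow hf₀ n
  have hw₁ : GLinSh.HasWeight B.atlas.chart (n₀ * n) (f ^ n₀) := by
    rw [mul_comm]; exact GLinShLib.hasWeight_pow hf n₀
  have h := (mem_and_le_of_limit hxy hw₀ (he₀.pow n) p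
    (by rw [GLinShLib.nonvanishing_pow f₀ hn]; exact hy)).2 (r * n₀) (f ^ n₀) hw₁ (he.pow n₀)
    (by rw [GLinShLib.nonvanishing_pow f hn₀]; exact hx)
  rw [hr₀] at h
  refine le_of_mul_le_mul_right (a := (n₀ : ℤ)) (le_of_eq_of_le (by ring) h) (by omega)

end HMProjLib
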