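import Groth.Agent.HMProjLib.Rep
import Groth.Agent.HMProjLib.Gm
import Groth.Agent.AttrPtLib.Chart
import Groth.Prelude.Def_CoactBr
import Groth.Prelude.Def_GLin
import Groth.Prelude.Def_WittGrp
import Groth.Agent.DiagRepLib.Scheme
import Groth.Prelude.Def_SGA3t2b

/-!
# The affine cone of a stable space of sections
-/

set_option autoImplicit false
set_option backward.isDefEq.respectTransparency false
set_option synthInstance.maxHeartbeats 400000
set_option maxHeartbeats 1000000
set_option linter.style.haveILetI false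
set_option linter.unusedSectionVars false

universe u

open CategoryTheory CategoryTheory.Limits MonoidalCategory CartesianMonoidalCategory AlgebraicGeometry
  TopologicalSpace Opposite

noncomputable section

namespace HMProjLib

open scoped MonObj TensorProduct
open CoactBr

attribute [-instance] CategoryTheory.Hom.commGroup

variable {k : Type u} [Field k] {A : Type u} [CommRing A] [HopfAlgebra k A]

/-- Global functions of an affine scheme over `k`. -/
def gam (A : Type u) [CommRing A] [Algebra k A] : A →+* Γ((sp k A).left, ⊤) :=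
  (Scheme.ΓSpecIso (CommRingCat.of A)).inv.hom

theorem gam_algebraMap (R : Type u) [CommRing R] [Algebra k R] (c : k) :
    gam (k := k) R (algebraMap k R c) = cst (sp k R) c := by
  show (Scheme.ΓSpecIso (CommRingCat.of R)).inv (algebraMap k R c) =
    (Spec.map (CommRingCat.ofHom (algebraMap k R))).appLE ⊤ ⊤ le_top ((Scheme.ΓSpecIso (CommRingCat.of k)).inv c)
  rw [show (Spec.map (CommRingCat.ofHom (algebraMap k R))).appLE ⊤ ⊤ le_top =
    (Spec.map (CommRingCat.ofHom (algebraMap k R))).appTop by rw [Scheme.Hom.appTop, Scheme.Hom.app_eq_appLE]; rfl]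
  exact ConcreteCategory.congr_hom (Scheme.ΓSpecIso_inv_naturality (CommRingCat.ofHom (algebraMap k R))) c

/-- The functions underlying a point of an affine scheme. -/
def fnOf {T : Over (Spec (CommRingCat.of k))} (R : Type u) [CommRing R] [Algebra k R] (g : T ⟶ sp k R) :
    R →+* Γ(T.left, ⊤) := g.left.appTop.hom.comp (gam (k := k) R)

theorem fnOf_algebraMap {T : Over (Spec (CommRingCat.of k))} (R : Type u) [CommRing R] [Algebra k R]
    (g : T ⟶ sp k R) (c : k) : fnOf R g (algebraMap k R c) = cst T c := by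
  show g.left.appTop (gam (k := k) R _) = _
  rw [gam_algebraMap]; exact ev_cst g c

theorem fnOf_pt {R K : Type u} [CommRing R] [Algebra k R] [CommRing K] [Algebra k K] (φ : R →ₐ[k] K) (x : R) :
    fnOf R (pt φ) x = gam (k := k) K (φ x) :=
  (ConcreteCategory.congr_hom (Scheme.ΓSpecIso_inv_naturality (CommRingCat.ofHom φ.toRingHom)) x).symm

/-- The point attached to a homomorphism. -/
theorem exists_ptOf (T : Over (Spec (CommRingCat.of k))) {R : Type u} [CommRing R] [Algebra k R]
    (φ : R →+* Γ(T.left, ⊤)) (hφ : ∀ c, φ (algebraMap k R c) = cst T c) :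
    ∃ g : T ⟶ sp k R, fnOf R g = φ := by
  refine ⟨Over.homMk (T.left.toSpecΓ ≫ Spec.map (CommRingCat.ofHom φ)) ?_, RingHom.ext fun x => ?_⟩
  · show (T.left.toSpecΓ ≫ Spec.map (CommRingCat.ofHom φ)) ≫ Spec.map (CommRingCat.ofHom (algebraMap k R)) = T.hom
    rw [Category.assoc, ← Spec.map_comp]
    refine Eq.trans ?_ (AttrPtLib.toSpec_spec T.hom)
    congr 2
    ext c
    refine (hφ c).trans ?_
    show T.hom.appLE ⊤ ⊤ le_top _ = T.hom.appTop _
    rw [Scheme.Hom.appTop, Scheme.Hom.app_eq_appLE]
    rfl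
  · show ((Scheme.ΓSpecIso (CommRingCat.of R)).inv ≫
      (T.left.toSpecΓ ≫ Spec.map (CommRingCat.ofHom φ)).appTop) x = φ x
    rw [AttrPtLib.appTop_toSpec]
    rfl

theorem fnOf_injective {T : Over (Spec (CommRingCat.of k))} {R : Type u} [CommRing R] [Algebra k R]
    {g g' : T ⟶ sp k R} (h : fnOf R g = fnOf R g') : g = g' := by
  refine Over.OverMorphism.ext ?_
  rw [← AttrPtLib.toSpec_spec g.left, ← AttrPtLib.toSpec_spec g'.left]
  congr 2
  exact CommRingCat.hom_ext h

theorem fnOf_comp {T T' : Over (Spec (CommRingCat.of k))} {R : Type u} [CommRing R] [Algebra k R]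
    (u : T' ⟶ T) (g : T ⟶ sp k R) (x : R) : fnOf R (u ≫ g) x = u.left.appTop (fnOf R g x) := by
  exact ev_comp u g (gam (k := k) R x)

theorem fnOf_mul {T : Over (Spec (CommRingCat.of k))} (g g' : T ⟶ sp k A) :
    letI : Algebra k Γ(T.left, ⊤) := (cst T).toAlgebra
    ∀ (φ φ' : A →ₐ[k] Γ(T.left, ⊤)), (∀ y, φ y = fnOf A g y) → (∀ y, φ' y = fnOf A g' y) → ∀ x : A,
      fnOf A (g * g') x = Algebra.TensorProduct.lift φ φ' (fun _ _ => .all _ _) (CoalgebraStruct.comul (R := k) x) := by
  letI : Algebra k Γ(T.left, ⊤) := (cst T).toAlgebra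
  intro φ φ' hφ hφ' x
  obtain ⟨can, hcan⟩ := exists_ptOf T (R := Γ(T.left, (⊤ : T.left.Opens))) (RingHom.id _) (fun c => rfl)
  have hfac : ∀ (ψ : A →ₐ[k] Γ(T.left, ⊤)) (y : A), fnOf A (can ≫ pt ψ) y = ψ y := fun ψ y => by
    rw [fnOf_comp, fnOf_pt]
    exact DFunLike.congr_fun hcan (ψ y)
  obtain rfl : g = can ≫ pt φ := fnOf_injective (RingHom.ext fun y => ((hfac φ y).trans (hφ y)).symm)
  obtain rfl : g' = can ≫ pt φ' := fnOf_injective (RingHom.ext fun y => ((hfac φ' y).trans (hφ' y)).symm)
  rw [← MonObj.comp_mul, pt_mul_pt, hfac]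
  rfl

theorem fnOf_one (T : Over (Spec (CommRingCat.of k))) (x : A) :
    fnOf A (1 : T ⟶ sp k A) x = cst T (CoalgebraStruct.counit (R := k) x) := by
  letI : Algebra k Γ(T.left, ⊤) := (cst T).toAlgebra
  obtain ⟨can, hcan⟩ := exists_ptOf T (R := Γ(T.left, (⊤ : T.left.Opens))) (RingHom.id _) (fun c => rfl)
  rw [← MonObj.comp_one can, ← Groth.Agent.DiagRep.pt_one, fnOf_comp, fnOf_pt]
  exact DFunLike.congr_fun hcan _

variable {G X : Over (Spec (CommRingCat.of k))} [GrpObj G] {a : AlgGrp.Action G X} {B : GLinSh.LinBun G a}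
  (w : sp k A ⟶ G) [IsMonHom w] [IsIso w] {M : ℕ} (P : Rep B M)

/-- The index type of the basis. -/
abbrev Idx : Type u := ULift.{u} (Fin P.R)

/-- The matrix of the inverse on the Hopf algebra. -/
def mat (i j : Idx P) : A :=
  (Scheme.ΓSpecIso (CommRingCat.of A)).hom ((w⁻¹).left.appTop (P.m i.down j.down))

theorem fnOf_mat {T : Over (Spec (CommRingCat.of k))} (g : T ⟶ sp k A) (i j : Idx P) :
    fnOf A g (mat w P i j) = ev ((g ≫ w)⁻¹) (P.m i.down j.down) := by
  rw [← GrpObj.comp_inv, ev_comp]
  show g.left.appTop ((Scheme.ΓSpecIso (CommRingCat.of A)).inv ((Scheme.ΓSpecIso (CommRingCat.of A)).hom _)) = _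
  rw [Iso.hom_inv_id_apply]

theorem fnOf_mat' {T : Over (Spec (CommRingCat.of k))} (h : T ⟶ G) (i j : Idx P) :
    fnOf A (h⁻¹ ≫ CategoryTheory.inv w) (mat w P i j) = ev h (P.m i.down j.down) := by
  rw [fnOf_mat, Category.assoc, IsIso.inv_hom_id, Category.comp_id, inv_inv]

variable [IsAlgClosed k] [IsAffine G.left] [Smooth G.hom]

theorem counit_mat (i j : Idx P) :
    CoalgebraStruct.counit (R := k) (mat w P i j) = if i = j then (1 : k) else 0 := by
  have e : gam (k := k) k (Bialgebra.counitAlgHom k A (mat w P i j)) =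
      gam (k := k) k (if i = j then (1 : k) else 0) := by
    rw [← fnOf_pt, fnOf_mat]
    have h1 : (pt (Bialgebra.counitAlgHom k A) : sp k k ⟶ sp k A) = 1 := by
      rw [← one_eq_pt']
    rw [h1, MonObj.one_comp, inv_one, ← MonObj.comp_one (toUnit (sp k k)), cst_valAt, P.m_one]
    rw [← gam_algebraMap k, Algebra.algebraMap_self, RingHom.id_apply]
    congr 1
    exact if_congr ULift.ext_iff.symm rfl rfl
  exact (ConcreteCategory.bijective_of_isIso (Scheme.ΓSpecIso (CommRingCat.of k)).inv).1 e
where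
  one_eq_pt' : (1 : sp k k ⟶ sp k A) = pt (Bialgebra.counitAlgHom k A) := by
    rw [← Groth.Agent.DiagRep.pt_one]
    congr 1

theorem comul_mat (i l : Idx P) :
    CoalgebraStruct.comul (R := k) (mat w P i l) = ∑ j, mat w P j l ⊗ₜ[k] mat w P i j := by
  let iL : A →ₐ[k] A ⊗[k] A := Algebra.TensorProduct.includeLeft
  let iR : A →ₐ[k] A ⊗[k] A := Algebra.TensorProduct.includeRight
  have e : gam (k := k) (A ⊗[k] A) (Bialgebra.comulAlgHom k A (mat w P i l)) =
      gam (k := k) (A ⊗[k] A) (∑ j, mat w P j l ⊗ₜ[k] mat w P i j) := by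
    have h1 : pt (Bialgebra.comulAlgHom k A) = pt iL * pt iR := by
      rw [pt_mul_pt]
      congr 1
      refine AlgHom.ext fun x => ?_
      show CoalgebraStruct.comul (R := k) x = Algebra.TensorProduct.lift iL iR (fun _ _ => .all _ _) (CoalgebraStruct.comul (R := k) x)
      generalize CoalgebraStruct.comul (R := k) x = z
      induction z using TensorProduct.induction_on with
      | zero => simp
      | add p q hp hq => rw [map_add, ← hp, ← hq]
      | tmul p q => simp [iL, iR]
    rw [← fnOf_pt, fnOf_mat, h1, MonObj.mul_comp, mul_inv_rev, P.m_mul, map_sum]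
    rw [← Equiv.sum_comp Equiv.ulift]
    refine Finset.sum_congr rfl fun j _ => ?_
    rw [show mat w P j l ⊗ₜ[k] mat w P i j = iR (mat w P i j) * iL (mat w P j l) by simp [iL, iR],
      map_mul, ← fnOf_pt, ← fnOf_pt, fnOf_mat, fnOf_mat]
    rfl
  exact (ConcreteCategory.bijective_of_isIso (Scheme.ΓSpecIso (CommRingCat.of (A ⊗[k] A))).inv).1 e

/-- The linear substitution. -/
def coactHom : MvPolynomial (Idx P) k →ₐ[k] MvPolynomial (Idx P) k ⊗[k] A :=
  MvPolynomial.aeval fun i => ∑ j, (MvPolynomial.X j : MvPolynomial (Idx P) k) ⊗ₜ[k] mat w P i j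

theorem coactHom_X (i : Idx P) :
    coactHom w P (MvPolynomial.X i) = ∑ j, (MvPolynomial.X j : MvPolynomial (Idx P) k) ⊗ₜ[k] mat w P i j :=
  MvPolynomial.aeval_X _ _

omit [IsAlgClosed k] [IsAffine G.left] [Smooth G.hom] in
/-- A coaction by algebra maps as a comodule. -/
@[reducible] def comodOfAlgHom {R : Type u} [CommRing R] [Algebra k R] (ρ : R →ₐ[k] R ⊗[k] A)
    (h₁ : (Algebra.TensorProduct.lift (AlgHom.id k R) ((Algebra.ofId k R).comp (Bialgebra.counitAlgHom k A))
      fun _ _ => .all _ _).comp ρ = AlgHom.id k R)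
    (h₂ : ((Algebra.TensorProduct.assoc k k k R A A).toAlgHom.comp
      (Algebra.TensorProduct.map ρ (AlgHom.id k A))).comp ρ =
        (Algebra.TensorProduct.map (AlgHom.id k R) (Bialgebra.comulAlgHom k A)).comp ρ) :
    HopfRep.Comod k A R where
  coact := ρ.toLinearMap
  counit_comp := by
    have key : ∀ z : R ⊗[k] A, (CoalgebraStruct.counit (R := k) (A := A)).lTensor R z =
        (Algebra.TensorProduct.lift (AlgHom.id k R) ((Algebra.ofId k R).comp (Bialgebra.counitAlgHom k A))
          fun _ _ => .all _ _) z ⊗ₜ[k] (1 : k) := fun z => by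
      induction z with
      | zero => simp
      | add p q hp hq => simp only [map_add, hp, hq, TensorProduct.add_tmul]
      | tmul p q =>
        simp only [LinearMap.lTensor_tmul, Algebra.TensorProduct.lift_tmul, AlgHom.id_apply, AlgHom.comp_apply,
          Algebra.ofId_apply, Bialgebra.counitAlgHom_apply]
        rw [mul_comm, ← Algebra.smul_def, TensorProduct.smul_tmul, smul_eq_mul, mul_one]
    refine LinearMap.ext fun r => ?_
    show (CoalgebraStruct.counit (R := k) (A := A)).lTensor R (ρ r) = r ⊗ₜ[k] (1 : k)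
    rw [key]
    exact congrArg (· ⊗ₜ[k] (1 : k)) (AlgHom.congr_fun h₁ r)
  coassoc := by
    have k1 : ∀ z : R ⊗[k] A, (CoalgebraStruct.comul (R := k) (A := A)).lTensor R z =
        Algebra.TensorProduct.map (AlgHom.id k R) (Bialgebra.comulAlgHom k A) z := fun z => by
      induction z with
      | zero => simp
      | add p q hp hq => simp only [map_add, hp, hq]
      | tmul p q => simp
    have k2 : ∀ z : R ⊗[k] A, TensorProduct.assoc k R A A (ρ.toLinearMap.rTensor A z) =
        Algebra.TensorProduct.assoc k k k R A A (Algebra.TensorProduct.map ρ (AlgHom.id k A) z) := fun z => by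
      induction z with
      | zero => simp
      | add p q hp hq => simp only [map_add, hp, hq]
      | tmul p q => rfl
    refine LinearMap.ext fun r => ?_
    show TensorProduct.assoc k R A A (ρ.toLinearMap.rTensor A (ρ r)) =
      (CoalgebraStruct.comul (R := k) (A := A)).lTensor R (ρ r)
    rw [k1, k2]
    exact AlgHom.congr_fun h₂ r

theorem coactHom_counit :
    (Algebra.TensorProduct.lift (AlgHom.id k (MvPolynomial (Idx P) k))
      ((Algebra.ofId k (MvPolynomial (Idx P) k)).comp (Bialgebra.counitAlgHom k A))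
      fun _ _ => .all _ _).comp (coactHom w P) = AlgHom.id k _ := by
  refine MvPolynomial.algHom_ext fun i => ?_
  rw [AlgHom.comp_apply, coactHom_X, map_sum, AlgHom.id_apply]
  simp only [Algebra.TensorProduct.lift_tmul, AlgHom.id_apply, AlgHom.comp_apply,
    Bialgebra.counitAlgHom_apply, counit_mat, apply_ite (Algebra.ofId k (MvPolynomial (Idx P) k)), map_one, map_zero,
    mul_ite, mul_one, mul_zero, Finset.sum_ite_eq, Finset.mem_univ, if_true]

theorem coactHom_comul :
    ((Algebra.TensorProduct.assoc k k k (MvPolynomial (Idx P) k) A A).toAlgHom.comp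
      (Algebra.TensorProduct.map (coactHom w P) (AlgHom.id k A))).comp (coactHom w P) =
        (Algebra.TensorProduct.map (AlgHom.id k (MvPolynomial (Idx P) k)) (Bialgebra.comulAlgHom k A)).comp
          (coactHom w P) := by
  refine MvPolynomial.algHom_ext fun i => ?_
  simp only [AlgHom.comp_apply, coactHom_X, map_sum, Algebra.TensorProduct.map_tmul, AlgHom.id_apply,
    TensorProduct.sum_tmul, Bialgebra.comulAlgHom_apply, comul_mat, TensorProduct.tmul_sum]
  rw [Finset.sum_comm]
  exact Finset.sum_congr rfl fun j _ => Finset.sum_congr rfl fun l _ => by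
    simp [Algebra.TensorProduct.assoc_tmul]

/-- The comodule of polynomials. -/
@[reducible] def polyComod : HopfRep.Comod k A (MvPolynomial (Idx P) k) :=
  comodOfAlgHom (coactHom w P) (coactHom_counit w P) (coactHom_comul w P)

theorem polyCoactAlg : @GLin.IsCoactAlg k _ A _ _ (MvPolynomial (Idx P) k) _ _ (polyComod w P) := by
  letI := polyComod w P
  exact ⟨map_one (coactHom w P), map_mul (coactHom w P)⟩

theorem polyLinear : @GLin.IsLinear k _ A _ _ (Idx P) _ (polyComod w P) := by
  letI := polyComod w P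
  exact fun i => ⟨fun j => mat w P i j, coactHom_X w P i⟩

/-- Polynomials in the sections. -/
def toSec : MvPolynomial (Idx P) k →+* Γ(B.V.left, ⊤) :=
  MvPolynomial.eval₂Hom (cst B.V) fun i => P.s i.down

omit [IsAlgClosed k] [IsAffine G.left] [Smooth G.hom] in
theorem ev_toSec {T : Over (Spec (CommRingCat.of k))} (v : T ⟶ B.V) (F : MvPolynomial (Idx P) k) :
    ev v (toSec P F) = MvPolynomial.eval₂ (cst T) (fun i => ev v (P.s i.down)) F := by
  rw [ev, toSec, MvPolynomial.coe_eval₂Hom, MvPolynomial.eval₂_comp_left v.left.appTop.hom]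
  congr 1
  exact RingHom.ext fun c => ev_cst v c

/-- Invariant polynomials give invariant functions. -/
theorem isInvFn_toSec {F : MvPolynomial (Idx P) k}
    (hF : coactHom w P F = F ⊗ₜ[k] (1 : A)) : GLinSh.IsInvFn B.lift (toSec P F) := by
  have main : ∀ (T : Over (Spec (CommRingCat.of k))) (h : T ⟶ G) (v : T ⟶ B.V),
      ev (lift h v ≫ B.lift.act) (toSec P F) = ev v (toSec P F) := by
    intro T h v
    letI : Algebra k Γ(T.left, ⊤) := (cst T).toAlgebra
    let g := h⁻¹ ≫ CategoryTheory.inv w
    let φ : A →ₐ[k] Γ(T.left, ⊤) := { fnOf A g with commutes' := fnOf_algebraMap A g }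
    let e : MvPolynomial (Idx P) k →ₐ[k] Γ(T.left, ⊤) := MvPolynomial.aeval fun i => ev v (P.s i.down)
    let L := Algebra.TensorProduct.lift e φ fun _ _ => .all _ _
    have h1 : L.comp (coactHom w P) = MvPolynomial.aeval fun i => ev (lift h v ≫ B.lift.act) (P.s i.down) := by
      refine MvPolynomial.algHom_ext fun i => ?_
      rw [AlgHom.comp_apply, coactHom_X, MvPolynomial.aeval_X, P.law, map_sum]
      refine Fintype.sum_equiv Equiv.ulift _ _ fun j => ?_
      rw [Algebra.TensorProduct.lift_tmul, MvPolynomial.aeval_X, mul_comm]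
      exact congrArg₂ (· * ·) (fnOf_mat' w P h i j) rfl
    have h2 := AlgHom.congr_fun h1 F
    rw [AlgHom.comp_apply, hF, Algebra.TensorProduct.lift_tmul, map_one, mul_one] at h2
    rw [ev_toSec, ev_toSec]
    exact h2.symm
  have := main (G ⊗ B.V) (fst G B.V) (snd G B.V)
  rw [lift_fst_snd, Category.id_comp] at this
  exact this

omit [IsAlgClosed k] [IsAffine G.left] [Smooth G.hom] in
theorem hasWeight_prod {κ : Type*} (s : Finset κ) (n : κ → ℕ) (F : κ → Γ(B.V.left, ⊤))
    (hF : ∀ j, GLinSh.HasWeight B.atlas.chart (n j) (F j)) :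
    GLinSh.HasWeight B.atlas.chart (∑ j ∈ s, n j) (∏ j ∈ s, F j) := by
  classical
  induction s using Finset.induction_on with
  | empty => rw [Finset.sum_empty, Finset.prod_empty]; exact GLinShLib.hasWeight_one
  | insert j s hj ih => rw [Finset.sum_insert hj, Finset.prod_insert hj]; exact GLinShLib.hasWeight_mul (hF j) ih

omit [IsAlgClosed k] [IsAffine G.left] [Smooth G.hom] in
/-- Homogeneous polynomials give sections of a weight. -/
theorem hasWeight_toSec {F : MvPolynomial (Idx P) k} {d : ℕ} (hd : F.IsHomogeneous d) :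
    GLinSh.HasWeight B.atlas.chart (M * d) (toSec P F) := by
  classical
  rw [toSec, MvPolynomial.coe_eval₂Hom, MvPolynomial.eval₂_eq]
  refine hasWeight_sum F.support (fun σ => MvPolynomial.coeff σ F) _ fun σ hσ => ?_
  have e : ∑ i ∈ σ.support, M * σ i = M * d := by
    rw [← Finset.mul_sum]
    congr 1
    rw [← hd (MvPolynomial.mem_support_iff.1 hσ), Finsupp.weight_apply, Finsupp.sum]
    simp
  rw [← e]
  exact hasWeight_prod _ _ _ fun i => GLinShLib.hasWeight_pow (P.weight i.down) _

section Lam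

variable (lam : A →ₐc[k] LaurentPolynomial k)

/-- Evaluation of Laurent polynomials at a point of the multiplicative group. -/
def psi {T : Over (Spec (CommRingCat.of k))} (u : T ⟶ Red.Gm (Spec (CommRingCat.of k))) :
    LaurentPolynomial k →+* Γ(T.left, ⊤) :=
  LaurentPolynomial.eval₂ (cst T) (GmPts.unitOfPt u)

omit [IsAlgClosed k] [IsAffine G.left] [Smooth G.hom] in
theorem psi_comp {T T' : Over (Spec (CommRingCat.of k))} (θ : T' ⟶ T) (u : T ⟶ Red.Gm (Spec (CommRingCat.of k)))
    (q : LaurentPolynomial k) : psi (θ ≫ u) q = θ.left.appTop (psi u q) := by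
  induction q using LaurentPolynomial.induction_on' with
  | add p q hp hq => simp only [map_add, hp, hq]
  | C_mul_T n c =>
    simp only [psi, map_mul, LaurentPolynomial.eval₂_C, LaurentPolynomial.eval₂_T, GmPts.unitOfPt_comp, ← map_zpow]
    exact congrArg₂ (· * ·) (ev_cst θ c).symm rfl

omit [IsAlgClosed k] [IsAffine G.left] [Smooth G.hom] in
theorem psi_id : psi (𝟙 (Red.Gm (Spec (CommRingCat.of k)))) = evGm k := by
  refine RingHom.ext fun q => ?_
  induction q using LaurentPolynomial.induction_on' with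
  | add p q hp hq => simp only [map_add, hp, hq]
  | C_mul_T n c =>
    simp only [psi, evGm, map_mul, LaurentPolynomial.eval₂_C, LaurentPolynomial.eval₂_T]
    congr 1
    show (Red.Gm _).hom.appLE ⊤ ⊤ le_top _ = (Red.Gm _).hom.appTop _
    rw [Scheme.Hom.appTop, Scheme.Hom.app_eq_appLE]
    rfl

omit [IsAlgClosed k] in
include lam in
/-- A cocharacter of the Hopf algebra gives a one-parameter subgroup, up to the inverse. -/
theorem exists_oneParam : ∃ (l : Red.Gm (Spec (CommRingCat.of k)) ⟶ G), IsMonHom l ∧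
    (l = 1 → SGA3t2b.IsTrivialBialgHom lam) ∧
    ∀ (T : Over (Spec (CommRingCat.of k))) (u : T ⟶ Red.Gm (Spec (CommRingCat.of k))) (i j : Idx P),
      ev (u ≫ l) (P.m i.down j.down) = psi u (lam (mat w P i j)) := by
  let Gm := Red.Gm (Spec (CommRingCat.of k))
  have hC : ∀ {T : Over (Spec (CommRingCat.of k))} (u : T ⟶ Gm) (c : k),
      psi u (lam (algebraMap k A c)) = cst T c := fun u c => by
    rw [show lam (algebraMap k A c) = algebraMap k (LaurentPolynomial k) c from AlgHomClass.commutes lam c,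
      ← LaurentPolynomial.C_eq_algebraMap, psi, LaurentPolynomial.eval₂_C]
  choose p hp using fun (T : Over (Spec (CommRingCat.of k))) (u : T ⟶ Gm) =>
    exists_ptOf T ((psi u).comp (lam : A →ₐ[k] LaurentPolynomial k).toRingHom) (hC u)
  have hnat : ∀ (T : Over (Spec (CommRingCat.of k))) (u : T ⟶ Gm), u ≫ p Gm (𝟙 _) = p T u := fun T u => by
    refine fnOf_injective (RingHom.ext fun x => ?_)
    rw [fnOf_comp, hp, hp]
    show u.left.appTop (psi (𝟙 Gm) (lam x)) = psi u (lam x)
    rw [← psi_comp, Category.comp_id]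
  have hmul : ∀ (T : Over (Spec (CommRingCat.of k))) (u u' : T ⟶ Gm), p T (u * u') = p T u' * p T u := by
    intro T u u'
    letI : Algebra k Γ(T.left, ⊤) := (cst T).toAlgebra
    refine fnOf_injective (RingHom.ext fun x => ?_)
    let Φ : ∀ z : T ⟶ Gm, A →ₐ[k] Γ(T.left, ⊤) := fun z =>
      { fnOf A (p T z) with commutes' := fnOf_algebraMap A _ }
    rw [fnOf_mul (p T u') (p T u) (Φ u') (Φ u) (fun _ => rfl) (fun _ => rfl), hp]
    let Ψ : ∀ z : T ⟶ Gm, LaurentPolynomial k →ₐ[k] Γ(T.left, ⊤) := fun z =>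
      { psi z with
        commutes' := fun c => (congrArg (psi z) (LaurentPolynomial.C_eq_algebraMap c).symm).trans
          (LaurentPolynomial.eval₂_C _ _ c) }
    let L := Algebra.TensorProduct.lift (Ψ u') (Ψ u) fun _ _ => .all _ _
    have hL : ∀ q : LaurentPolynomial k, L (CoalgebraStruct.comul (R := k) q) = psi (u * u') q := by
      intro q
      induction q using LaurentPolynomial.induction_on' with
      | add p q hp hq => simp only [map_add, hp, hq]
      | C_mul_T n c =>
        rw [← LaurentPolynomial.single_eq_C_mul_T, AddMonoidAlgebra.comul_single]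
        simp only [L, CommSemiring.comul_apply, TensorProduct.map_tmul, AddMonoidAlgebra.lsingle_apply,
          Algebra.TensorProduct.lift_tmul]
        show psi u' (AddMonoidAlgebra.single n 1) * psi u (AddMonoidAlgebra.single n c) = _
        simp only [LaurentPolynomial.single_eq_C_mul_T, psi, map_mul, LaurentPolynomial.eval₂_C,
          LaurentPolynomial.eval₂_T, map_one, one_mul]
        rw [show GmPts.unitOfPt (u * u') = GmPts.unitOfPt u * GmPts.unitOfPt u' from GmPts.unitOfPt_mul u u',
          mul_zpow, Units.val_mul]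
        ring
    show psi (u * u') (lam x) =
      Algebra.TensorProduct.lift (Φ u') (Φ u) (fun _ _ => .all _ _) (CoalgebraStruct.comul (R := k) x)
    rw [← hL, ← CoalgHomClass.map_comp_comul_apply]
    generalize CoalgebraStruct.comul (R := k) x = z
    induction z using TensorProduct.induction_on with
    | zero => simp
    | add a b ha hb => simp only [map_add, ha, hb]
    | tmul a b =>
      simp only [L, TensorProduct.map_tmul, Algebra.TensorProduct.lift_tmul]
      show psi u' (lam a) * psi u (lam b) = fnOf A (p T u') a * fnOf A (p T u) b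
      rw [hp, hp]
      rfl
  let l₁ : Gm ⟶ G := p Gm (𝟙 _) ≫ w
  have hl : ∀ (T : Over (Spec (CommRingCat.of k))) (u : T ⟶ Gm), u ≫ l₁⁻¹ = (p T u ≫ w)⁻¹ := fun T u => by
    rw [GrpObj.comp_inv, ← Category.assoc, hnat]
  refine ⟨l₁⁻¹, WittGrp.isMonHom_of_comp_mul _ ?_ (fun T u u' => ?_), fun h1 x => ?_, fun T u i j => ?_⟩
  · rw [hl]
    have h := hmul _ (1 : 𝟙_ _ ⟶ Gm) 1
    rw [_root_.one_mul] at h
    rw [left_eq_mul] at h
    rw [h, MonObj.one_comp, inv_one]
  · rw [hl, hl, hl, hmul, MonObj.mul_comp, mul_inv_rev]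
  · have hp1 : p Gm (𝟙 _) = 1 := by
      rw [← cancel_mono w, MonObj.one_comp]
      exact inv_eq_one.1 h1
    have e := RingHom.congr_fun (hp Gm (𝟙 _)) x
    rw [hp1, fnOf_one] at e
    refine (gm_facts (k := k)).2.2.1 ?_
    rw [← psi_id]
    refine Eq.trans e.symm ?_
    rw [← LaurentPolynomial.C_eq_algebraMap]
    exact (LaurentPolynomial.eval₂_C (cst Gm) _ _).symm
  · rw [hl, ← fnOf_mat, hp]
    rfl

end Lam

end HMProjLib
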