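import Groth.Agent.HMProjLib.Eig
import Groth.Agent.GLinShLib.LinComb
import Mathlib.AlgebraicGeometry.AlgClosed.Basic

/-!
# Decomposition of sections under an affine subgroup
-/

set_option autoImplicit false
set_option backward.isDefEq.respectTransparency false
set_option synthInstance.maxHeartbeats 400000
set_option maxHeartbeats 1000000
set_option linter.style.haveILetI false
set_option linter.unusedSectionVars false

universe u

open CategoryTheory CategoryTheory.Limits MonoidalCategory CartesianMonoidalCategory AlgebraicGeometry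
  TopologicalSpace Opposite

noncomputable section

namespace HMProjLib

open GLinExtLib (rs rs_rs rs_self rs_appLE appLE_rs appLE_appLE' appLE_hom)
open GLinShLib (Chart exists_chart const appLE_const)
open scoped MonObj TensorProduct

variable {k : Type u} [Field k]

/-- Constants. -/
abbrev cst (Z : Over (Spec (CommRingCat.of k))) : k →+* Γ(Z.left, ⊤) := const Z ⊤

theorem ev_cst {T Y : Over (Spec (CommRingCat.of k))} (v : T ⟶ Y) (c : k) : ev v (cst Y c) = cst T c := by
  rw [ev, Scheme.Hom.appTop, Scheme.Hom.app_eq_appLE]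
  exact appLE_const v ⊤ _ _ c

theorem cst_unit_bijective : Function.Bijective (cst (𝟙_ (Over (Spec (CommRingCat.of k))))) := by
  have : cst (𝟙_ (Over (Spec (CommRingCat.of k)))) = (Scheme.ΓSpecIso (CommRingCat.of k)).inv.hom := by
    refine RingHom.ext fun c => ?_
    show (𝟙_ (Over (Spec (CommRingCat.of k)))).hom.appLE ⊤ ⊤ le_top _ = _
    rw [show (𝟙_ (Over (Spec (CommRingCat.of k)))).hom = 𝟙 _ from rfl]
    simp [Scheme.Hom.appLE]
    rfl
  rw [this]
  exact ConcreteCategory.bijective_of_isIso (Scheme.ΓSpecIso (CommRingCat.of k)).inv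

/-- The scalar value of a function at a rational point. -/
def valAt {H : Over (Spec (CommRingCat.of k))} (g : 𝟙_ (Over (Spec (CommRingCat.of k))) ⟶ H) :
    Γ(H.left, ⊤) →+* k :=
  (RingEquiv.ofBijective _ (cst_unit_bijective (k := k))).symm.toRingHom.comp g.left.appTop.hom

theorem cst_valAt {H : Over (Spec (CommRingCat.of k))} (g : 𝟙_ (Over (Spec (CommRingCat.of k))) ⟶ H)
    (s : Γ(H.left, ⊤)) (T : Over (Spec (CommRingCat.of k))) : ev (toUnit T ≫ g) s = cst T (valAt g s) := by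
  rw [ev_comp, ← ev_cst (toUnit T)]
  show (toUnit T).left.appTop (ev g s) = (toUnit T).left.appTop _
  congr 1
  exact ((RingEquiv.ofBijective _ (cst_unit_bijective (k := k))).apply_symm_apply _).symm

theorem valAt_cst {H : Over (Spec (CommRingCat.of k))} (g : 𝟙_ (Over (Spec (CommRingCat.of k))) ⟶ H) (c : k) :
    valAt g (cst H c) = c := by
  refine (cst_unit_bijective (k := k)).1 ((cst_valAt g _ _).symm.trans ?_)
  rw [ev_cst]

/-- Functions on a reduced scheme of finite type are determined by the rational points. -/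
theorem eq_zero_of_forall_valAt [IsAlgClosed k] {H : Over (Spec (CommRingCat.of k))} [IsReduced H.left]
    [LocallyOfFiniteType H.hom] (s : Γ(H.left, ⊤))
    (h : ∀ g : 𝟙_ (Over (Spec (CommRingCat.of k))) ⟶ H, valAt g s = 0) : s = 0 := by
  haveI := LocallyOfFiniteType.jacobsonSpace H.hom
  refine eq_zero_of_basicOpen_eq_bot _ (eq_bot_iff.2 fun q hq => False.elim ?_)
  obtain ⟨z, hz, hzc⟩ := nonempty_inter_closedPoints (Z := (H.left.basicOpen s : Set H.left)) ⟨q, hq⟩
    (H.left.basicOpen s).isOpen.isLocallyClosed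
  obtain ⟨g₀, hg₀⟩ := ((pointEquivClosedPoint H.hom).symm ⟨z, hzc⟩ : _)
  let g : 𝟙_ (Over (Spec (CommRingCat.of k))) ⟶ H :=
    Over.homMk ((pointEquivClosedPoint H.hom).symm ⟨z, hzc⟩).1 ((pointEquivClosedPoint H.hom).symm ⟨z, hzc⟩).2
  have hgz : g.left (IsLocalRing.closedPoint k) = z :=
    congrArg Subtype.val ((pointEquivClosedPoint H.hom).apply_symm_apply ⟨z, hzc⟩)
  have hu := (mem_basicOpen_iff_isUnit fld_unit g s (IsLocalRing.closedPoint k)).1 (by rw [hgz]; exact hz)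
  rw [show g = toUnit _ ≫ g by rw [toUnit_unique (toUnit _) (𝟙 _), Category.id_comp], cst_valAt g s, h g,
    map_zero] at hu
  haveI := (fld_unit (k := k)).nontrivial
  exact not_isUnit_zero hu

/-- Dual vectors from separation. -/
theorem exists_dual {J P : Type*} [DecidableEq J] (w : P → J → k)
    (hsep : ∀ c : J →₀ k, (∀ g, (c.sum fun i x => x * w g i) = 0) → c = 0) (s : Finset J) :
    ∀ i ∈ s, ∃ c : P →₀ k, ∀ j ∈ s, (c.sum fun g x => x * w g j) = if j = i then 1 else 0 := by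
  classical
  let W : P → s → k := fun g j => w g j.1
  have hspan : Submodule.span k (Set.range W) = ⊤ := by
    by_contra hne
    obtain ⟨f, hf0, hf⟩ := Submodule.exists_dual_map_eq_bot_of_lt_top (lt_top_iff_ne_top.2 hne) inferInstance
    refine hf0 ?_
    let c : J →₀ k := ∑ j : s, Finsupp.single j.1 (f (Pi.single j 1))
    have hc : ∀ g, (c.sum fun i x => x * w g i) = 0 := fun g => by
      have h1 : f (W g) = 0 := by
        have : f (W g) ∈ (Submodule.span k (Set.range W)).map f := ⟨_, Submodule.subset_span ⟨g, rfl⟩, rfl⟩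
        rwa [hf, Submodule.mem_bot] at this
      rw [← Finsupp.sum_finsetSum_index (fun _ => zero_mul _) (fun _ _ _ => add_mul _ _ _)]
      refine Eq.trans ?_ h1
      conv_rhs => rw [pi_eq_sum_univ' (W g)]
      rw [map_sum]
      refine Finset.sum_congr rfl fun j _ => ?_
      rw [Finsupp.sum_single_index (zero_mul _), map_smul, smul_eq_mul, mul_comm]
    have hc0 := hsep c hc
    refine LinearMap.ext fun v => ?_
    rw [pi_eq_sum_univ' v, map_sum, LinearMap.zero_apply]
    refine Finset.sum_eq_zero fun j _ => ?_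
    have := DFunLike.congr_fun hc0 j.1
    rw [Finsupp.finsetSum_apply, Finset.sum_eq_single j (fun j' _ hne => Finsupp.single_eq_of_ne
      (fun e => hne (Subtype.ext e.symm))) (fun h => absurd (Finset.mem_univ _) h), Finsupp.single_eq_same] at this
    rw [map_smul, this, Finsupp.zero_apply, smul_zero]
  intro i hi
  have := (Finsupp.mem_span_range_iff_exists_finsupp).1 (hspan ▸ Submodule.mem_top (x := (Pi.single ⟨i, hi⟩ 1 : s → k)))
  obtain ⟨c, hc⟩ := this
  refine ⟨c, fun j hj => ?_⟩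
  have := congrFun hc ⟨j, hj⟩
  rw [Finsupp.sum, Finset.sum_apply] at this
  refine Eq.trans ?_ (this.trans ?_)
  · exact Finset.sum_congr rfl fun g _ => rfl
  · rw [Pi.single_apply]
    exact if_congr Subtype.ext_iff rfl rfl

/-- Functions on a product with an affine factor are combinations. -/
theorem exists_sum_tmul {H V : Over (Spec (CommRingCat.of k))} [IsAffine H.left] [CompactSpace V.left]
    [QuasiSeparatedSpace V.left] {J : Type u} (e : J → Γ(H.left, ⊤))
    (he : ∀ s, ∃ c : J →₀ k, s = c.sum fun i x => cst H x * e i) (F : Γ((H ⊗ V).left, ⊤)) :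
    ∃ b : J →₀ Γ(V.left, ⊤), F = b.sum fun i x => ev (fst H V) (e i) * ev (snd H V) x := by
  have sq : IsPullback (snd H V).left (fst H V).left V.hom H.hom := by
    rw [Over.fst_left, Over.snd_left]
    exact (IsPullback.of_hasPullback H.hom V.hom).flip
  haveI : Flat H.hom := by
    haveI : Subsingleton (Spec (CommRingCat.of k)) := inferInstanceAs (Subsingleton (PrimeSpectrum k))
    rw [HasRingHomProperty.iff_of_isAffine (P := @Flat)]
    letI := H.hom.appTop.hom.toAlgebra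
    haveI : IsField Γ(Spec (CommRingCat.of k), ⊤) → True := fun _ => trivial
    let eΓ := (Scheme.ΓSpecIso (CommRingCat.of k)).commRingCatIsoToRingEquiv
    have hf : IsField Γ(Spec (CommRingCat.of k), ⊤) := eΓ.toMulEquiv.isField (Field.toIsField k)
    letI := hf.toField
    exact RingHom.flat_algebraMap_iff.2 inferInstance
  have hp := (isIso_pushoutSection_iff sq (US := ⊤) (UT := ⊤) (UX := ⊤) (UY := ⊤) (by simp) (by simp)
    (by simp)).1 (isIso_pushoutSection_of_isQuasiSeparated_of_flat_right sq (by simp) (by simp) (by simp)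
      (isAffineOpen_top _) (isAffineOpen_top _) isCompact_univ isQuasiSeparated_univ)
  letI : Algebra k Γ(V.left, ⊤) := (cst V).toAlgebra
  letI : Algebra k Γ(H.left, ⊤) := (cst H).toAlgebra
  letI : Algebra k Γ((H ⊗ V).left, ⊤) := (cst (H ⊗ V)).toAlgebra
  let φ₁ : Γ(V.left, ⊤) →ₐ[k] Γ((H ⊗ V).left, ⊤) :=
    { (snd H V).left.appTop.hom with commutes' := fun c => ev_cst (snd H V) c }
  let φ₂ : Γ(H.left, ⊤) →ₐ[k] Γ((H ⊗ V).left, ⊤) :=
    { (fst H V).left.appTop.hom with commutes' := fun c => ev_cst (fst H V) c }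
  let E := Algebra.TensorProduct.lift φ₁ φ₂ fun _ _ => .all _ _
  let l₁ := CommRingCat.ofHom
    (Algebra.TensorProduct.includeLeftRingHom : Γ(V.left, ⊤) →+* Γ(V.left, ⊤) ⊗[k] Γ(H.left, ⊤))
  let l₂ := CommRingCat.ofHom
    (Algebra.TensorProduct.includeRight : Γ(H.left, ⊤) →ₐ[k] Γ(V.left, ⊤) ⊗[k] Γ(H.left, ⊤)).toRingHom
  have hw : V.hom.appLE ⊤ ⊤ (by simp) ≫ l₁ = H.hom.appLE ⊤ ⊤ (by simp) ≫ l₂ := by
    ext c
    obtain ⟨c, rfl⟩ : ∃ c', (Scheme.ΓSpecIso (CommRingCat.of k)).inv c' = c :=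
      (ConcreteCategory.bijective_of_isIso (Scheme.ΓSpecIso (CommRingCat.of k)).inv).2 c
    show cst V c ⊗ₜ[k] (1 : Γ(H.left, ⊤)) = (1 : Γ(V.left, ⊤)) ⊗ₜ[k] cst H c
    rw [show cst V c = c • (1 : Γ(V.left, ⊤)) by rw [Algebra.smul_def, mul_one]; rfl, TensorProduct.smul_tmul,
      Algebra.smul_def, mul_one]
    rfl
  let ψ := hp.desc l₁ l₂ hw
  have h1 : ∀ x, ψ ((snd H V).left.appLE ⊤ ⊤ (by simp) x) = l₁ x := fun x =>
    ConcreteCategory.congr_hom (hp.inl_desc l₁ l₂ hw) x
  have h2 : ∀ x, ψ ((fst H V).left.appLE ⊤ ⊤ (by simp) x) = l₂ x := fun x =>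
    ConcreteCategory.congr_hom (hp.inr_desc l₁ l₂ hw) x
  have hE : ψ ≫ CommRingCat.ofHom E.toRingHom = 𝟙 Γ((H ⊗ V).left, ⊤) := by
    refine hp.hom_ext (CommRingCat.hom_ext (RingHom.ext fun x => ?_)) (CommRingCat.hom_ext (RingHom.ext fun x => ?_))
    · show E (ψ ((snd H V).left.appLE ⊤ ⊤ _ x)) = (snd H V).left.appLE ⊤ ⊤ _ x
      rw [h1]
      show φ₁ x * φ₂ 1 = _
      rw [map_one, mul_one]
      show (snd H V).left.appTop x = _
      rw [Scheme.Hom.appTop, Scheme.Hom.app_eq_appLE]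
      rfl
    · show E (ψ ((fst H V).left.appLE ⊤ ⊤ _ x)) = (fst H V).left.appLE ⊤ ⊤ _ x
      rw [h2]
      show φ₁ 1 * φ₂ x = _
      rw [map_one, one_mul]
      show (fst H V).left.appTop x = _
      rw [Scheme.Hom.appTop, Scheme.Hom.app_eq_appLE]
      rfl
  rw [show F = E (ψ F) from (ConcreteCategory.congr_hom hE F).symm]
  generalize ψ F = z
  induction z using TensorProduct.induction_on with
  | zero => exact ⟨0, by rw [map_zero, Finsupp.sum_zero_index]⟩
  | add x y hx hy =>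
    obtain ⟨b, hb⟩ := hx
    obtain ⟨b', hb'⟩ := hy
    refine ⟨b + b', ?_⟩
    rw [map_add, hb, hb', Finsupp.sum_add_index' (fun i => (congrArg _ (map_zero _)).trans (mul_zero _))
      (fun i u v => (congrArg _ (map_add _ u v)).trans (mul_add _ _ _))]
  | tmul x a =>
    obtain ⟨c, hc⟩ := he a
    refine ⟨c.mapRange (fun r => cst V r * x) (by rw [map_zero, zero_mul]), ?_⟩
    rw [Finsupp.sum_mapRange_index (fun i => (congrArg _ (map_zero _)).trans (mul_zero _))]
    show φ₁ x * φ₂ a = _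
    rw [hc, map_finsuppSum, Finsupp.mul_sum]
    refine Finsupp.sum_congr fun i _ => ?_
    show ev (snd H V) x * ev (fst H V) (cst H _ * e i) = _
    rw [ev, ev, map_mul, ev, ev, map_mul, show (fst H V).left.appTop (cst H _) = _ from ev_cst (fst H V) _,
      show (snd H V).left.appTop (cst V _) = _ from ev_cst (snd H V) _]
    ring

variable {G X : Over (Spec (CommRingCat.of k))} [GrpObj G] {a : AlgGrp.Action G X} {B : GLinSh.LinBun G a}

/-- Translation of a function by a rational point. -/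
def tr (B : GLinSh.LinBun G a) (g : 𝟙_ (Over (Spec (CommRingCat.of k))) ⟶ G) :
    Γ(B.V.left, ⊤) →+* Γ(B.V.left, ⊤) :=
  (lift (toUnit B.V ≫ g) (𝟙 B.V) ≫ B.lift.act).left.appTop.hom

theorem ev_tr (g : 𝟙_ (Over (Spec (CommRingCat.of k))) ⟶ G) (f : Γ(B.V.left, ⊤))
    {T : Over (Spec (CommRingCat.of k))} (v : T ⟶ B.V) :
    ev v (tr B g f) = ev (lift (toUnit T ≫ g) v ≫ B.lift.act) f := by
  show v.left.appTop (ev (lift (toUnit B.V ≫ g) (𝟙 B.V) ≫ B.lift.act) f) = _
  rw [← ev_comp, comp_lift_assoc, Category.comp_id, ← Category.assoc, comp_toUnit]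

theorem tr_cst (g : 𝟙_ (Over (Spec (CommRingCat.of k))) ⟶ G) (c : k) : tr B g (cst B.V c) = cst B.V c :=
  ev_cst _ c

/-- Translation preserves weights. -/
theorem hasWeight_tr (g : 𝟙_ (Over (Spec (CommRingCat.of k))) ⟶ G) {n : ℕ} {f : Γ(B.V.left, ⊤)}
    (hf : GLinSh.HasWeight B.atlas.chart n f) : GLinSh.HasWeight B.atlas.chart n (tr B g f) := by
  refine GLinShLib.hasWeight_of_cover fun x => ?_
  let mX : X ⟶ G ⊗ X := lift (toUnit X ≫ g) (𝟙 X)
  let m : B.V ⟶ G ⊗ B.V := lift (toUnit B.V ≫ g) (𝟙 B.V)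
  have hm : m ≫ (G ◁ B.π) = B.π ≫ mX := by
    simp only [m, mX, lift_whiskerLeft, Category.id_comp, comp_lift, Category.comp_id]
    rw [← Category.assoc B.π, comp_toUnit]
  have hms : m ≫ snd G B.V = 𝟙 B.V := lift_snd _ _
  obtain ⟨K', hK', -⟩ := exists_chart (B := B) ((mX ≫ a.act).left x) (O := ⊤) trivial
  obtain ⟨K, hxK, hKO⟩ := exists_chart (B := B) x (O := (mX ≫ a.act).left ⁻¹ᵁ K'.W) hK'
  obtain ⟨c', hc'⟩ := hf K'.U K'.y K'.mem
  obtain ⟨cl, hcl⟩ := B.lift_linear K.U K'.U K.y K'.y K.mem K'.mem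
  let L := GLinSh.liftOpen a B.π K.U K'.U
  let W := B.π.left ⁻¹ᵁ K.W
  have hKd : K.W ≤ mX.left ⁻¹ᵁ (a.act.left ⁻¹ᵁ K'.U ⊓ (snd G X).left ⁻¹ᵁ K.U) := by
    rw [Scheme.Hom.preimage_inf]
    refine le_inf ?_ ?_
    · exact hKO.trans ((mX ≫ a.act).left.preimage_mono K'.le)
    · intro z hz
      show (mX ≫ snd G X).left z ∈ K.U
      rw [lift_snd]
      exact K.le hz
  have hWL : W ≤ m.left ⁻¹ᵁ L := by
    intro z hz
    show (m ≫ (G ◁ B.π)).left z ∈ a.act.left ⁻¹ᵁ K'.U ⊓ (snd G X).left ⁻¹ᵁ K.U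
    rw [hm]
    exact hKd hz
  have hKU' : K.W ≤ (mX ≫ a.act).left ⁻¹ᵁ K'.U := hKO.trans ((mX ≫ a.act).left.preimage_mono K'.le)
  refine ⟨K, hxK, (mX ≫ a.act).left.appLE K'.U K.W hKU' c' * mX.left.appLE _ K.W hKd cl ^ n, ?_⟩
  have hWV : W ≤ (m ≫ B.lift.act).left ⁻¹ᵁ (B.π.left ⁻¹ᵁ K'.U) := fun z hz =>
    GLinSh.liftOpen_le_act a B.π B.lift B.lift_π (hWL hz)
  have e1 := congrArg ((m ≫ B.lift.act).left.appLE (B.π.left ⁻¹ᵁ K'.U) W hWV) hc'
  rw [map_mul, map_pow] at e1
  have e2 := congrArg (m.left.appLE L W hWL) hcl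
  rw [map_mul, appLE_appLE', appLE_appLE', appLE_appLE'] at e2
  refine Eq.trans ?_ (e1.trans ?_)
  · show rs (le_top : W ≤ ⊤) ((m ≫ B.lift.act).left.appTop f) =
      (m ≫ B.lift.act).left.appLE (B.π.left ⁻¹ᵁ K'.U) W hWV (rs (le_top : B.π.left ⁻¹ᵁ K'.U ≤ ⊤) f)
    rw [Scheme.Hom.appTop, Scheme.Hom.app_eq_appLE, appLE_rs]
    exact rs_appLE _ _ _ _
  · rw [Scheme.Hom.app_eq_appLE, appLE_appLE', Scheme.Hom.app_eq_appLE, map_mul, map_pow, appLE_appLE',
      appLE_appLE', mul_assoc, ← mul_pow]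
    refine congrArg₂ (· * ·) ?_ (congrArg (· ^ n) ?_)
    · refine appLE_hom ?_ _ _ c'
      rw [← Over.comp_left, ← Over.comp_left, Category.assoc m, B.lift_π, reassoc_of% hm]
    · refine e2.trans (congrArg₂ (· * ·) ?_ ?_)
      · exact appLE_hom (congrArg CommaMorphism.left hm) _ _ cl
      · show _ = rs (B.π.left.preimage_mono K.le) K.y
        refine (appLE_hom (congrArg CommaMorphism.left hms) _ (fun z hz => K.le hz) K.y).trans ?_
        simp [Scheme.Hom.appLE]
        rfl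

theorem hasWeight_sum {κ : Type*} (s : Finset κ) {n : ℕ} (c : κ → k) (F : κ → Γ(B.V.left, ⊤))
    (hF : ∀ j ∈ s, GLinSh.HasWeight B.atlas.chart n (F j)) :
    GLinSh.HasWeight B.atlas.chart n (∑ j ∈ s, cst B.V (c j) * F j) := by
  intro U y hy
  choose! d hd using fun j hj => hF j hj U y hy
  refine ⟨∑ j ∈ s, const X U (c j) * d j, ?_⟩
  simp only [GLinSh.resTop, map_sum, map_mul] at hd ⊢
  rw [Finset.sum_mul]
  refine Finset.sum_congr rfl fun j hj => ?_
  rw [hd j hj, GLinShLib.map_const, Scheme.Hom.app_eq_appLE, appLE_const]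
  ring

/-- Decomposition of the translates of a section by a subgroup. -/
theorem exists_decomp [IsAlgClosed k] {H : Over (Spec (CommRingCat.of k))} [IsAffine H.left]
    [IsReduced H.left] [LocallyOfFiniteType H.hom] (iH : H ⟶ G) [CompactSpace B.V.left]
    [QuasiSeparatedSpace B.V.left] {J : Type u} [DecidableEq J] (e : J → Γ(H.left, ⊤))
    (he : ∀ s, ∃ c : J →₀ k, s = c.sum fun i x => cst H x * e i)
    (hind : ∀ c : J →₀ k, (c.sum fun i x => cst H x * e i) = 0 → c = 0)
    {n : ℕ} {f : Γ(B.V.left, ⊤)} (hf : GLinSh.HasWeight B.atlas.chart n f) :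
    ∃ b : J →₀ Γ(B.V.left, ⊤),
      (∀ i ∈ b.support, ∃ c : (𝟙_ (Over (Spec (CommRingCat.of k))) ⟶ H) →₀ k,
        b i = (c.sum fun g x => cst B.V x * tr B (g ≫ iH) f) ∧
          ∀ j ∈ b.support, (c.sum fun g x => x * valAt g (e j)) = if j = i then 1 else 0) ∧
      (∀ i, GLinSh.HasWeight B.atlas.chart n (b i)) ∧
      (∀ g, tr B (g ≫ iH) f = b.sum fun i x => cst B.V (valAt g (e i)) * x) ∧
      ∀ (T : Over (Spec (CommRingCat.of k))) (h : T ⟶ H) (v : T ⟶ B.V),
        ev (lift (h ≫ iH) v ≫ B.lift.act) f = b.sum fun i x => ev h (e i) * ev v x := by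
  classical
  obtain ⟨b, hb⟩ := exists_sum_tmul e he (ev (lift (fst H B.V ≫ iH) (snd H B.V) ≫ B.lift.act) f)
  have hall : ∀ (T : Over (Spec (CommRingCat.of k))) (h : T ⟶ H) (v : T ⟶ B.V),
      ev (lift (h ≫ iH) v ≫ B.lift.act) f = b.sum fun i x => ev h (e i) * ev v x := fun T h v => by
    have h1 := (ev_comp (lift h v) _ f).trans (congrArg (ev (lift h v)) hb)
    rw [comp_lift_assoc, lift_fst_assoc, lift_snd] at h1
    refine h1.trans ((map_finsuppSum _ _ _).trans (Finsupp.sum_congr fun i _ => ?_))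
    rw [ev, map_mul]
    exact congrArg₂ (· * ·) ((ev_comp _ _ _).symm.trans (by rw [lift_fst]))
      ((ev_comp _ _ _).symm.trans (by rw [lift_snd]))
  have htr : ∀ g, tr B (g ≫ iH) f = b.sum fun i x => cst B.V (valAt g (e i)) * x := fun g => by
    refine Eq.trans ?_ ((hall B.V (toUnit _ ≫ g) (𝟙 _)).trans (Finsupp.sum_congr fun i _ => ?_))
    · rw [Category.assoc]
      rfl
    · rw [cst_valAt]
      exact congrArg₂ (· * ·) rfl (by simp [ev])
  have hsep : ∀ c : J →₀ k, (∀ g : 𝟙_ (Over (Spec (CommRingCat.of k))) ⟶ H,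
      (c.sum fun i x => x * valAt g (e i)) = 0) → c = 0 := fun c hc => hind c <| eq_zero_of_forall_valAt _ fun g => by
    rw [map_finsuppSum, ← hc g]
    exact Finsupp.sum_congr fun i _ => by rw [map_mul, valAt_cst]
  have hdual : ∀ i ∈ b.support, ∃ c : (𝟙_ (Over (Spec (CommRingCat.of k))) ⟶ H) →₀ k,
      b i = (c.sum fun g x => cst B.V x * tr B (g ≫ iH) f) ∧
        ∀ j ∈ b.support, (c.sum fun g x => x * valAt g (e j)) = if j = i then 1 else 0 := fun i hi => by
    obtain ⟨c, hc⟩ := exists_dual (fun g j => valAt g (e j)) hsep b.support i hi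
    refine ⟨c, ?_, hc⟩
    simp only [htr, Finsupp.mul_sum, ← mul_assoc, ← map_mul]
    rw [Finsupp.sum_comm]
    simp only [← Finsupp.sum_mul]
    rw [Finsupp.sum, Finset.sum_eq_single i (fun j hj hne => ?_) (fun h => absurd hi h)]
    · rw [← map_finsuppSum, hc i hi, if_pos rfl, map_one, one_mul]
    · rw [← map_finsuppSum, hc j hj, if_neg hne, map_zero, zero_mul]
  refine ⟨b, hdual, fun i => ?_, htr, hall⟩
  by_cases hi : i ∈ b.support
  · obtain ⟨c, hc, -⟩ := hdual i hi
    rw [hc]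
    exact hasWeight_sum _ _ _ fun g _ => hasWeight_tr _ hf
  · rw [Finsupp.notMem_support_iff.1 hi]
    exact fun U y _ => ⟨0, by rw [GLinSh.resTop, map_zero, map_zero, zero_mul]⟩

end HMProjLib
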