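import Groth.Agent.HMProjLib.Pts
import Groth.Agent.GLinExtLib.Coord
import Groth.Prelude.Def_HMNum

/-!
# Eigensections for a one-parameter subgroup
-/

set_option autoImplicit false
set_option backward.isDefEq.respectTransparency false
set_option synthInstance.maxHeartbeats 400000
set_option maxHeartbeats 1000000
set_option linter.style.haveILetI false
set_option linter.unusedSectionVars false

universe u

open CategoryTheory CategoryTheory.Limits MonoidalCategory CartesianMonoidalCategory AlgebraicGeometry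
  TopologicalSpace Opposite

noncomputable section

namespace HMProjLib

open GLinExtLib (rs rs_rs rs_self rs_appLE appLE_rs appLE_appLE' appLE_hom)
open GLinShLib (nv IsRatio)
open scoped MonObj

variable {k : Type u} [Field k] {G X : Over (Spec (CommRingCat.of k))} [GrpObj G] {a : AlgGrp.Action G X}
  {B : GLinSh.LinBun G a}

/-- Pulling back a value along a morphism of points. -/
theorem appTop_appLE {T T' : Scheme.{u}} (m : T' ⟶ T) {Y : Scheme.{u}} (q : T ⟶ Y) {O : Y.Opens} (hq : ⊤ ≤ q ⁻¹ᵁ O)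
    (s : Γ(Y, O)) : m.appTop (q.appLE O ⊤ hq s) = (m ≫ q).appLE O ⊤ (fun z _ => hq (x := m z) trivial) s := by
  rw [← Scheme.Hom.appLE_comp_appLE m q O ⊤ ⊤ hq (fun _ _ => trivial), Scheme.Hom.appTop, Scheme.Hom.app_eq_appLE]
  rfl

/-- The function `f` is multiplied by `z ^ r` under the one-parameter subgroup `l`. -/
def IsEig (B : GLinSh.LinBun G a) (l : Red.Gm (Spec (CommRingCat.of k)) ⟶ G) (r : ℤ) (f : Γ(B.V.left, ⊤)) : Prop :=
  ∀ (T : Over (Spec (CommRingCat.of k))) (g : T ⟶ Red.Gm (Spec (CommRingCat.of k))) (v : T ⟶ B.V),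
    ev (lift (g ≫ l) v ≫ B.lift.act) f = ((GmPts.unitOfPt g ^ r : (Γ(T.left, ⊤))ˣ) : Γ(T.left, ⊤)) * ev v f

variable {l : Red.Gm (Spec (CommRingCat.of k)) ⟶ G}

theorem IsEig.mul {r r' : ℤ} {f f' : Γ(B.V.left, ⊤)} (h : IsEig B l r f) (h' : IsEig B l r' f') :
    IsEig B l (r + r') (f * f') := fun T g v => by
  rw [ev, map_mul, ev, map_mul, show (lift (g ≫ l) v ≫ B.lift.act).left.appTop f = _ from h T g v,
    show (lift (g ≫ l) v ≫ B.lift.act).left.appTop f' = _ from h' T g v, zpow_add, Units.val_mul]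
  ring

theorem IsEig.pow {r : ℤ} {f : Γ(B.V.left, ⊤)} (h : IsEig B l r f) (n : ℕ) : IsEig B l (r * n) (f ^ n) := by
  induction n with
  | zero =>
    intro T g v
    simp [ev]
  | succ n ih => rw [pow_succ, Nat.cast_succ, mul_add, mul_one]; exact ih.mul h

theorem lift_act_π {T : Over (Spec (CommRingCat.of k))} (g : T ⟶ G) (v : T ⟶ B.V) :
    (lift g v ≫ B.lift.act) ≫ B.π = lift g (v ≫ B.π) ≫ a.act := by
  rw [Category.assoc, B.lift_π, lift_whiskerLeft_assoc]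

/-- Values of a section in an admissible coordinate. -/
theorem ev_eq_coord {n : ℕ} {f : Γ(B.V.left, ⊤)} {U : X.left.Opens} {y : Γ(B.V.left, B.π.left ⁻¹ᵁ U)}
    {c : Γ(X.left, U)} (hc : GLinSh.resTop B.π U f = B.π.left.app U c * y ^ n)
    {T' : Over (Spec (CommRingCat.of k))} (v : T' ⟶ B.V) {q : T' ⟶ X} (hv : v ≫ B.π = q)
    (hq : ⊤ ≤ q.left ⁻¹ᵁ U) (h : ⊤ ≤ v.left ⁻¹ᵁ (B.π.left ⁻¹ᵁ U)) :
    ev v f = q.left.appLE U ⊤ hq c * HMNum.evalFn B.π y v h ^ n := by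
  subst hv
  have e := congrArg (v.left.appLE (B.π.left ⁻¹ᵁ U) ⊤ h) hc
  rw [map_mul, map_pow] at e
  refine Eq.trans ?_ (e.trans ?_)
  · show v.left.appTop f = v.left.appLE (B.π.left ⁻¹ᵁ U) ⊤ h (rs (le_top : B.π.left ⁻¹ᵁ U ≤ ⊤) f)
    rw [appLE_rs, Scheme.Hom.appTop, Scheme.Hom.app_eq_appLE]
    rfl
  · rw [Scheme.Hom.app_eq_appLE, appLE_appLE']
    rfl

/-- At a fixed point the weight of the fibre is read off from a nonvanishing eigensection. -/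
theorem eig_eq_of_fixed {y₀ : 𝟙_ (Over (Spec (CommRingCat.of k))) ⟶ X} {w : ℤ}
    (hw : HMNum.HasFibreWeight B l y₀ w) {n : ℕ} {r : ℤ} {f : Γ(B.V.left, ⊤)}
    (hn : GLinSh.HasWeight B.atlas.chart n f) (he : IsEig B l r f) [IsAlgClosed k]
    (p : (𝟙_ (Over (Spec (CommRingCat.of k)))).left) (hp : y₀.left p ∈ GLinSh.nonvanishing B.π f) :
    r = n * w := by
  by_contra hne
  obtain ⟨hfix, U, y, hy, hU, hchar⟩ := hw
  obtain ⟨c, hc⟩ := hn U y hy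
  obtain ⟨T', θ, v, hT', hv, hu⟩ := exists_lift_unit y₀ p fld_unit hp
  obtain ⟨u, hu'⟩ := hT'.exists_unit_zpow_ne (sub_ne_zero.2 hne : r - n * w ≠ 0)
  let g : T' ⟶ Red.Gm (Spec (CommRingCat.of k)) := GmPts.ptOfUnit u
  have hg : GmPts.unitOfPt g = u := GmPts.unitOfPt_ptOfUnit u
  have hgv : (lift (g ≫ l) v ≫ B.lift.act) ≫ B.π = θ ≫ y₀ := by
    rw [lift_act_π, hv, hfix T' θ g]
  have h1 := hchar T' θ g v hv hgv
  have hq : ⊤ ≤ (θ ≫ y₀).left ⁻¹ᵁ U := by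
    show ⊤ ≤ θ.left ⁻¹ᵁ (y₀.left ⁻¹ᵁ U)
    rw [hU]; exact le_of_eq rfl
  have h2 := ev_eq_coord hc (lift (g ≫ l) v ≫ B.lift.act) hgv hq (HMNum.top_le_preimage B.π hU hgv)
  have h3 := ev_eq_coord hc v hv hq (HMNum.top_le_preimage B.π hU hv)
  have h4 := he T' g v
  rw [h2, h1, mul_pow, mul_left_comm, ← h3, ← Units.val_pow_eq_pow_val, ← zpow_natCast, ← zpow_mul, hg] at h4
  have h5 : u ^ (w * (n : ℤ)) = u ^ r := Units.ext (hu.mul_left_inj.1 h4)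
  apply hne
  exfalso
  apply hu'
  rw [zpow_sub, ← h5, mul_comm (n : ℤ) w, mul_inv_cancel]

/-- Nonvanishing loci of eigensections are invariant. -/
theorem mem_nonvanishing_act {r : ℤ} {f : Γ(B.V.left, ⊤)} (he : IsEig B l r f)
    {T : Over (Spec (CommRingCat.of k))} (hT : Fld T) (g : T ⟶ Red.Gm (Spec (CommRingCat.of k))) (q : T ⟶ X)
    (t : T.left) (h : (lift (g ≫ l) q ≫ a.act).left t ∈ GLinSh.nonvanishing B.π f) :
    q.left t ∈ GLinSh.nonvanishing B.π f := by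
  obtain ⟨T', θ, v, hT', hv, hu⟩ := exists_lift_unit _ t hT h
  let v' : T' ⟶ B.V := lift ((θ ≫ g) ≫ l)⁻¹ v ≫ B.lift.act
  refine mem_nonvanishing_of_unit (θ := θ) (v := v') hT hT' ?_ ?_ t
  · rw [lift_act_π, hv, comp_lift_assoc, ← a.lift_mul_act, ← Category.assoc θ g, inv_mul_cancel, a.lift_one_act]
  · have e : lift ((θ ≫ g) ≫ l) v' ≫ B.lift.act = v := by
      rw [← B.lift.lift_mul_act, mul_inv_cancel, B.lift.lift_one_act]
    have := he T' (θ ≫ g) v'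
    rw [e] at this
    rw [this] at hu
    exact isUnit_of_mul_isUnit_right hu

/-- The value of a ratio at a point. -/
theorem ratio_ev {O : X.left.Opens} {f g : Γ(B.V.left, ⊤)} {h : Γ(X.left, O)} (hh : IsRatio O 1 1 f g h)
    {T : Over (Spec (CommRingCat.of k))} (hT : Fld T) (v : T ⟶ B.V) {q : T ⟶ X} (hv : v ≫ B.π = q)
    (hu : IsUnit (ev v f)) (hq : ⊤ ≤ q.left ⁻¹ᵁ O) : q.left.appLE O ⊤ hq h * ev v f = ev v g := by
  subst hv
  have hle : ⊤ ≤ v.left ⁻¹ᵁ (B.π.left ⁻¹ᵁ O ⊓ B.V.left.basicOpen f) := fun t _ =>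
    ⟨hq trivial, (mem_basicOpen_iff_isUnit hT v f t).2 hu⟩
  have e := congrArg (v.left.appLE _ ⊤ hle) hh
  rw [pow_one, pow_one, map_mul, appLE_appLE', appLE_rs, appLE_rs] at e
  rw [ev, ev, Scheme.Hom.appTop, Scheme.Hom.app_eq_appLE]
  exact e

theorem Fld.top_le {T Y : Over (Spec (CommRingCat.of k))} (hT : Fld T) (q : T ⟶ Y) {O : Y.left.Opens} {t : T.left}
    (h : q.left t ∈ O) : ⊤ ≤ q.left ⁻¹ᵁ O := fun t' _ => by
  haveI := hT.subsingleton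
  show q.left t' ∈ O
  rw [Subsingleton.elim t' t]
  exact h

/-- Equivariance of a ratio of eigensections. -/
theorem ratio_act {R R₀ : ℤ} {F F₀ : Γ(B.V.left, ⊤)} {N : ℕ}
    (hF₀ : GLinSh.HasWeight B.atlas.chart N F₀) (he : IsEig B l R F) (he₀ : IsEig B l R₀ F₀)
    {h : Γ(X.left, nv hF₀)} (hh : IsRatio (nv hF₀) 1 1 F₀ F h)
    {T : Over (Spec (CommRingCat.of k))} (hT : Fld T) (g : T ⟶ Red.Gm (Spec (CommRingCat.of k))) (q : T ⟶ X)
    (hq : ⊤ ≤ q.left ⁻¹ᵁ nv hF₀) (hgq : ⊤ ≤ (lift (g ≫ l) q ≫ a.act).left ⁻¹ᵁ nv hF₀) :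
    (lift (g ≫ l) q ≫ a.act).left.appLE (nv hF₀) ⊤ hgq h =
      ((GmPts.unitOfPt g ^ (R - R₀) : (Γ(T.left, ⊤))ˣ) : Γ(T.left, ⊤)) * q.left.appLE (nv hF₀) ⊤ hq h := by
  obtain ⟨t⟩ := hT.nonempty
  obtain ⟨T', θ, v, hT', hv, hu⟩ := exists_lift_unit q t hT (hq (x := t) trivial)
  refine (injective_of_fld hT hT' θ) ?_
  have hθq : ⊤ ≤ (θ ≫ q).left ⁻¹ᵁ nv hF₀ := fun z _ => hq (x := θ.left z) trivial
  have hvg : (lift ((θ ≫ g) ≫ l) v ≫ B.lift.act) ≫ B.π = θ ≫ lift (g ≫ l) q ≫ a.act := by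
    rw [lift_act_π, hv, comp_lift_assoc, Category.assoc θ g l]
  have hu₁ : IsUnit (ev (lift ((θ ≫ g) ≫ l) v ≫ B.lift.act) F₀) := by
    rw [he₀ T' _ v]; exact (Units.isUnit _).mul hu
  have hθg : ⊤ ≤ (θ ≫ lift (g ≫ l) q ≫ a.act).left ⁻¹ᵁ nv hF₀ := fun z _ => hgq (x := θ.left z) trivial
  have e1 := ratio_ev hh hT' _ hvg hu₁ hθg
  have e2 := ratio_ev hh hT' _ hv hu hθq
  rw [he₀ T' _ v, he T' _ v, ← e2] at e1
  have key : (θ ≫ lift (g ≫ l) q ≫ a.act).left.appLE (nv hF₀) ⊤ hθg h =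
      ((GmPts.unitOfPt (θ ≫ g) ^ (R - R₀) : (Γ(T'.left, ⊤))ˣ) : Γ(T'.left, ⊤)) *
        (θ ≫ q).left.appLE (nv hF₀) ⊤ hθq h := by
    refine ((Units.isUnit (GmPts.unitOfPt (θ ≫ g) ^ R₀)).mul hu).mul_left_inj.1 (e1.trans ?_)
    have : ((GmPts.unitOfPt (θ ≫ g) ^ R : (Γ(T'.left, ⊤))ˣ) : Γ(T'.left, ⊤)) =
        ((GmPts.unitOfPt (θ ≫ g) ^ (R - R₀) : (Γ(T'.left, ⊤))ˣ) : Γ(T'.left, ⊤)) *
          ((GmPts.unitOfPt (θ ≫ g) ^ R₀ : (Γ(T'.left, ⊤))ˣ) : Γ(T'.left, ⊤)) := by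
      rw [← Units.val_mul, ← zpow_add, sub_add_cancel]
    rw [this]
    ring
  rw [map_mul, GmPts.unitOfPt_comp, ← map_zpow] at *
  refine Eq.trans ?_ (key.trans ?_)
  · exact appTop_appLE θ.left _ hgq h
  · exact congrArg₂ (· * ·) rfl (appTop_appLE θ.left _ hq h).symm
where
  injective_of_fld {T T' : Over (Spec (CommRingCat.of k))} (hT : Fld T) (hT' : Fld T') (θ : T' ⟶ T) :
      Function.Injective θ.left.appTop := fun x y e => by
    haveI := hT'.nontrivial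
    by_contra hne
    have hu : IsUnit (x - y) := hT.isUnit_iff.2 (sub_ne_zero.2 hne)
    have := hu.map θ.left.appTop.hom
    rw [map_sub, e, sub_self] at this
    exact not_isUnit_zero this

end HMProjLib
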