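import Groth.Agent.HMProjLib.LimitAux
import Groth.Agent.HMProjLib.Gm
import Groth.Agent.WeilExtLib.Codim

/-!
# Existence of limits
-/

set_option autoImplicit false
set_option backward.isDefEq.respectTransparency false
set_option synthInstance.maxHeartbeats 400000
set_option maxHeartbeats 1000000
set_option linter.style.haveILetI false
set_option linter.unusedSectionVars false

universe u

open CategoryTheory CategoryTheory.Limits MonoidalCategory CartesianMonoidalCategory AlgebraicGeometry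
  TopologicalSpace Opposite

noncomputable section

namespace HMProjLib

open scoped MonObj
open AttrPtLib (tau tauP tau_comp tau_ext tau_mul chartObj chart)

variable {k : Type u} [Field k]

theorem appLE_eq_appTop {X Y : Scheme.{u}} (f : X ⟶ Y) : f.appLE ⊤ ⊤ le_top = f.appTop := by
  rw [Scheme.Hom.appTop, Scheme.Hom.app_eq_appLE]; rfl

/-- The stalks of the affine line are regular of dimension at most one. -/
theorem line_facts : IsIntegral (HMNum.A1 (Spec (CommRingCat.of k)) ⊗ 𝟙_ (Over (Spec (CommRingCat.of k)))).left ∧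
    IsLocallyNoetherian (HMNum.A1 (Spec (CommRingCat.of k)) ⊗ 𝟙_ (Over (Spec (CommRingCat.of k)))).left ∧
    ∀ y : (HMNum.A1 (Spec (CommRingCat.of k)) ⊗ 𝟙_ (Over (Spec (CommRingCat.of k)))).left,
      ringKrullDim ((HMNum.A1 (Spec (CommRingCat.of k)) ⊗ 𝟙_ _).left.presheaf.stalk y) ≤ 1 ∧
        IsRegularLocalRing ((HMNum.A1 (Spec (CommRingCat.of k)) ⊗ 𝟙_ _).left.presheaf.stalk y) := by
  let one := 𝟙_ (Over (Spec (CommRingCat.of k)))
  haveI := isIntegral_A1_prod one
  haveI := isIso_chart one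
  let R : CommRingCat := Γ(one.left, (⊤ : one.left.Opens))
  have hf : IsField R := (Scheme.ΓSpecIso (CommRingCat.of k)).commRingCatIsoToRingEquiv.toMulEquiv.isField
    (Field.toIsField k)
  letI := hf.toField
  let P : CommRingCat := CommRingCat.of (Polynomial R)
  let e : Spec P ⟶ (HMNum.A1 (Spec (CommRingCat.of k)) ⊗ one).left := (chart one (isAffineOpen_top one.left)).left
  haveI : IsIso e := isIso_chart one
  haveI : IsNoetherianRing P := inferInstanceAs (IsNoetherianRing (Polynomial R))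
  refine ⟨isIntegral_A1_prod one, isLocallyNoetherian_of_isOpenImmersion (inv e), fun y => ?_⟩
  obtain ⟨z, rfl⟩ := e.surjective y
  let es := (asIso (e.stalkMap z)).commRingCatIsoToRingEquiv
  let el : Localization.AtPrime z.asIdeal ≃+* (Spec P).presheaf.stalk z :=
    (Spec.stalkIso P z).symm.commRingCatIsoToRingEquiv
  refine ⟨?_, ?_⟩
  · rw [ringKrullDim_eq_of_ringEquiv es, ← ringKrullDim_eq_of_ringEquiv el]
    rw [IsLocalization.AtPrime.ringKrullDim_eq_height z.asIdeal (Localization.AtPrime z.asIdeal)]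
    exact Ideal.height_le_ringKrullDim_of_isPrime.trans
      (le_of_eq (IsPrincipalIdealRing.ringKrullDim_eq_one (Polynomial R) (Polynomial.not_isField _)))
  · haveI : IsRegularLocalRing (Localization.AtPrime z.asIdeal) :=
      IsRegularRing.isRegularLocalRing_localization (R := Polynomial R) z.asIdeal
    haveI : IsRegularLocalRing ((Spec P).presheaf.stalk z) := IsRegularLocalRing.of_ringEquiv el
    exact IsRegularLocalRing.of_ringEquiv es.symm

theorem line_top {Y : Scheme.{u}} (O : Y.Opens) (h : ∀ y, y ∈ O) : O = ⊤ := top_le_iff.1 fun y _ => h y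

variable {G X : Over (Spec (CommRingCat.of k))} [GrpObj G] (a : AlgGrp.Action G X)
  (l : Red.Gm (Spec (CommRingCat.of k)) ⟶ G) [IsMonHom l]

theorem orbit_mul {R : Over (Spec (CommRingCat.of k))} (x : R ⟶ X)
    (g h : R ⟶ Red.Gm (Spec (CommRingCat.of k))) :
    lift ((g * h) ≫ l) x ≫ a.act = lift (g ≫ l) (lift (h ≫ l) x ≫ a.act) ≫ a.act := by
  rw [MonObj.mul_comp, a.lift_mul_act]

/-- Limits exist on proper schemes. -/
theorem exists_isLimitPt [IsAlgClosed k] [IsProper X.hom] (x : 𝟙_ (Over (Spec (CommRingCat.of k))) ⟶ X) :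
    ∃ y, HMNum.IsLimitPt a l x y := by
  let S := Spec (CommRingCat.of k)
  let one := 𝟙_ (Over (Spec (CommRingCat.of k)))
  obtain ⟨hint, hnoe, hst⟩ := line_facts (k := k)
  haveI := hint
  haveI := hnoe
  let Y := HMNum.A1 S ⊗ one
  let τ := tauP (S := S) one
  let V : Y.left.Opens := Y.left.basicOpen τ
  let Vo : Over S := Over.mk (V.ι ≫ Y.hom)
  let inV : Vo ⟶ Y := Over.homMk V.ι rfl
  have hV : IsUnit (ev inV τ) := by
    refine Vo.left.toLocallyRingedSpace.toRingedSpace.isUnit_of_isUnit_germ ⊤ _ fun z _ => ?_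
    refine (Vo.left.mem_basicOpen_top _ z).1 ?_
    show z ∈ V.toScheme.basicOpen (V.ι.appTop τ)
    rw [← Scheme.preimage_basicOpen_top]
    exact z.2
  let gV : Vo ⟶ Red.Gm S := GmPts.ptOfUnit hV.unit
  let m : Vo ⟶ X := lift (gV ≫ l) (toUnit Vo ≫ x) ≫ a.act
  have hne : (V : Set Y.left).Nonempty := by
    let w : one ⟶ Y := lift ((1 : one ⟶ Red.Gm S) ≫ HMNum.incl S) (𝟙 one)
    obtain ⟨p⟩ := (fld_unit (k := k)).nonempty
    refine ⟨w.left p, ?_⟩
    rw [SetLike.mem_coe, mem_basicOpen_iff_isUnit fld_unit w τ p]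
    have : ev w τ = tau (w ≫ fst _ _) := (tau_comp w _).symm
    rw [this, lift_fst, tau_incl, GmPts.unitOfPt_one]
    exact isUnit_one
  obtain ⟨U, hVU, φ', hφ', hres, hU⟩ := WeilExtLib.exists_extend_proper X.hom Y.hom
    (fun y _ => (hst y).2) V (V.isOpen.dense hne) m.left (Over.w m)
  obtain rfl : U = ⊤ := line_top U fun y => hU y (hst y).1
  let φ : Y ⟶ X := Over.homMk (Y.left.topIso.inv ≫ φ') (by
    rw [Category.assoc, hφ', ← Scheme.topIso_hom, Iso.inv_hom_id_assoc])
  have hιφ : inV ≫ φ = m := by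
    refine Over.OverMorphism.ext ?_
    rw [← hres, Over.comp_left]
    show V.ι ≫ Y.left.topIso.inv ≫ φ' = _
    rw [← Category.assoc]
    congr 1
    rw [← cancel_mono Y.left.topIso.hom, Category.assoc, Iso.inv_hom_id, Category.comp_id, Scheme.topIso_hom,
      Scheme.homOfLE_ι]
  have hgm : ∀ (R : Over S) (g : R ⟶ Red.Gm S) (t : R ⟶ one),
      lift (g ≫ HMNum.incl S) t ≫ φ = lift (g ≫ l) (t ≫ x) ≫ a.act := by
    intro R g t
    let c : R ⟶ Y := lift (g ≫ HMNum.incl S) t
    have hc : ev c τ = ((GmPts.unitOfPt g : (Γ(R.left, ⊤))ˣ) : Γ(R.left, ⊤)) := by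
      rw [← tau_incl, show ev c τ = tau (c ≫ fst _ _) from (tau_comp c _).symm, lift_fst]
    have hrange : Set.range c.left ⊆ Set.range V.ι := by
      rw [Scheme.Opens.range_ι]
      rintro _ ⟨z, rfl⟩
      show z ∈ c.left ⁻¹ᵁ Y.left.basicOpen τ
      rw [Scheme.preimage_basicOpen_top, show c.left.appTop τ = _ from hc,
        R.left.basicOpen_of_isUnit (Units.isUnit _)]
      trivial
    let u : R ⟶ Vo := Over.homMk (IsOpenImmersion.lift V.ι c.left hrange) (by
      show IsOpenImmersion.lift V.ι c.left hrange ≫ V.ι ≫ Y.hom = R.hom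
      rw [IsOpenImmersion.lift_fac_assoc, Over.w c])
    have hu : u ≫ inV = c := Over.OverMorphism.ext (IsOpenImmersion.lift_fac _ _ _)
    have hgu : u ≫ gV = g := by
      apply (GmPts.equiv R).injective
      show GmPts.unitOfPt (u ≫ gV) = GmPts.unitOfPt g
      rw [GmPts.unitOfPt_comp, GmPts.unitOfPt_ptOfUnit]
      refine Units.ext ?_
      rw [← hc, ← hu, ev_comp, Units.coe_map, IsUnit.unit_spec]
      rfl
    calc c ≫ φ = u ≫ inV ≫ φ := by rw [← Category.assoc, hu]
      _ = _ := by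
        rw [hιφ, comp_lift_assoc, ← Category.assoc u gV, hgu, ← Category.assoc u (toUnit Vo),
          toUnit_unique (u ≫ toUnit Vo) t]
  -- equivariance at the universal point
  let R₀ : Over S := HMNum.A1 S ⊗ Red.Gm S
  haveI : IsIntegral R₀.left := isIntegral_A1_prod (Red.Gm S)
  let g₀ : R₀ ⟶ Red.Gm S := snd _ _
  let b₀ : R₀ ⟶ HMNum.A1 S := fst _ _
  have huniv : lift ((g₀ ≫ HMNum.incl S) * b₀) (toUnit R₀) ≫ φ =
      lift (g₀ ≫ l) (lift b₀ (toUnit R₀) ≫ φ) ≫ a.act := by
    let W : R₀.left.Opens := R₀.left.basicOpen (tau b₀)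
    let Wo : Over S := Over.mk (W.ι ≫ R₀.hom)
    let j : Wo ⟶ R₀ := Over.homMk W.ι rfl
    have hW : IsUnit (ev j (tau b₀)) := by
      refine Wo.left.toLocallyRingedSpace.toRingedSpace.isUnit_of_isUnit_germ ⊤ _ fun z _ => ?_
      refine (Wo.left.mem_basicOpen_top _ z).1 ?_
      show z ∈ W.toScheme.basicOpen (W.ι.appTop (tau b₀))
      rw [← Scheme.preimage_basicOpen_top]
      exact z.2
    let h : Wo ⟶ Red.Gm S := GmPts.ptOfUnit hW.unit
    have hb : j ≫ b₀ = h ≫ HMNum.incl S := by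
      refine tau_ext ?_
      rw [tau_incl, GmPts.unitOfPt_ptOfUnit, IsUnit.unit_spec, tau_comp]
    have hj : j ≫ lift ((g₀ ≫ HMNum.incl S) * b₀) (toUnit R₀) ≫ φ =
        j ≫ lift (g₀ ≫ l) (lift b₀ (toUnit R₀) ≫ φ) ≫ a.act := by
      rw [comp_lift_assoc, MonObj.comp_mul, hb, ← Category.assoc j g₀, incl_mul, hgm, comp_lift_assoc,
        ← Category.assoc j g₀ l, comp_lift_assoc, hb, hgm, orbit_mul]
    have hWne : (W : Set R₀.left).Nonempty := by
      let w : one ⟶ R₀ := lift ((1 : one ⟶ Red.Gm S) ≫ HMNum.incl S) 1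
      obtain ⟨p⟩ := (fld_unit (k := k)).nonempty
      refine ⟨w.left p, ?_⟩
      rw [SetLike.mem_coe, mem_basicOpen_iff_isUnit fld_unit w _ p, show ev w (tau b₀) = tau (w ≫ b₀) from
        (tau_comp w _).symm, lift_fst, tau_incl, GmPts.unitOfPt_one]
      exact isUnit_one
    haveI : IsDominant W.ι := ⟨by
      rw [DenseRange, Scheme.Opens.range_ι]
      exact W.isOpen.dense hWne⟩
    refine Over.OverMorphism.ext (ext_of_isDominant_of_isSeparated X.hom ?_ W.ι ?_)
    · rw [Over.w, Over.w]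
    · exact congrArg CommaMorphism.left hj
  have hequi : ∀ (R : Over S) (g : R ⟶ Red.Gm S) (b : R ⟶ HMNum.A1 S) (t : R ⟶ one),
      lift ((g ≫ HMNum.incl S) * b) t ≫ φ = lift (g ≫ l) (lift b t ≫ φ) ≫ a.act := by
    intro R g b t
    have hh := congrArg (lift b g ≫ ·) huniv
    beta_reduce at hh
    rw [comp_lift_assoc, MonObj.comp_mul, lift_fst, lift_snd_assoc, comp_lift_assoc, lift_snd_assoc, comp_lift_assoc,
      lift_fst, toUnit_unique (lift b g ≫ toUnit R₀) t] at hh
    exact hh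
  refine ⟨lift (toUnit one ≫ HMNum.origin S) (𝟙 one) ≫ φ,
    ⟨φ, (Magnet.MonAct.mem_eqvHom_iff _).mpr fun R g b t => ?_⟩, ?_, ?_⟩
  · have e : lift g b ≫ (Magnet.subAct S ℤ HMNum.plus).act = (g ≫ HMNum.incl S) * b :=
      (Magnet.MonAct.lift_restrict_act _ _ g b).trans (Magnet.MonAct.lift_regular_act _ _)
    rw [e, Magnet.MonAct.lift_restrict_act, Magnet.MonAct.ofAction_act]
    exact hequi R g b t
  · show lift (toUnit one ≫ η[HMNum.A1 S]) (𝟙 one) ≫ φ = x
    rw [← incl_one, hgm, MonObj.one_comp, Category.id_comp, a.lift_one_act]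
  · exact HMNum.limitPt_eq _

end HMProjLib
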