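import Groth.Agent.HMProjLib.Compare

/-!
# The unit of the affine line
-/

set_option autoImplicit false

universe u

open CategoryTheory MonoidalCategory CartesianMonoidalCategory AlgebraicGeometry
open scoped MonObj

noncomputable section

namespace HMProjLib

open AttrPtLib (tau tau_ext tau_mul)

variable {k : Type u} [Field k]

theorem incl_one (T : Over (Spec (CommRingCat.of k))) :
    (1 : T ⟶ Red.Gm (Spec (CommRingCat.of k))) ≫ HMNum.incl _ = toUnit T ≫ η[HMNum.A1 (Spec (CommRingCat.of k))] := by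
  refine tau_ext ?_
  have e := tau_mul (1 : T ⟶ HMNum.A1 (Spec (CommRingCat.of k)))
    ((1 : T ⟶ Red.Gm (Spec (CommRingCat.of k))) ≫ HMNum.incl _)
  rw [_root_.one_mul, tau_incl, GmPts.unitOfPt_one, Units.val_one, _root_.mul_one] at e
  rw [tau_incl, GmPts.unitOfPt_one, Units.val_one, ← Hom.one_def]
  exact e

theorem incl_mul {T : Over (Spec (CommRingCat.of k))} (g h : T ⟶ Red.Gm (Spec (CommRingCat.of k))) :
    (g ≫ HMNum.incl _) * (h ≫ HMNum.incl _) = (g * h) ≫ HMNum.incl (Spec (CommRingCat.of k)) := by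
  refine tau_ext ?_
  rw [tau_mul, tau_incl, tau_incl, tau_incl, GmPts.unitOfPt_mul, Units.val_mul]

theorem exists_inv_pt {G T : Over (Spec (CommRingCat.of k))} [GrpObj G]
    (l : Red.Gm (Spec (CommRingCat.of k)) ⟶ G) [IsMonHom l] (g : T ⟶ Red.Gm (Spec (CommRingCat.of k))) :
    ∃ g', (g' ≫ l) * (g ≫ l) = 1 :=
  ⟨g⁻¹, by rw [← MonObj.mul_comp, inv_mul_cancel, MonObj.one_comp]⟩

end HMProjLib
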