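import Groth.Agent.GLinShLib.PS
import Groth.Agent.GLinShLib.Section

/-!
# Points with values in algebraically closed fields
-/

set_option autoImplicit false
set_option backward.isDefEq.respectTransparency false
set_option synthInstance.maxHeartbeats 400000
set_option maxHeartbeats 1000000
set_option linter.style.haveILetI false
set_option linter.unusedSectionVars false

universe u

open CategoryTheory CategoryTheory.Limits MonoidalCategory CartesianMonoidalCategory AlgebraicGeometry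
  TopologicalSpace Opposite

noncomputable section

namespace HMProjLib


variable {k : Type u} [Field k]

/-- A scheme over `k` which is the spectrum of an algebraically closed field. -/
def Fld (T : Over (Spec (CommRingCat.of k))) : Prop :=
  ∃ (Ω : Type u) (_ : Field Ω) (_ : IsAlgClosed Ω), Nonempty (T.left ≅ Spec (CommRingCat.of Ω))

/-- The value of a function at a point. -/
abbrev ev {T Y : Over (Spec (CommRingCat.of k))} (v : T ⟶ Y) (f : Γ(Y.left, ⊤)) : Γ(T.left, ⊤) :=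
  v.left.appTop f

theorem ev_comp {T T' Y : Over (Spec (CommRingCat.of k))} (θ : T' ⟶ T) (v : T ⟶ Y) (f : Γ(Y.left, ⊤)) :
    ev (θ ≫ v) f = θ.left.appTop (ev v f) := by
  rw [ev, Over.comp_left, Scheme.Hom.comp_appTop]
  rfl

theorem Fld.subsingleton {T : Over (Spec (CommRingCat.of k))} (h : Fld T) : Subsingleton T.left := by
  obtain ⟨Ω, _, _, ⟨e⟩⟩ := h
  exact e.hom.homeomorph.injective.subsingleton

theorem Fld.nonempty {T : Over (Spec (CommRingCat.of k))} (h : Fld T) : Nonempty T.left := by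
  obtain ⟨Ω, _, _, ⟨e⟩⟩ := h
  exact ⟨e.inv (Classical.arbitrary _)⟩

theorem Fld.ringEquiv {T : Over (Spec (CommRingCat.of k))} (h : Fld T) :
    ∃ (Ω : Type u) (_ : Field Ω) (_ : IsAlgClosed Ω), Nonempty (Γ(T.left, ⊤) ≃+* Ω) := by
  obtain ⟨Ω, hF, hA, ⟨e⟩⟩ := h
  exact ⟨Ω, hF, hA, ⟨((asIso e.inv.appTop).commRingCatIsoToRingEquiv).trans
    (Scheme.ΓSpecIso (CommRingCat.of Ω)).commRingCatIsoToRingEquiv⟩⟩

theorem Fld.nontrivial {T : Over (Spec (CommRingCat.of k))} (h : Fld T) : Nontrivial Γ(T.left, ⊤) := by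
  obtain ⟨Ω, _, _, ⟨e⟩⟩ := h.ringEquiv
  exact e.toEquiv.nontrivial

theorem Fld.isUnit_iff {T : Over (Spec (CommRingCat.of k))} (h : Fld T) {s : Γ(T.left, ⊤)} :
    IsUnit s ↔ s ≠ 0 := by
  obtain ⟨Ω, _, _, ⟨e⟩⟩ := h.ringEquiv
  rw [← isUnit_map_iff e, isUnit_iff_ne_zero]
  simp

/-- A unit which is not a root of unity of a given order. -/
theorem Fld.exists_unit_zpow_ne {T : Over (Spec (CommRingCat.of k))} (h : Fld T) {d : ℤ} (hd : d ≠ 0) :
    ∃ u : (Γ(T.left, ⊤))ˣ, u ^ d ≠ 1 := by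
  obtain ⟨Ω, _, _, ⟨e⟩⟩ := h.ringEquiv
  classical
  obtain ⟨x, hx⟩ : ∃ x : Ω, x ∉ insert (0 : Ω) {x | x ^ d.natAbs = 1} := by
    refine Set.Finite.exists_notMem (Set.Finite.insert _ ?_)
    have hn : 0 < d.natAbs := Int.natAbs_pos.2 hd
    exact ((Polynomial.nthRoots d.natAbs (1 : Ω)).toFinset.finite_toSet).subset fun x (hx : x ^ d.natAbs = 1) => by
      simp [Polynomial.mem_nthRoots hn, hx]
  simp only [Set.mem_insert_iff, Set.mem_ofPred_eq, not_or] at hx
  let w : Ωˣ := Units.mk0 x hx.1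
  refine ⟨Units.map e.symm.toMonoidHom w, fun hu => hx.2 ?_⟩
  have hw : w ^ d = 1 := by
    refine Units.map_injective (f := e.symm.toMonoidHom) e.symm.injective ?_
    rw [map_zpow, hu, map_one]
  have : w ^ d.natAbs = 1 := by
    rcases Int.natAbs_eq d with h' | h'
    · rw [h', zpow_natCast] at hw; exact hw
    · rw [h', zpow_neg, inv_eq_one, zpow_natCast] at hw; exact hw
  exact congrArg Units.val this

/-- A geometric point at a point. -/
theorem exists_fld {Z : Over (Spec (CommRingCat.of k))} (p : Z.left) :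
    ∃ (T : Over (Spec (CommRingCat.of k))) (f : T ⟶ Z), Fld T ∧ ∀ t, f.left t = p := by
  obtain ⟨Ω, _, _, T, e, f, -, -, hr⟩ := GLinShLib.exists_geomPoint p
  exact ⟨T, f, ⟨Ω, inferInstance, inferInstance, ⟨e⟩⟩, fun t => hr.le ⟨t, rfl⟩⟩

theorem fld_unit [IsAlgClosed k] : Fld (𝟙_ (Over (Spec (CommRingCat.of k)))) :=
  ⟨k, inferInstance, inferInstance, ⟨Iso.refl _⟩⟩

theorem mem_basicOpen_iff_isUnit {T Y : Over (Spec (CommRingCat.of k))} (hT : Fld T) (v : T ⟶ Y)
    (f : Γ(Y.left, ⊤)) (t : T.left) : v.left t ∈ Y.left.basicOpen f ↔ IsUnit (ev v f) := by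
  haveI := hT.subsingleton
  show t ∈ v.left ⁻¹ᵁ Y.left.basicOpen f ↔ _
  rw [Scheme.preimage_basicOpen_top]
  refine ⟨fun h => ?_, fun h => by rw [T.left.basicOpen_of_isUnit h]; trivial⟩
  exact T.left.toLocallyRingedSpace.toRingedSpace.isUnit_of_isUnit_germ ⊤ _ fun z _ => by
    rw [Subsingleton.elim z t]
    exact (T.left.mem_basicOpen_top _ t).1 h

/-- A function on a reduced scheme vanishing at all geometric points is zero. -/
theorem eq_zero_of_forall_fld {Z : Over (Spec (CommRingCat.of k))} [IsReduced Z.left] {O : Z.left.Opens}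
    (s : Γ(Z.left, O))
    (h : ∀ (T : Over (Spec (CommRingCat.of k))) (v : T ⟶ Z), Fld T → ∀ hv : ⊤ ≤ v.left ⁻¹ᵁ O,
      v.left.appLE O ⊤ hv s = 0) : s = 0 := by
  refine eq_zero_of_basicOpen_eq_bot _ (eq_bot_iff.2 fun p hp => ?_)
  obtain ⟨T, v, hT, hv⟩ := exists_fld p
  obtain ⟨t⟩ := hT.nonempty
  have hO : ⊤ ≤ v.left ⁻¹ᵁ O := fun z _ => by
    show v.left z ∈ O
    rw [hv]; exact Z.left.basicOpen_le _ hp
  have h0 : t ∈ T.left.basicOpen (v.left.appLE O ⊤ hO s) := by
    rw [Scheme.basicOpen_appLE]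
    exact ⟨trivial, by show v.left t ∈ Z.left.basicOpen s; rw [hv]; exact hp⟩
  rw [h T v hT hO, Scheme.basicOpen_zero] at h0
  exact h0

variable {G X : Over (Spec (CommRingCat.of k))} [GrpObj G] {a : AlgGrp.Action G X} {B : GLinSh.LinBun G a}

/-- A point of the nonvanishing locus lifts to a point of the total space where the function is a unit. -/
theorem exists_lift_unit {f : Γ(B.V.left, ⊤)} {T : Over (Spec (CommRingCat.of k))} (p : T ⟶ X) (t : T.left)
    (hT : Fld T) (h : p.left t ∈ GLinSh.nonvanishing B.π f) :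
    ∃ (T' : Over (Spec (CommRingCat.of k))) (θ : T' ⟶ T) (v : T' ⟶ B.V),
      Fld T' ∧ v ≫ B.π = θ ≫ p ∧ IsUnit (ev v f) := by
  obtain ⟨v₀, hv₀, hvx⟩ := h
  obtain ⟨p₀, -, hp₂⟩ := Scheme.Pullback.exists_preimage_pullback (f := p.left) (g := B.π.left) t v₀ hvx.symm
  let Z : Over (Spec (CommRingCat.of k)) := Over.mk (pullback.fst p.left B.π.left ≫ T.hom)
  let π₁ : Z ⟶ T := Over.homMk (pullback.fst p.left B.π.left) rfl
  let π₂ : Z ⟶ B.V := Over.homMk (pullback.snd p.left B.π.left) (by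
    show pullback.snd p.left B.π.left ≫ B.V.hom = pullback.fst p.left B.π.left ≫ T.hom
    rw [← Over.w B.π, ← Over.w p, pullback.condition_assoc])
  obtain ⟨T', g, hT', hg⟩ := exists_fld (Z := Z) p₀
  obtain ⟨t'⟩ := hT'.nonempty
  refine ⟨T', g ≫ π₁, g ≫ π₂, hT', ?_, ?_⟩
  · rw [Category.assoc, Category.assoc]
    congr 1
    exact Over.OverMorphism.ext pullback.condition.symm
  · refine (mem_basicOpen_iff_isUnit hT' _ f t').1 ?_
    show pullback.snd p.left B.π.left (g.left t') ∈ _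
    rw [hg, hp₂]
    exact hv₀

/-- A point under a point where a function is a unit is in its nonvanishing locus. -/
theorem mem_nonvanishing_of_unit {f : Γ(B.V.left, ⊤)} {T T' : Over (Spec (CommRingCat.of k))} {p : T ⟶ X}
    {θ : T' ⟶ T} {v : T' ⟶ B.V} (hT : Fld T) (hT' : Fld T') (hv : v ≫ B.π = θ ≫ p) (hu : IsUnit (ev v f))
    (t : T.left) : p.left t ∈ GLinSh.nonvanishing B.π f := by
  obtain ⟨t'⟩ := hT'.nonempty
  haveI := hT.subsingleton
  refine ⟨v.left t', (mem_basicOpen_iff_isUnit hT' v f t').2 hu, ?_⟩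
  rw [Subsingleton.elim t (θ.left t')]
  exact congr(($hv).left t')

end HMProjLib
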