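import Groth.Agent.HMProjLib.Decomp
import Groth.Agent.AlgSpLib.ReducedSmooth

/-!
# A stable finite space of sections
-/

set_option autoImplicit false
set_option backward.isDefEq.respectTransparency false
set_option synthInstance.maxHeartbeats 400000
set_option maxHeartbeats 1000000
set_option linter.style.haveILetI false
set_option linter.unusedSectionVars false

universe u

open CategoryTheory CategoryTheory.Limits MonoidalCategory CartesianMonoidalCategory AlgebraicGeometry
  TopologicalSpace Opposite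

noncomputable section

namespace HMProjLib

open scoped MonObj

variable {k : Type u} [Field k] {G X : Over (Spec (CommRingCat.of k))} [GrpObj G]
  {a : AlgGrp.Action G X} {B : GLinSh.LinBun G a}

theorem tr_one (f : Γ(B.V.left, ⊤)) : tr B (1 : 𝟙_ _ ⟶ G) f = f := by
  have h := ev_tr (B := B) (1 : 𝟙_ _ ⟶ G) f (𝟙 B.V)
  rw [MonObj.comp_one, B.lift.lift_one_act] at h
  simpa [ev] using h

theorem tr_tr (g g' : 𝟙_ (Over (Spec (CommRingCat.of k))) ⟶ G) (f : Γ(B.V.left, ⊤)) :
    tr B g (tr B g' f) = tr B (g' * g) f := by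
  have h : ev (𝟙 B.V) (tr B g (tr B g' f)) = ev (𝟙 B.V) (tr B (g' * g) f) := by
    rw [ev_tr, ev_tr, ev_tr, MonObj.comp_mul, B.lift.lift_mul_act]
  simpa [ev] using h

/-- A finite dimensional stable space of sections of weight `M`, with the matrix of the action. -/
structure Rep (B : GLinSh.LinBun G a) (M : ℕ) where
  /-- the dimension -/
  R : ℕ
  /-- a basis -/
  s : Fin R → Γ(B.V.left, ⊤)
  /-- the matrix -/
  m : Fin R → Fin R → Γ(G.left, ⊤)
  weight : ∀ i, GLinSh.HasWeight B.atlas.chart M (s i)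
  indep : ∀ c : Fin R → k, ∑ i, cst B.V (c i) * s i = 0 → c = 0
  law : ∀ (T : Over (Spec (CommRingCat.of k))) (h : T ⟶ G) (v : T ⟶ B.V) (i : Fin R),
    ev (lift h v ≫ B.lift.act) (s i) = ∑ j, ev h (m i j) * ev v (s j)
  closed : ∀ (g : 𝟙_ (Over (Spec (CommRingCat.of k))) ⟶ G) (i : Fin R),
    ∃ c : Fin R → k, tr B g (s i) = ∑ j, cst B.V (c j) * s j

variable [IsAlgClosed k] [IsAffine G.left] [Smooth G.hom]

/-- Finitely many sections lie in a stable space. -/
theorem exists_rep [CompactSpace B.V.left] [QuasiSeparatedSpace B.V.left] {J : Type} [Finite J] {M : ℕ}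
    (g : J → Γ(B.V.left, ⊤)) (hg : ∀ j, GLinSh.HasWeight B.atlas.chart M (g j)) :
    ∃ P : Rep B M, ∀ j, ∃ c : Fin P.R → k, g j = ∑ i, cst B.V (c i) * P.s i := by
  classical
  haveI : IsReduced (Spec (CommRingCat.of k)) := inferInstance
  haveI : IsReduced G.left := AlgSpLib.isReduced_of_smooth G.hom
  letI : Algebra k Γ(B.V.left, ⊤) := (cst B.V).toAlgebra
  letI : Algebra k Γ(G.left, ⊤) := (cst G).toAlgebra
  let eb := Module.Basis.ofVectorSpace k Γ(G.left, ⊤)
  have he : ∀ s, ∃ c : _ →₀ k, s = c.sum fun i x => cst G x * eb i := fun s => ⟨eb.repr s, by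
    conv_lhs => rw [← eb.linearCombination_repr s]
    rw [Finsupp.linearCombination_apply]
    exact Finsupp.sum_congr fun i _ => Algebra.smul_def _ _⟩
  have hind : ∀ c : _ →₀ k, (c.sum fun i x => cst G x * eb i) = 0 → c = 0 := fun c hc => by
    refine linearIndependent_iff.1 eb.linearIndependent c ?_
    rw [Finsupp.linearCombination_apply, ← hc]
    exact Finsupp.sum_congr fun i _ => Algebra.smul_def _ _
  have hsmul : ∀ (c : k) (x : Γ(B.V.left, ⊤)), c • x = cst B.V c * x := fun c x => Algebra.smul_def c x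
  let W : Submodule k Γ(B.V.left, ⊤) :=
    Submodule.span k (Set.range fun p : J × (𝟙_ (Over (Spec (CommRingCat.of k))) ⟶ G) => tr B p.2 (g p.1))
  choose b hbd hbw hbt hba using fun j => exists_decomp (𝟙 G) (fun i => eb i) he hind (hg j)
  let U : Submodule k Γ(B.V.left, ⊤) :=
    Submodule.span k (⋃ j, ((b j).support.image fun i => b j i : Finset Γ(B.V.left, ⊤)))
  haveI : Module.Finite k U := Module.Finite.iff_fg.2 (Submodule.fg_def.2
    ⟨_, Set.finite_iUnion fun j => Finset.finite_toSet _, rfl⟩)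
  have hWU : W ≤ U := Submodule.span_le.2 (by
    rintro _ ⟨⟨j, h⟩, rfl⟩
    have e := hbt j h
    rw [Category.comp_id] at e
    rw [SetLike.mem_coe]
    show tr B h (g j) ∈ U
    rw [e]
    refine Submodule.sum_mem _ fun i hi => ?_
    show cst B.V _ * b j i ∈ U
    rw [← hsmul]
    exact Submodule.smul_mem _ _ (Submodule.subset_span (Set.mem_iUnion.2 ⟨j, Finset.mem_image.2 ⟨i, hi, rfl⟩⟩)))
  haveI : FiniteDimensional k W := Submodule.finiteDimensional_of_le hWU
  let bW := Module.finBasis k W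
  have hrepr : ∀ w : W, (w : Γ(B.V.left, ⊤)) = ∑ i, cst B.V (bW.repr w i) * (bW i : Γ(B.V.left, ⊤)) := fun w => by
    conv_lhs => rw [← bW.sum_repr w]
    rw [Submodule.coe_sum]
    exact Finset.sum_congr rfl fun i _ => by rw [Submodule.coe_smul, hsmul]
  have hwt : ∀ w ∈ W, GLinSh.HasWeight B.atlas.chart M w := fun w hw => by
    obtain ⟨c, rfl⟩ := (Finsupp.mem_span_range_iff_exists_finsupp).1 hw
    rw [Finsupp.sum]
    simp only [hsmul]
    exact hasWeight_sum _ (fun p => c p) (fun p => tr B p.2 (g p.1)) fun p _ => hasWeight_tr _ (hg _)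
  have htrW : ∀ (h : 𝟙_ (Over (Spec (CommRingCat.of k))) ⟶ G), ∀ w ∈ W, tr B h w ∈ W := fun h w hw => by
    induction hw using Submodule.span_induction with
    | mem x hx =>
      obtain ⟨⟨j, h'⟩, rfl⟩ := hx
      rw [tr_tr]
      exact Submodule.subset_span ⟨(j, h' * h), rfl⟩
    | zero => rw [map_zero]; exact W.zero_mem
    | add x y _ _ hx hy => rw [map_add]; exact W.add_mem hx hy
    | smul c x _ hx =>
      rw [hsmul, map_mul, tr_cst, ← hsmul]
      exact W.smul_mem c hx
  have hrow : ∀ i, ∃ m : Fin (Module.finrank k W) → Γ(G.left, ⊤), ∀ (T : Over (Spec (CommRingCat.of k)))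
      (h : T ⟶ G) (v : T ⟶ B.V), ev (lift h v ≫ B.lift.act) (bW i : Γ(B.V.left, ⊤)) =
        ∑ j, ev h (m j) * ev v (bW j : Γ(B.V.left, ⊤)) := fun i => by
    obtain ⟨c, hcd, -, -, hca⟩ := exists_decomp (𝟙 G) (fun i => eb i) he hind (hwt _ (bW i).2)
    have hcW : ∀ l, c l ∈ W := fun l => by
      by_cases hl : l ∈ c.support
      · obtain ⟨q, hq, -⟩ := hcd l hl
        rw [hq]
        refine Submodule.sum_mem _ fun h _ => ?_
        show cst B.V _ * _ ∈ W
        rw [← hsmul]
        exact W.smul_mem _ (htrW _ _ (bW i).2)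
      · rw [Finsupp.notMem_support_iff.1 hl]; exact W.zero_mem
    refine ⟨fun j => ∑ l ∈ c.support, cst G (bW.repr ⟨c l, hcW l⟩ j) * eb l, fun T h v => ?_⟩
    have e := hca T h v
    rw [Category.comp_id] at e
    rw [e, Finsupp.sum]
    calc ∑ l ∈ c.support, ev h (eb l) * ev v (c l)
        = ∑ l ∈ c.support, ∑ j, ev h (cst G (bW.repr ⟨c l, hcW l⟩ j) * eb l) * ev v (bW j : Γ(B.V.left, ⊤)) := by
          refine Finset.sum_congr rfl fun l _ => ?_
          have e2 := congrArg (ev v) (hrepr ⟨c l, hcW l⟩)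
          refine (congrArg (ev h (eb l) * ·) (e2.trans (map_sum v.left.appTop.hom _ _))).trans ?_
          rw [Finset.mul_sum]
          refine Finset.sum_congr rfl fun j _ => ?_
          show ev h (eb l) * v.left.appTop (cst B.V _ * _) = h.left.appTop (cst G _ * eb l) * _
          rw [map_mul, map_mul]
          show ev h (eb l) * (ev v (cst B.V _) * _) = ev h (cst G _) * ev h (eb l) * _
          rw [ev_cst, ev_cst]
          ring
      _ = _ := by
          rw [Finset.sum_comm]
          refine Finset.sum_congr rfl fun j _ => ?_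
          rw [← Finset.sum_mul]
          congr 1
          exact (map_sum h.left.appTop.hom _ _).symm
  choose m hm using hrow
  refine ⟨⟨Module.finrank k W, fun i => bW i, m, fun i => hwt _ (bW i).2, fun c hc => ?_, fun T h v i => hm i T h v,
    fun h i => ⟨_, hrepr ⟨_, htrW h _ (bW i).2⟩⟩⟩, fun j => ?_⟩
  · have h0 : ∑ i, c i • bW i = 0 := by
      refine Subtype.ext ?_
      rw [Submodule.coe_sum, ZeroMemClass.coe_zero, ← hc]
      exact Finset.sum_congr rfl fun i _ => by rw [Submodule.coe_smul, hsmul]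
    exact funext fun i => Fintype.linearIndependent_iff.1 bW.linearIndependent c h0 i
  · exact ⟨_, hrepr ⟨g j, Submodule.subset_span ⟨(j, 1), tr_one _⟩⟩⟩

namespace Rep

variable {M : ℕ} (P : Rep B M)

theorem m_one (i j : Fin P.R) : valAt (1 : 𝟙_ _ ⟶ G) (P.m i j) = if i = j then 1 else 0 := by
  have h := P.law B.V (toUnit _ ≫ (1 : 𝟙_ _ ⟶ G)) (𝟙 B.V) i
  simp only [cst_valAt] at h
  rw [MonObj.comp_one, B.lift.lift_one_act] at h
  have h2 : ∑ l, cst B.V (valAt (1 : 𝟙_ _ ⟶ G) (P.m i l) - if i = l then 1 else 0) * P.s l = 0 := by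
    have e : ∀ f : Γ(B.V.left, ⊤), ev (𝟙 B.V) f = f := fun f => by simp [ev]
    simp only [e] at h
    simp only [map_sub, sub_mul, Finset.sum_sub_distrib, ← h]
    simp [apply_ite (cst B.V), ite_mul]
  exact sub_eq_zero.1 (congrFun (P.indep _ h2) j)

/-- The matrix is multiplicative. -/
theorem m_mul (i l : Fin P.R) {T : Over (Spec (CommRingCat.of k))} (h h' : T ⟶ G) :
    ev (h * h') (P.m i l) = ∑ j, ev h (P.m i j) * ev h' (P.m j l) := by
  let H := G ⊗ G
  haveI : IsAffine H.left := inferInstanceAs (IsAffine (pullback G.hom G.hom))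
  haveI : Smooth H.hom := inferInstanceAs (Smooth (pullback.fst G.hom G.hom ≫ G.hom))
  haveI : IsReduced (Spec (CommRingCat.of k)) := inferInstance
  haveI : IsReduced H.left := AlgSpLib.isReduced_of_smooth H.hom
  let D : Γ(H.left, ⊤) := ev (fst G G * snd G G) (P.m i l) - ∑ j, ev (fst G G) (P.m i j) * ev (snd G G) (P.m j l)
  have hD : D = 0 := by
    refine eq_zero_of_forall_valAt D fun p => ?_
    let p₁ := p ≫ fst G G
    let p₂ := p ≫ snd G G
    have hval : ∀ (q : H ⟶ G) (f : Γ(G.left, ⊤)), valAt p (ev q f) = valAt (p ≫ q) f := fun q f => by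
      refine (cst_unit_bijective (k := k)).1 ?_
      rw [← cst_valAt, ← cst_valAt, ← ev_comp', Category.assoc]
    have key : ∀ l, valAt (p₁ * p₂) (P.m i l) = ∑ j, valAt p₁ (P.m i j) * valAt p₂ (P.m j l) := by
      have h1 := P.law B.V (toUnit _ ≫ (p₁ * p₂)) (𝟙 B.V) i
      have h2 := P.law B.V (toUnit _ ≫ p₁) (lift (toUnit _ ≫ p₂) (𝟙 B.V) ≫ B.lift.act) i
      rw [MonObj.comp_mul, B.lift.lift_mul_act, h2] at h1
      simp only [P.law B.V (toUnit _ ≫ p₂) (𝟙 B.V), ← MonObj.comp_mul, cst_valAt] at h1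
      have e : ∀ f : Γ(B.V.left, ⊤), ev (𝟙 B.V) f = f := fun f => by simp [ev]
      simp only [e, Finset.mul_sum, ← mul_assoc, ← map_mul] at h1
      rw [Finset.sum_comm] at h1
      simp only [← Finset.sum_mul, ← map_sum] at h1
      intro l
      refine sub_eq_zero.1 (congrFun (P.indep
        (fun l => valAt (p₁ * p₂) (P.m i l) - ∑ j, valAt p₁ (P.m i j) * valAt p₂ (P.m j l)) ?_) l)
      simp only [map_sub, sub_mul, Finset.sum_sub_distrib, h1, sub_self]
    show valAt p (ev _ _ - ∑ j, _) = 0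
    rw [map_sub, hval, MonObj.comp_mul, map_sum, key, sub_eq_zero]
    exact Finset.sum_congr rfl fun j _ => by rw [map_mul, hval, hval]
  have h2 := congrArg (ev (lift h h')) (sub_eq_zero.1 hD)
  have h3 := (ev_comp _ _ _).trans h2
  rw [MonObj.comp_mul, lift_fst, lift_snd] at h3
  refine h3.trans ((map_sum (lift h h').left.appTop.hom _ _).trans (Finset.sum_congr rfl fun j _ => ?_))
  rw [map_mul]
  exact congrArg₂ (· * ·) ((ev_comp _ _ _).symm.trans (by rw [lift_fst]))
    ((ev_comp _ _ _).symm.trans (by rw [lift_snd]))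
where
  ev_comp' {T Y Z : Over (Spec (CommRingCat.of k))} {a : T ⟶ Y} {b : Y ⟶ Z} {f : Γ(Z.left, ⊤)} :
      ev (a ≫ b) f = ev a (ev b f) := ev_comp a b f

end Rep

end HMProjLib
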