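import Groth.Agent.HMLib.Stable
import Groth.Agent.GLinFinLib.Linear
import Groth.Prelude.Def_GmPts

/-!
# Stable vectors and invariant forms
-/

set_option autoImplicit false
set_option maxHeartbeats 1000000
set_option synthInstance.maxHeartbeats 400000
set_option linter.unusedSectionVars false

universe u

noncomputable section

open TensorProduct HopfRep CategoryTheory MonoidalCategory CartesianMonoidalCategory AlgebraicGeometry
open scoped LaurentPolynomial MonObj

namespace HMProjLib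

variable {k : Type u} [Field k] {A : Type u} [CommRing A] [HopfAlgebra k A]
  {κ : Type u} [Fintype κ] [Comod k A (MvPolynomial κ k)] [GLin.IsCoactAlg k A (MvPolynomial κ k)]

theorem actPt_X {a : κ → A} {i : κ} (ha : Comod.coact (k := k) (A := A) (MvPolynomial.X i : MvPolynomial κ k) =
      ∑ j, (MvPolynomial.X j : MvPolynomial κ k) ⊗ₜ[k] a j) (g : A →ₐ[k] k) (z : κ → k) :
    GLin.actPt k g (GLin.vecPt k κ z) (MvPolynomial.X i) = ∑ j, z j * g (a j) := by
  simp only [GLin.actPt, GLin.orbitHom, AlgHom.comp_apply, GLin.coactAlgHom_apply, ha, map_sum,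
    Algebra.TensorProduct.map_tmul, AlgEquiv.toAlgHom_apply, Algebra.TensorProduct.lid_tmul, AlgHom.id_apply,
    MvPolynomial.aeval_X, map_smul, smul_eq_mul]

theorem eval_smul_of_isHomogeneous {F : MvPolynomial κ k} {d : ℕ} (hd : F.IsHomogeneous d) (r : k) (z : κ → k) :
    MvPolynomial.eval (r • z) F = r ^ d * MvPolynomial.eval z F := by
  rw [MvPolynomial.eval_eq, MvPolynomial.eval_eq, Finset.mul_sum]
  refine Finset.sum_congr rfl fun σ hσ => ?_
  have e : ∑ i ∈ σ.support, σ i = d := by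
    rw [← hd (MvPolynomial.mem_support_iff.1 hσ), Finsupp.weight_apply, Finsupp.sum]
    simp
  simp only [Pi.smul_apply, smul_eq_mul, mul_pow, Finset.prod_mul_distrib, Finset.prod_pow_eq_pow_sum, e]
  ring

/-- Stabilisers do not change under scaling. -/
theorem finite_stab_smul (hlin : GLin.IsLinear k A κ) {c : k} (hc : c ≠ 0) {z : κ → k}
    (h : {g : A →ₐ[k] k | GLin.actPt k g (GLin.vecPt k κ (c • z)) = GLin.vecPt k κ (c • z)}.Finite) :
    {g : A →ₐ[k] k | GLin.actPt k g (GLin.vecPt k κ z) = GLin.vecPt k κ z}.Finite := by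
  refine h.subset fun g (hg : GLin.actPt k g (GLin.vecPt k κ z) = GLin.vecPt k κ z) => ?_
  refine MvPolynomial.algHom_ext fun i => ?_
  obtain ⟨a, ha⟩ := hlin i
  have e := AlgHom.congr_fun hg (MvPolynomial.X i)
  rw [actPt_X ha, MvPolynomial.aeval_X] at e
  rw [actPt_X ha, MvPolynomial.aeval_X]
  simp only [Pi.smul_apply, smul_eq_mul, mul_assoc, ← Finset.mul_sum, e]

/-- Positive numerical function gives an invariant form with finite stabilisers on its nonvanishing locus. -/
theorem exists_stable_form [IsAlgClosed k] [CharZero k] [Algebra.FiniteType k A] (hG : IsLinearlyReductive k A)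
    (hlin : GLin.IsLinear k A κ) (v : κ → k) (hv : v ≠ 0)
    (h : ∀ lam : A →ₐc[k] k[T;T⁻¹], ¬ SGA3t2b.IsTrivialBialgHom lam → ∀ m : ℤ, GLin.IsMu k A lam v m → 0 < m) :
    ∃ F ∈ GLin.invariants k A (MvPolynomial κ k), ∃ d : ℕ, 0 < d ∧ F.IsHomogeneous d ∧
      MvPolynomial.eval v F ≠ 0 ∧ ∀ z : κ → k, MvPolynomial.eval z F ≠ 0 →
        {g : A →ₐ[k] k | GLin.actPt k g (GLin.vecPt k κ z) = GLin.vecPt k κ z}.Finite := by
  classical
  obtain ⟨hcl, hfin⟩ := (HMLib.stable_iff hG hlin v hv).2 h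
  obtain ⟨S, hS, hiff⟩ := GLinFinLib.exists_invariants_stable_locus k A (MvPolynomial κ k) hG
  obtain ⟨f, hfS, hfv⟩ := (hiff _).1 ⟨(GLinFinLib.isClosedOrbit_iff _).1 hcl,
    (GLinFinLib.hasFiniteStab_iff _).1 hfin⟩
  have hss : GLin.IsSemistableVec k A v := by
    refine (HMLib.semistable_iff hG hlin v hv).2 fun lam m hm => ?_
    by_cases ht : SGA3t2b.IsTrivialBialgHom lam
    · have hl := HMLib.isLimit_of_const (HMLib.lamOrbit_of_trivial ht (GLin.vecPt k κ v))
      have h0 : GLin.IsMu k A lam v 0 := by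
        refine (Groth.Agent.S12545.result k A κ hlin lam v hv).2.1.1 ⟨?_, fun h0 => hv ?_⟩
        · obtain ⟨q, hq, -⟩ := hl
          exact ⟨q, hq⟩
        · funext i
          simpa using AlgHom.congr_fun (hl.unique h0) (MvPolynomial.X i)
      obtain ⟨m₀, -, hu⟩ := Groth.Agent.GLinMu.existsUnique_isMu lam hv
      rw [hu m hm, ← hu 0 h0]
    · exact (h lam ht m hm).le
  obtain ⟨F', hF', d', hd', hhom', hne'⟩ : ∃ F ∈ GLin.invariants k A (MvPolynomial κ k),
      ∃ d : ℕ, 0 < d ∧ F.IsHomogeneous d ∧ MvPolynomial.eval v F ≠ 0 := by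
    by_contra hcon
    push Not at hcon
    exact hss fun F hF d hd hhom => hcon F hF d hd hhom
  let c : ℕ → MvPolynomial κ k := fun e => MvPolynomial.homogeneousComponent e f
  obtain ⟨e₀, he₀, hce₀⟩ : ∃ e ∈ Finset.range (f.totalDegree + 1), MvPolynomial.eval v (c e) ≠ 0 := by
    by_contra hcon
    push Not at hcon
    apply hfv
    show MvPolynomial.eval v f = 0
    rw [← MvPolynomial.sum_homogeneousComponent (φ := f), map_sum]
    exact Finset.sum_eq_zero hcon
  refine ⟨c e₀ * F', Subalgebra.mul_mem _ (GLinFinLib.homogeneousComponent_mem_invariants hlin e₀ (hS hfS)) hF',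
    e₀ + d', Nat.add_pos_right _ hd', (MvPolynomial.homogeneousComponent_isHomogeneous e₀ f).mul hhom', ?_,
    fun z hz => ?_⟩
  · rw [map_mul]
    exact mul_ne_zero hce₀ hne'
  rw [map_mul] at hz
  let q : Polynomial k := ∑ e ∈ Finset.range (f.totalDegree + 1),
    Polynomial.C (MvPolynomial.eval z (c e)) * Polynomial.X ^ e
  have hq : q ≠ 0 := fun h0 => left_ne_zero_of_mul hz (by
    have := congrArg (fun p => Polynomial.coeff p e₀) h0
    simpa [q, Polynomial.finsetSum_coeff, Polynomial.coeff_C_mul_X_pow, he₀, Finset.mem_range.1 he₀] using this)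
  obtain ⟨r, hr⟩ : ∃ r : k, (q * Polynomial.X).eval r ≠ 0 := by
    by_contra hcon
    push Not at hcon
    exact mul_ne_zero hq Polynomial.X_ne_zero (Polynomial.funext fun r => by rw [hcon r, Polynomial.eval_zero])
  rw [Polynomial.eval_mul, Polynomial.eval_X] at hr
  refine finite_stab_smul hlin (right_ne_zero_of_mul hr) ((hiff _).2 ⟨f, hfS, ?_⟩).2
  show MvPolynomial.eval (r • z) f ≠ 0
  have e : MvPolynomial.eval (r • z) f = q.eval r := by
    rw [← MvPolynomial.sum_homogeneousComponent (φ := f), map_sum, Polynomial.eval_finsetSum]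
    refine Finset.sum_congr rfl fun e _ => ?_
    rw [eval_smul_of_isHomogeneous (MvPolynomial.homogeneousComponent_isHomogeneous e f), Polynomial.eval_mul,
      Polynomial.eval_C, Polynomial.eval_pow, Polynomial.eval_X, mul_comm]
  rw [e]
  exact left_ne_zero_of_mul hr

omit [HopfAlgebra k A] in
/-- A homomorphism from the multiplicative group with finitely many values at rational points kills them. -/
theorem comp_eq_one_of_finite [IsAlgClosed k] {G : Over (Spec (CommRingCat.of k))} [GrpObj G]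
    (l : Red.Gm (Spec (CommRingCat.of k)) ⟶ G) [IsMonHom l]
    (hfin : (Set.range fun u : 𝟙_ (Over (Spec (CommRingCat.of k))) ⟶ Red.Gm (Spec (CommRingCat.of k)) => u ≫ l).Finite)
    (hroot : ∀ (n : ℕ), 0 < n → ∀ u : (Γ((𝟙_ (Over (Spec (CommRingCat.of k)))).left, ⊤))ˣ, ∃ v, v ^ n = u)
    (u : 𝟙_ (Over (Spec (CommRingCat.of k))) ⟶ Red.Gm (Spec (CommRingCat.of k))) : u ≫ l = 1 := by
  let one := 𝟙_ (Over (Spec (CommRingCat.of k)))
  let ψ : (Γ(one.left, ⊤))ˣ →* (one ⟶ G) :=
    { toFun := fun v => (GmPts.equiv one).symm v ≫ l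
      map_one' := by rw [map_one, MonObj.one_comp]
      map_mul' := fun v v' => by rw [map_mul, MonObj.mul_comp] }
  haveI : Finite ψ.range := by
    refine Set.Finite.to_subtype (s := (ψ.range : Set (one ⟶ G))) (hfin.subset ?_)
    rintro _ ⟨v, rfl⟩
    exact ⟨_, rfl⟩
  obtain ⟨v, hv⟩ := hroot (Nat.card ψ.range) Nat.card_pos (GmPts.equiv one u)
  have h1 : (⟨ψ v, v, rfl⟩ : ψ.range) ^ Nat.card ψ.range = 1 := pow_card_eq_one'
  have h2 : ψ v ^ Nat.card ψ.range = 1 := congrArg Subtype.val h1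
  rw [← map_pow, hv] at h2
  have : (GmPts.equiv one).symm (GmPts.equiv one u) ≫ l = 1 := h2
  rwa [MulEquiv.symm_apply_apply] at this

end HMProjLib
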