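import Groth.Agent.HMProjLib.Crit
import Groth.Agent.HMProjLib.StableVec
import Groth.Agent.GLinShLib.StabLocus
import Groth.Agent.GLinStabLib.Dim

/-!
# The stability criterion
-/

set_option autoImplicit false
set_option backward.isDefEq.respectTransparency false
set_option synthInstance.maxHeartbeats 400000
set_option maxHeartbeats 1000000
set_option linter.style.haveILetI false
set_option linter.unusedSectionVars false

universe u

open CategoryTheory CategoryTheory.Limits MonoidalCategory CartesianMonoidalCategory AlgebraicGeometry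
  TopologicalSpace Opposite

noncomputable section

namespace HMProjLib

open scoped MonObj
open GLinShLib (nv)
open AttrPtLib (tau tauP tau_comp tau_ext)
open CoactBr

attribute [-instance] CategoryTheory.Hom.commGroup

variable {k : Type u} [Field k] [IsAlgClosed k] {G X : Over (Spec (CommRingCat.of k))} [GrpObj G]
  {a : AlgGrp.Action G X} {B : GLinSh.LinBun G a}

/-- Rational points with the same image agree. -/
theorem pt_ext {Y : Over (Spec (CommRingCat.of k))} [LocallyOfFiniteType Y.hom]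
    {y y' : 𝟙_ (Over (Spec (CommRingCat.of k))) ⟶ Y} (p : (𝟙_ (Over (Spec (CommRingCat.of k)))).left)
    (h : y.left p = y'.left p) : y = y' := by
  haveI := (fld_unit (k := k)).subsingleton
  obtain rfl : p = IsLocalRing.closedPoint k := Subsingleton.elim _ _
  refine Over.OverMorphism.ext (congrArg Subtype.val ((pointEquivClosedPoint Y.hom).injective
    (a₁ := ⟨y.left, Over.w y⟩) (a₂ := ⟨y'.left, Over.w y'⟩) (Subtype.ext h)))

/-- Every closed point is a rational point. -/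
theorem exists_pt {Y : Over (Spec (CommRingCat.of k))} [LocallyOfFiniteType Y.hom] {z : Y.left}
    (hz : z ∈ closedPoints Y.left) :
    ∃ y : 𝟙_ (Over (Spec (CommRingCat.of k))) ⟶ Y, ∀ q, y.left q = z :=
  ⟨Over.homMk (pointOfClosedPoint Y.hom z hz) (pointOfClosedPoint_comp _ _ _),
    fun q => pointOfClosedPoint_apply Y.hom z hz q⟩

section Cone

variable {A : Type u} [CommRing A] [HopfAlgebra k A] [Algebra.FiniteType k A]
  (w : sp k A ⟶ G) [IsMonHom w] [IsIso w] {M : ℕ} (P : Rep B M) [IsAffine G.left] [Smooth G.hom]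

/-- An invariant form with finite stabilisers has finite stabilisers on its nonvanishing locus in the base. -/
theorem finite_fixPts (hcov : Covers P) (hM : 1 ≤ M) {F : MvPolynomial (Idx P) k} {d : ℕ} (hd : 0 < d)
    (hF : F.IsHomogeneous d)
    (hinv : letI := polyComod w P; haveI := polyCoactAlg w P; F ∈ GLin.invariants k A (MvPolynomial (Idx P) k))
    (hfin : letI := polyComod w P; haveI := polyCoactAlg w P; ∀ z : Idx P → k, MvPolynomial.eval z F ≠ 0 →
      {pg : A →ₐ[k] k | GLin.actPt k pg (GLin.vecPt k (Idx P) z) = GLin.vecPt k (Idx P) z}.Finite)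
    (x : 𝟙_ (Over (Spec (CommRingCat.of k))) ⟶ X) (p : (𝟙_ (Over (Spec (CommRingCat.of k)))).left)
    (hx : x.left p ∈ GLinSh.nonvanishing B.π (toSec P F)) : Finite (GITAffLib.FixPts a x) := by
  classical
  letI := polyComod w P
  haveI := polyCoactAlg w P
  obtain ⟨U, y, hy, hU, vec, hvec⟩ := exists_isCoord P x p
  have hne : MvPolynomial.eval vec F ≠ 0 := (mem_nonvanishing_toSec P hcov hM hy p hvec hF).1 hx
  obtain ⟨i₀, hi₀⟩ : ∃ i, vec i ≠ 0 := Function.ne_iff.1 (hvec.ne_zero P hcov p)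
  let pg : GITAffLib.FixPts a x → (A →ₐ[k] k) := fun g =>
    { (valAt (g.1⁻¹ ≫ CategoryTheory.inv w)).comp (gam (k := k) A) with
      commutes' := fun c => (congrArg (valAt _) (gam_algebraMap A c)).trans (valAt_cst _ c) }
  have hpg : ∀ g (T : Over (Spec (CommRingCat.of k))) (z : A),
      fnOf A ((toUnit T ≫ g.1)⁻¹ ≫ CategoryTheory.inv w) z = cst T (pg g z) := fun g T z => by
    rw [← GrpObj.comp_inv, Category.assoc]
    exact cst_valAt (g.1⁻¹ ≫ CategoryTheory.inv w) (gam (k := k) A z) T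
  have hinj : Function.Injective pg := fun g g' h => by
    have e : (g.1⁻¹ ≫ CategoryTheory.inv w : 𝟙_ _ ⟶ sp k A) = g'.1⁻¹ ≫ CategoryTheory.inv w := by
      refine fnOf_injective (RingHom.ext fun z => ?_)
      have e1 := hpg g (𝟙_ _) z
      have e2 := hpg g' (𝟙_ _) z
      rw [toUnit_unique (toUnit (𝟙_ (Over (Spec (CommRingCat.of k))))) (𝟙 _), Category.id_comp] at e1 e2
      rw [e1, e2, h]
    exact Subtype.ext (inv_injective ((cancel_mono (CategoryTheory.inv w)).1 e))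
  let roots : Set k := {r | r ^ d = 1}
  have hroots : roots.Finite := (Polynomial.nthRoots d (1 : k)).toFinset.finite_toSet.subset fun r (hr : r ^ d = 1) => by
    simp [Polynomial.mem_nthRoots hd, hr]
  have hS : (⋃ r ∈ roots, {δ : A →ₐ[k] k | GLin.actPt k δ (GLin.vecPt k (Idx P) vec) =
      GLin.vecPt k (Idx P) (r • vec)}).Finite :=
    hroots.biUnion fun r _ => GLinFinLib.finite_fibre_of_finite_stab (hfin vec hne) _
  haveI := hS.to_subtype
  refine Finite.of_injective (fun g => (⟨pg g, ?_⟩ : ↥(⋃ r ∈ roots, {δ : A →ₐ[k] k |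
    GLin.actPt k δ (GLin.vecPt k (Idx P) vec) = GLin.vecPt k (Idx P) (r • vec)}))) fun g g' h =>
      hinj (congrArg Subtype.val h)
  let wv : Idx P → k := fun i => GLin.actPt k (pg g) (GLin.vecPt k (Idx P) vec) (MvPolynomial.X i)
  have hwv : ∀ i, wv i = ∑ j, vec j * pg g (mat w P i j) := fun i =>
    actPt_X (coactHom_X w P i) (pg g) vec
  obtain ⟨T, θ, v, hv, hT, hY⟩ := exists_unit_coord P hcov hM hy p fld_unit hU
  haveI := hT.nontrivial
  let h : T ⟶ G := toUnit T ≫ g.1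
  have hv' : (lift h v ≫ B.lift.act) ≫ B.π = toUnit T ≫ x := by
    rw [lift_act_π, hv, ← comp_lift_assoc, g.2]
  let Y := HMNum.evalFn B.π y v (HMNum.top_le_preimage B.π hU hv)
  let Y' := HMNum.evalFn B.π y (lift h v ≫ B.lift.act) (HMNum.top_le_preimage B.π hU hv')
  have hkey : ∀ i, cst T (wv i) * Y ^ M = cst T (vec i) * Y' ^ M := fun i => by
    rw [← hvec i T _ hv', P.law T h v i.down, hwv, map_sum, Finset.sum_mul]
    refine Fintype.sum_equiv Equiv.ulift _ _ fun j => ?_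
    show cst T (vec j * pg g (mat w P i j)) * Y ^ M = ev h (P.m i.down j.down) * ev v (P.s j.down)
    rw [map_mul, ← hpg, fnOf_mat', hvec j T v hv]
    ring
  let r : k := wv i₀ / vec i₀
  have hrY : Y' ^ M = cst T r * Y ^ M := by
    refine (hi₀.isUnit.map (cst T)).mul_right_inj.1 ?_
    rw [← hkey i₀, ← mul_assoc, ← map_mul, mul_div_cancel₀ _ hi₀]
  have hw : wv = r • vec := funext fun i => by
    have e := hkey i
    rw [hrY, ← mul_assoc, ← map_mul] at e
    rw [Pi.smul_apply, smul_eq_mul, mul_comm]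
    exact (cst T).injective ((hY.pow M).mul_left_inj.1 e)
  have hpt : GLin.actPt k (pg g) (GLin.vecPt k (Idx P) vec) = GLin.vecPt k (Idx P) (r • vec) :=
    MvPolynomial.algHom_ext fun i => by rw [MvPolynomial.aeval_X, ← hw]
  have hr : r ^ d = 1 := by
    have e : MvPolynomial.eval (r • vec) F = MvPolynomial.eval vec F :=
      (AlgHom.congr_fun hpt F).symm.trans (GLinFinLib.eq_on_invariants_actPt (pg g) (GLin.vecPt k (Idx P) vec) hinv)
    rw [eval_smul_of_isHomogeneous hF] at e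
    exact (mul_eq_right₀ hne).1 e
  exact Set.mem_biUnion (hr : r ∈ roots) hpt

end Cone

variable [IsAffine G.left] [Smooth G.hom] [IsProper X.hom]

/-- Finite stabilisers at rational points give finite geometric stabilisers and closed orbits. -/
theorem closedOrbits_and_finite (U : X.left.Opens)
    (h : ∀ (x : 𝟙_ (Over (Spec (CommRingCat.of k))) ⟶ X) (p : (𝟙_ (Over (Spec (CommRingCat.of k)))).left),
      x.left p ∈ U → Finite (GITAffLib.FixPts a x)) :
    GLinSh.ClosedOrbitsOn a U ∧ ∀ (Ω : Type u) [Field Ω] [IsAlgClosed Ω] (T : Over (Spec (CommRingCat.of k)))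
      (_ : T.left ≅ Spec (CommRingCat.of Ω)) (f : T ⟶ X), Set.range f.left.base ⊆ (U : Set X.left) →
        IsFinite (GLinSh.stabTo a f) := by
  haveI := GLinStab.lft_stabTo a (𝟙 X)
  haveI := (fld_unit (k := k)).subsingleton
  haveI : JacobsonSpace X.left := LocallyOfFiniteType.jacobsonSpace X.hom
  have hle : (U : Set X.left) ⊆ (GLinShLib.finLocus a : Set X.left) := by
    by_contra hcon
    obtain ⟨q, hq⟩ := Set.not_subset.1 hcon
    obtain ⟨z, ⟨hzU, hzF⟩, hz⟩ := nonempty_inter_closedPoints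
      (Z := (U : Set X.left) ∩ (GLinShLib.finLocus a : Set X.left)ᶜ) ⟨q, hq.1, hq.2⟩
      (U.isOpen.isLocallyClosed.inter (GLinShLib.finLocus a).isOpen.isClosed_compl.isLocallyClosed)
    obtain ⟨x, hxz⟩ := exists_pt hz
    let p : (𝟙_ (Over (Spec (CommRingCat.of k)))).left := IsLocalRing.closedPoint k
    have hfix := h x p (by rw [hxz]; exact hzU)
    have := (GLinShLib.isFinite_stabTo_iff a (Iso.refl _) x p).1.1
      ((GITAffLib.finite_stab_iff a (Iso.refl _) x).2 hfix)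
    rw [hxz] at this
    exact hzF this
  have hfinite : ∀ (Ω : Type u) [Field Ω] [IsAlgClosed Ω] (T : Over (Spec (CommRingCat.of k)))
      (_ : T.left ≅ Spec (CommRingCat.of Ω)) (f : T ⟶ X), Set.range f.left.base ⊆ (U : Set X.left) →
        IsFinite (GLinSh.stabTo a f) := fun Ω _ _ T e f hf => by
    let t : T.left := e.inv (IsLocalRing.closedPoint Ω)
    exact (GLinShLib.isFinite_stabTo_iff a e f t).1.2 (hle (hf ⟨t, rfl⟩))
  refine ⟨GLinStab.closedOrbitsOn_of_const a (c := 0) fun z hz => ?_, hfinite⟩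
  obtain ⟨K, _, _, q, hq⟩ := Groth.Agent.GrpField.exists_geomPoint z
  let T : Over (Spec (CommRingCat.of k)) := Over.mk (q ≫ X.hom)
  let f : T ⟶ X := Over.homMk q rfl
  haveI : Subsingleton T.left := inferInstanceAs (Subsingleton (PrimeSpectrum K))
  let t : T.left := IsLocalRing.closedPoint K
  have hft : f.left t = z := hq t
  haveI := hfinite K T (Iso.refl _) f (by
    rintro _ ⟨t', rfl⟩
    rw [Subsingleton.elim t' t]
    exact hft.symm ▸ hz)
  haveI : DiscreteTopology (GLinSh.stab a f) := by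
    have hd := (GLinSh.stabTo a f).isDiscrete_preimage_singleton t
    rw [show (GLinSh.stabTo a f) ⁻¹' {t} = Set.univ from Set.eq_univ_of_forall fun _ => Subsingleton.elim _ _,
      isDiscrete_iff_discreteTopology] at hd
    exact (Homeomorph.Set.univ _).discreteTopology
  obtain ⟨d, hd⟩ := GLinStab.exists_stabDim_eq_nat a z
  have hle0 := topologicalKrullDim_zero_of_discreteTopology ↥(GLinSh.stab a f)
  rw [GLinStab.dim_stab a f t, hft, hd] at hle0
  obtain rfl : d = 0 := Nat.le_zero.1 (by exact_mod_cast hle0)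
  rw [hd, Nat.cast_zero]

variable [CharZero k]

/-- Positive numerical function implies proper stability. -/
theorem isProperlyStable_of_pos (hG : Red.IsReductive G) (hB : HMNum.AmpleCover B)
    (x : 𝟙_ (Over (Spec (CommRingCat.of k))) ⟶ X) (p : (𝟙_ (Over (Spec (CommRingCat.of k)))).left)
    (hμ : ∀ (l : Red.Gm (Spec (CommRingCat.of k)) ⟶ G) [IsMonHom l], l ≠ 1 → ∀ m : ℤ, HMNum.IsMu B l x m → 0 < m) :
    B.IsProperlyStablePt (x.left.base p) := by
  obtain ⟨A, _, _, w, _, _, hlr, _, M, P, hM, hcov, hA1, hA2, hA3, hA4⟩ := exists_coneData hG hB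
  haveI := hA1; haveI := hA2; haveI := hA3; haveI := hA4
  obtain ⟨U, y, hy, hU, vec, hvec⟩ := exists_isCoord P x p
  letI := polyComod w P
  haveI := polyCoactAlg w P
  obtain ⟨F, hF, d, hd, hhom, hne, hfin⟩ := exists_stable_form hlr (polyLinear w P) vec (hvec.ne_zero P hcov p)
    fun lam hlam m hm => by
      obtain ⟨l, hl, hl1, hle⟩ := exists_le_cone w P hcov hM hy p hvec lam m hm
      obtain ⟨mx, hmx⟩ := exists_isMu B l hB x
      exact lt_of_lt_of_le (mul_pos (by exact_mod_cast hM) (hμ l (fun e => hlam (hl1 e)) mx hmx)) (hle mx hmx)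
  have hsec : B.IsInvSection (M * d) (toSec P F) := ⟨hasWeight_toSec P hhom, isInvFn_toSec w P hF⟩
  have hxf := (mem_nonvanishing_toSec P hcov hM hy p hvec hhom).2 hne
  have hn : 1 ≤ M * d := Nat.mul_pos (by omega) hd
  obtain ⟨hcl, hfin'⟩ := closedOrbits_and_finite (a := a) (nv hsec.1) fun x' p' hx' =>
    finite_fixPts w P hcov hM hd hhom hF hfin x' p' hx'
  refine ⟨⟨_, _, hn, hsec, hxf, nv hsec.1, rfl, isAffineOpen_nv B hB hn hsec.1, hcl⟩, fun Ω _ _ T e f hf => ?_⟩
  exact hfin' Ω T e f (hf.le.trans (Set.singleton_subset_iff.2 hxf))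

omit [CharZero k] in
theorem eq_one_of_comp_eq_one (l : Red.Gm (Spec (CommRingCat.of k)) ⟶ G)
    (h : ∀ u : 𝟙_ (Over (Spec (CommRingCat.of k))) ⟶ Red.Gm (Spec (CommRingCat.of k)), u ≫ l = 1) : l = 1 := by
  refine Over.OverMorphism.ext (ext_of_isAffine ?_)
  refine CommRingCat.hom_ext (RingHom.ext fun s => sub_eq_zero.1 (eq_zero_of_forall_valAt _ fun g => ?_))
  rw [map_sub, sub_eq_zero]
  show valAt g (ev l s) = valAt g (ev (1 : Red.Gm (Spec (CommRingCat.of k)) ⟶ G) s)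
  refine (cst_unit_bijective (k := k)).1 ?_
  refine (cst_valAt g _ _).symm.trans (Eq.trans ?_ (cst_valAt g _ _))
  refine (ev_comp _ l s).symm.trans (Eq.trans ?_ (ev_comp _ (1 : Red.Gm (Spec (CommRingCat.of k)) ⟶ G) s))
  simp only [Category.assoc, h, MonObj.comp_one]

variable (l : Red.Gm (Spec (CommRingCat.of k)) ⟶ G) [IsMonHom l]

omit [IsAffine G.left] [Smooth G.hom] [CharZero k] in
/-- The line of the orbit closure: where the coordinate is a unit it is the orbit. -/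
theorem exists_good {x : 𝟙_ (Over (Spec (CommRingCat.of k))) ⟶ X}
    (φ : (HMNum.attrPlus a l).obj (op (𝟙_ _)))
    (hφx : (Magnet.attrToX (HMNum.gmAct a l) HMNum.plus).app (op (𝟙_ _)) φ = x)
    (q : (HMNum.A1 (Spec (CommRingCat.of k)) ⊗ 𝟙_ _).left)
    (hq : q ∈ (HMNum.A1 (Spec (CommRingCat.of k)) ⊗ 𝟙_ _).left.basicOpen (tauP (𝟙_ _))) :
    ∃ (T : Over (Spec (CommRingCat.of k))) (g : T ⟶ Red.Gm (Spec (CommRingCat.of k)))
      (v : T ⟶ HMNum.A1 (Spec (CommRingCat.of k)) ⊗ 𝟙_ _),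
      Fld T ∧ (∀ t, v.left t = q) ∧ v ≫ φ.1 = lift (g ≫ l) (toUnit T ≫ x) ≫ a.act ∧
        ev v (tauP (𝟙_ _)) = ((GmPts.unitOfPt g : (Γ(T.left, ⊤))ˣ) : Γ(T.left, ⊤)) := by
  obtain ⟨T, v, hT, hv⟩ := exists_fld q
  obtain ⟨t⟩ := hT.nonempty
  have hu : IsUnit (ev v (tauP (𝟙_ _))) := (mem_basicOpen_iff_isUnit hT v _ t).1 (by rw [hv]; exact hq)
  let g : T ⟶ Red.Gm (Spec (CommRingCat.of k)) := GmPts.ptOfUnit hu.unit
  have hg : GmPts.unitOfPt g = hu.unit := GmPts.unitOfPt_ptOfUnit _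
  have e : v = lift (g ≫ HMNum.incl _) (toUnit T) := by
    refine CartesianMonoidalCategory.hom_ext _ _ ?_ (toUnit_unique _ _)
    rw [lift_fst]
    refine tau_ext ?_
    rw [tau_incl, hg, IsUnit.unit_spec, tau_comp]
    rfl
  refine ⟨T, g, v, hT, hv, ?_, by rw [hg, IsUnit.unit_spec]⟩
  rw [e]
  exact attr_incl φ hφx g (toUnit T)

omit [IsAffine G.left] [Smooth G.hom] [IsProper X.hom] [CharZero k] in
theorem basicOpen_tau_nonempty :
    ((HMNum.A1 (Spec (CommRingCat.of k)) ⊗ 𝟙_ _).left.basicOpen (tauP (𝟙_ _)) :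
      Set (HMNum.A1 (Spec (CommRingCat.of k)) ⊗ 𝟙_ _).left).Nonempty := by
  let one := 𝟙_ (Over (Spec (CommRingCat.of k)))
  let w : one ⟶ HMNum.A1 _ ⊗ one :=
    lift ((GmPts.ptOfUnit (1 : (Γ(one.left, ⊤))ˣ) : one ⟶ Red.Gm _) ≫ HMNum.incl _) (𝟙 one)
  obtain ⟨p⟩ := (fld_unit (k := k)).nonempty
  refine ⟨w.left p, ?_⟩
  rw [SetLike.mem_coe, mem_basicOpen_iff_isUnit fld_unit w _ p]
  have : ev w (tauP one) = tau (w ≫ fst _ _) := (tau_comp w _).symm
  rw [this, lift_fst, tau_incl, GmPts.unitOfPt_ptOfUnit]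
  exact isUnit_one

omit [IsAffine G.left] [Smooth G.hom] [CharZero k] in
/-- An eigensection of extreme degree is nonvanishing at the limit. -/
theorem mem_of_limit {x y : 𝟙_ (Over (Spec (CommRingCat.of k))) ⟶ X} (hxy : HMNum.IsLimitPt a l x y) {N : ℕ}
    {R₀ : ℤ} {F₀ F : Γ(B.V.left, ⊤)} (hF₀ : GLinSh.HasWeight B.atlas.chart N F₀) (he₀ : IsEig B l R₀ F₀)
    (hF : GLinSh.HasWeight B.atlas.chart N F) (he : IsEig B l R₀ F)
    (p : (𝟙_ (Over (Spec (CommRingCat.of k)))).left) (hy : y.left p ∈ GLinSh.nonvanishing B.π F₀)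
    (hx : x.left p ∈ GLinSh.nonvanishing B.π F₀) (hxF : x.left p ∈ GLinSh.nonvanishing B.π F) :
    y.left p ∈ GLinSh.nonvanishing B.π F := by
  let one := 𝟙_ (Over (Spec (CommRingCat.of k)))
  obtain ⟨φ, hφx, rfl⟩ := hxy
  haveI := isIntegral_A1_prod one
  haveI := (fld_unit (k := k)).subsingleton
  let A := HMNum.A1 (Spec (CommRingCat.of k)) ⊗ one
  let o : one ⟶ A := lift (toUnit one ≫ HMNum.origin _) (𝟙 one)
  have ho : o ≫ φ.1 = HMNum.limitPt φ := (HMNum.limitPt_eq φ).symm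
  let O : A.left.Opens := φ.1.left ⁻¹ᵁ nv hF₀
  have hoO : o.left p ∈ O := by
    show (o ≫ φ.1).left p ∈ nv hF₀
    rw [ho]; exact hy
  obtain ⟨h, hh⟩ := GLinShLib.exists_ratio' (n := 1) (m := 1) hF₀ hF rfl
  have hxle : ⊤ ≤ x.left ⁻¹ᵁ nv hF₀ := fun z _ => by
    show x.left z ∈ nv hF₀
    rw [Subsingleton.elim z p]; exact hx
  let c := x.left.appLE (nv hF₀) ⊤ hxle h
  have hc : IsUnit c := by
    refine one.left.toLocallyRingedSpace.toRingedSpace.isUnit_of_isUnit_germ ⊤ _ fun z hz =>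
      (one.left.mem_basicOpen _ z hz).1 ?_
    rw [Scheme.basicOpen_appLE, GLinShLib.basicOpen_ratio' one_ne_zero hF₀ hF hh]
    refine ⟨trivial, ?_⟩
    show x.left z ∈ nv hF₀ ⊓ nv hF
    rw [Subsingleton.elim z p]; exact ⟨hx, hxF⟩
  let s : Γ(A.left, O) := φ.1.left.appLE (nv hF₀) O le_rfl h - (toUnit A).left.appLE ⊤ O le_top c
  have heval : ∀ (T : Over (Spec (CommRingCat.of k))) (v : T ⟶ A) (hv : ⊤ ≤ v.left ⁻¹ᵁ O),
      v.left.appLE O ⊤ hv s = (v ≫ φ.1).left.appLE (nv hF₀) ⊤ hv h - (toUnit T).left.appTop c := by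
    intro T v hv
    rw [map_sub, GLinExtLib.appLE_appLE', GLinExtLib.appLE_appLE']
    refine congrArg₂ (· - ·) rfl ?_
    rw [Scheme.Hom.appTop, Scheme.Hom.app_eq_appLE]
    exact GLinExtLib.appLE_hom (congrArg CommaMorphism.left (toUnit_unique (v ≫ toUnit A) (toUnit T))) _ _ c
  have hs : s = 0 := by
    by_contra hne
    have hne' : (A.left.basicOpen s : Set A.left).Nonempty := by
      by_contra hemp
      exact hne (eq_zero_of_basicOpen_eq_bot _ (Opens.ext (Set.not_nonempty_iff_eq_empty.1 hemp)))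
    obtain ⟨q, hqs, hqτ⟩ := nonempty_preirreducible_inter (A.left.basicOpen s).isOpen
      (A.left.basicOpen (tauP one)).isOpen hne' basicOpen_tau_nonempty
    obtain ⟨T, g, v, hT, hv, hvφ, -⟩ := exists_good (a := a) l φ hφx q hqτ
    obtain ⟨t⟩ := hT.nonempty
    have hvO : ⊤ ≤ v.left ⁻¹ᵁ O := fun z _ => by
      show v.left z ∈ O
      rw [hv]; exact A.left.basicOpen_le _ hqs
    have h0 : t ∈ T.left.basicOpen (v.left.appLE O ⊤ hvO s) := by
      rw [Scheme.basicOpen_appLE]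
      exact ⟨trivial, by show v.left t ∈ A.left.basicOpen s; rw [hv]; exact hqs⟩
    have hgx : ⊤ ≤ (lift (g ≫ l) (toUnit T ≫ x) ≫ a.act).left ⁻¹ᵁ nv hF₀ := by rw [← hvφ]; exact hvO
    have hux : ⊤ ≤ (toUnit T ≫ x).left ⁻¹ᵁ nv hF₀ := fun z _ => hxle (x := (toUnit T).left z) trivial
    have key : v.left.appLE O ⊤ hvO s = 0 := by
      rw [heval, GLinExtLib.appLE_hom (congrArg CommaMorphism.left hvφ) _ hgx,
        ratio_act hF₀ he he₀ hh hT g (toUnit T ≫ x) hux hgx, sub_self, zpow_zero, Units.val_one, one_mul,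
        sub_eq_zero]
      exact (appTop_appLE (toUnit T).left x.left hxle h).symm
    rw [key, Scheme.basicOpen_zero] at h0
    exact h0
  have hle : ⊤ ≤ o.left ⁻¹ᵁ O := fun z _ => by
    show o.left z ∈ O
    rw [Subsingleton.elim z p]; exact hoO
  have h1 := heval one o hle
  rw [hs, map_zero, eq_comm, sub_eq_zero] at h1
  have hu : IsUnit ((o ≫ φ.1).left.appLE (nv hF₀) ⊤ hle h) := by rw [h1]; exact hc.map _
  have hp : p ∈ one.left.basicOpen ((o ≫ φ.1).left.appLE (nv hF₀) ⊤ hle h) := by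
    rw [one.left.basicOpen_of_isUnit hu]; trivial
  rw [Scheme.basicOpen_appLE, GLinShLib.basicOpen_ratio' one_ne_zero hF₀ hF hh] at hp
  rw [← ho]
  exact hp.2.2

omit [Smooth G.hom] [CharZero k] in
/-- A limit in an open where orbits are closed is a translate. -/
theorem exists_translate [LocallyOfFiniteType G.hom] {x y : 𝟙_ (Over (Spec (CommRingCat.of k))) ⟶ X}
    (hxy : HMNum.IsLimitPt a l x y)
    (p : (𝟙_ (Over (Spec (CommRingCat.of k)))).left) {U : X.left.Opens} (hcl : GLinSh.ClosedOrbitsOn a U)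
    (hxU : x.left p ∈ U) (hyU : y.left p ∈ U) :
    ∃ g : 𝟙_ (Over (Spec (CommRingCat.of k))) ⟶ G, lift g x ≫ a.act = y := by
  let one := 𝟙_ (Over (Spec (CommRingCat.of k)))
  obtain ⟨φ, hφx, rfl⟩ := hxy
  haveI := isIntegral_A1_prod one
  haveI := (fld_unit (k := k)).subsingleton
  let A := HMNum.A1 (Spec (CommRingCat.of k)) ⊗ one
  let o : one ⟶ A := lift (toUnit one ≫ HMNum.origin _) (𝟙 one)
  have ho : o ≫ φ.1 = HMNum.limitPt φ := (HMNum.limitPt_eq φ).symm
  let Φ : A ⟶ X ⊗ one := lift φ.1 (toUnit A)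
  have hΦ : ∀ q, (fst X one).left (Φ.left q) = φ.1.left q := fun q => by
    rw [← Scheme.Hom.comp_apply, ← Over.comp_left, lift_fst]
  let O : A.left.Opens := φ.1.left ⁻¹ᵁ U
  have hoO : o.left p ∈ O := by
    show (o ≫ φ.1).left p ∈ U
    rw [ho]; exact hyU
  have hclosed := hcl k one (Iso.refl _) x (by
    rintro _ ⟨z, rfl⟩
    rw [Subsingleton.elim z p]; exact hxU)
  let j : O → (fst X one).left ⁻¹ᵁ U := fun q => ⟨Φ.left q.1, by show (fst X one).left (Φ.left q.1) ∈ U; rw [hΦ]; exact q.2⟩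
  have hj : Continuous j := (Φ.left.continuous.comp continuous_subtype_val).subtype_mk _
  have hC := hclosed.preimage hj
  have hmem : (⟨o.left p, hoO⟩ : O) ∈ {q : O | Φ.left q.1 ∈ Set.range (GIT.psi a x).left} := by
    by_contra hno
    obtain ⟨q, ⟨q', hq', rfl⟩, hqτ⟩ := nonempty_preirreducible_inter
      (O.isOpen.isOpenMap_subtype_val _ hC.isOpen_compl) (A.left.basicOpen (tauP one)).isOpen
      ⟨_, ⟨o.left p, hoO⟩, hno, rfl⟩ basicOpen_tau_nonempty
    obtain ⟨T, g, v, hT, hv, hvφ, -⟩ := exists_good (a := a) l φ hφx q'.1 hqτ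
    obtain ⟨t⟩ := hT.nonempty
    refine hq' ⟨(lift (g ≫ l) (toUnit T)).left t, ?_⟩
    show (GIT.psi a x).left _ = Φ.left q'.1
    rw [← hv t, ← Scheme.Hom.comp_apply, ← Scheme.Hom.comp_apply, ← Over.comp_left, ← Over.comp_left]
    refine congrArg (fun m : T ⟶ X ⊗ one => m.left t) (CartesianMonoidalCategory.hom_ext _ _ ?_ (toUnit_unique _ _))
    simp [GIT.psi, Φ, hvφ]
    exact (lift_fst _ _).symm
  obtain ⟨w, hw⟩ := hmem
  let orb : G ⟶ X := lift (𝟙 G) (toUnit G ≫ x) ≫ a.act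
  have horb : fst G one ≫ orb = GIT.psi a x ≫ fst X one := by
    rw [GIT.psi, lift_fst, comp_lift_assoc, Category.comp_id, ← Category.assoc, toUnit_unique (fst G one ≫ toUnit G)
      (snd G one)]
    congr 1
  have hy0 : ((HMNum.limitPt φ).left p) ∈ Set.range orb.left := by
    refine ⟨(fst G one).left w, ?_⟩
    rw [← Scheme.Hom.comp_apply, ← Over.comp_left, horb, Over.comp_left, Scheme.Hom.comp_apply, hw, hΦ, ← ho]
    rfl
  have hclp : IsClosed ({(HMNum.limitPt φ).left p} : Set X.left) := by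
    rw [show p = IsLocalRing.closedPoint k from Subsingleton.elim _ _]
    exact ((pointEquivClosedPoint X.hom) ⟨(HMNum.limitPt φ).left, Over.w _⟩).2
  haveI : JacobsonSpace G.left := LocallyOfFiniteType.jacobsonSpace G.hom
  obtain ⟨z, hz, hzc⟩ := nonempty_inter_closedPoints (Z := orb.left ⁻¹' {(HMNum.limitPt φ).left p}) hy0
    (hclp.preimage orb.left.continuous).isLocallyClosed
  obtain ⟨g, hg⟩ := exists_pt hzc
  refine ⟨g, pt_ext p ?_⟩
  have e : lift g x ≫ a.act = g ≫ orb := by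
    rw [comp_lift_assoc, Category.comp_id, ← Category.assoc, toUnit_unique (g ≫ toUnit G) (𝟙 _), Category.id_comp]
  rw [e, Over.comp_left, Scheme.Hom.comp_apply, hg]
  exact hz

omit [IsAffine G.left] [Smooth G.hom] [IsProper X.hom] [CharZero k] in
theorem exists_root (n : ℕ) (hn : 0 < n) (u : (Γ((𝟙_ (Over (Spec (CommRingCat.of k)))).left, ⊤))ˣ) :
    ∃ v, v ^ n = u := by
  let e := RingEquiv.ofBijective _ (cst_unit_bijective (k := k))
  obtain ⟨z, hz⟩ := IsAlgClosed.exists_pow_nat_eq (e.symm (u : Γ((𝟙_ (Over (Spec (CommRingCat.of k)))).left, ⊤))) hn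
  have h : e z ^ n = u := by rw [← map_pow, hz, e.apply_symm_apply]
  have hu : IsUnit (e z) := (isUnit_pow_iff (by omega)).1 (h ▸ u.isUnit)
  exact ⟨hu.unit, Units.ext (by rw [Units.val_pow_eq_pow_val, IsUnit.unit_spec, h])⟩

/-- Proper stability implies positive numerical function. -/
theorem pos_of_isProperlyStable (hB : HMNum.AmpleCover B)
    (x : 𝟙_ (Over (Spec (CommRingCat.of k))) ⟶ X) (p : (𝟙_ (Over (Spec (CommRingCat.of k)))).left)
    (hx : B.IsProperlyStablePt (x.left.base p)) (hl : l ≠ 1) (m : ℤ) (hm : HMNum.IsMu B l x m) : 0 < m := by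
  obtain ⟨⟨n, f, hn, hf, hxf, U, hU, -, hcl⟩, hfin⟩ := hx
  haveI := (fld_unit (k := k)).subsingleton
  refine lt_of_le_of_ne (nonneg_of_invariant hB x p hn hf hxf l m hm) fun h0 => hl ?_
  subst h0
  obtain ⟨Mn⟩ := exists_gmMono (k := k)
  obtain ⟨N, n', c, b, hb, hcov⟩ := exists_cover Mn l hB
  obtain ⟨y, hxy, hy⟩ := mul_eq_of_isMu hm p
  obtain ⟨j, hj⟩ := hcov (y.left p)
  have he : IsEig B l (deg Mn (c j) (𝟙 _)) (b j) := by
    simpa using isEig_of_monomial (B := B) Mn l (hb j).2.2 (𝟙 _)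
  obtain ⟨hr, hxb, -⟩ := hy (n' j) _ (b j) (hb j).1 (hb j).2.1 he hj
  rw [mul_zero, neg_zero] at hr
  rw [hr] at he
  have hn' := (hb j).1
  have he₀ : IsEig B l 0 (b j ^ n) := by have := he.pow n; rwa [zero_mul] at this
  have he₁ : IsEig B l 0 (f ^ n' j) := by have := (isEig_of_isInvFn (l := l) hf.2).pow (n' j); rwa [zero_mul] at this
  have hw₁ : GLinSh.HasWeight B.atlas.chart (n' j * n) (f ^ n' j) := by
    rw [mul_comm]; exact GLinShLib.hasWeight_pow hf.1 (n' j)
  have hyf : y.left p ∈ GLinSh.nonvanishing B.π f := by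
    have := mem_of_limit l hxy (GLinShLib.hasWeight_pow (hb j).2.1 n) he₀ hw₁ he₁ p
      (by rw [GLinShLib.nonvanishing_pow _ hn]; exact hj) (by rw [GLinShLib.nonvanishing_pow _ hn]; exact hxb)
      (by rw [GLinShLib.nonvanishing_pow _ hn']; exact hxf)
    rwa [GLinShLib.nonvanishing_pow _ hn'] at this
  have hmemU : ∀ z, z ∈ U ↔ z ∈ GLinSh.nonvanishing B.π f := fun z => Set.ext_iff.1 hU z
  obtain ⟨g, hg⟩ := exists_translate (a := a) l hxy p hcl ((hmemU _).2 hxf) ((hmemU _).2 hyf)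
  have hrange : Set.range x.left.base = {x.left.base p} :=
    Set.ext fun z => ⟨fun ⟨t, ht⟩ => by rw [← ht, Subsingleton.elim t p]; rfl, fun hz => ⟨p, hz.symm⟩⟩
  haveI : Finite (GITAffLib.FixPts a x) :=
    (GITAffLib.finite_stab_iff a (Iso.refl _) x).1 (hfin k (𝟙_ _) (Iso.refl _) x hrange)
  have hfix : ∀ u : 𝟙_ _ ⟶ Red.Gm (Spec (CommRingCat.of k)),
      lift (g⁻¹ * ((u ≫ l) * g)) x ≫ a.act = x := fun u => by
    have h1 := isFixedBy_of_isLimitPt l hxy (𝟙_ _) (𝟙 _) u
    rw [Category.id_comp] at h1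
    rw [a.lift_mul_act, a.lift_mul_act, hg, h1, ← hg, ← a.lift_mul_act, inv_mul_cancel, a.lift_one_act]
  refine eq_one_of_comp_eq_one l fun u => comp_eq_one_of_finite l ?_ exists_root u
  refine (Set.finite_range fun z : GITAffLib.FixPts a x => g * (z.1 * g⁻¹)).subset ?_
  rintro _ ⟨u, rfl⟩
  exact ⟨⟨_, hfix u⟩, by
    show g * ((g⁻¹ * ((u ≫ l) * g)) * g⁻¹) = u ≫ l
    rw [mul_assoc g⁻¹, mul_assoc (u ≫ l), mul_inv_cancel, mul_one, mul_inv_cancel_left]⟩

/-- The Hilbert-Mumford criterion for proper stability. -/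
theorem isProperlyStablePt_iff (hG : Red.IsReductive G) (hB : HMNum.AmpleCover B)
    (x : 𝟙_ (Over (Spec (CommRingCat.of k))) ⟶ X) (p : (𝟙_ (Over (Spec (CommRingCat.of k)))).left) :
    B.IsProperlyStablePt (x.left.base p) ↔
      ∀ (l : Red.Gm (Spec (CommRingCat.of k)) ⟶ G) [IsMonHom l], l ≠ 1 → ∀ m : ℤ, HMNum.IsMu B l x m → 0 < m :=
  ⟨fun h l _ hl m hm => pos_of_isProperlyStable l hB x p h hl m hm,
    fun h => isProperlyStable_of_pos hG hB x p h⟩

end HMProjLib
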